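import Cfsg.Agent.Lib.MaxClassEss85.AbelShift
import Cfsg.Agent.Lib.StronglyP.Basic

/-!
The abelian case: the Sylow subgroup is a trivial intersection set, and then an invariant bilinear
map forces an invariant chain stabilised by a nontrivial element.
-/

set_option autoImplicit false

namespace Cfsg.Agent.Lib.MaxClassEss85.Abel

universe u v

open Cfsg.Agent.Lib.MaxClassEss85

variable {p : ℕ} [hp : Fact p.Prime] {X : Type u} [Group X] [Finite X] {V : Type v}
  [AddCommGroup V] [Module (ZMod p) V] {D : Datum p X V} {x : X} {m : ℕ}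
  {q : Module.End (ZMod p) V} {v0 : V}

/-- The subgroup `C` leaves level `i` of the flag invariant. -/
def Keeps (D : Datum p X V) (C : Subgroup X) (i : ℕ) : Prop :=
  ∀ c ∈ C, ∀ w ∈ D.Fl i, D.rho c w ∈ D.Fl i

/-- The stabiliser of a chain is a `p`-subgroup normalised by everything keeping the chain. -/
theorem Setup.chain_stabilizer (S : Setup D x m q v0) (Y : Subgroup X)
    (c : ℕ → Submodule (ZMod p) V) (L : ℕ) (h0 : ∀ w, w ∈ c 0) (hL : ∀ w ∈ c L, w = 0)
    (hY : ∀ g ∈ Y, ∀ i, ∀ w ∈ c i, D.rho g w ∈ c i) :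
    ∃ K : Subgroup X, IsPGroup p K ∧ Y ≤ Subgroup.normalizer (K : Set X) ∧
      ∀ g, g ∈ K ↔ g ∈ Y ∧ ∀ i, ∀ w ∈ c i, D.rho g w - w ∈ c (i + 1) := by
  let K : Subgroup X :=
    { carrier := {g | g ∈ Y ∧ ∀ i, ∀ w ∈ c i, D.rho g w - w ∈ c (i + 1)}
      one_mem' := ⟨one_mem Y, fun i w _ => by simp⟩
      mul_mem' := fun {g h} hg hh => ⟨mul_mem hg.1 hh.1, fun i w hw => by
        have h1 := (c (i + 1)).add_mem (hY g hg.1 _ _ (hh.2 i w hw)) (hg.2 i w hw)
        simpa [rho_mul, map_sub] using h1⟩
      inv_mem' := fun {g} hg => ⟨inv_mem hg.1, fun i w hw => by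
        have h1 := (c (i + 1)).neg_mem (hY _ (inv_mem hg.1) _ _ (hg.2 i w hw))
        simpa [map_sub, rho_inv'] using h1⟩ }
  refine ⟨K, ?_, ?_, fun g => Iff.rfl⟩
  · rintro ⟨g, hg⟩
    refine ⟨L, Subtype.ext (D.faithful ?_)⟩
    haveI : Nontrivial V := ⟨⟨(D.N ^ (D.d - 1)) v0, 0, S.hv0⟩⟩
    haveI : CharP (Module.End (ZMod p) V) p :=
      charP_of_injective_algebraMap (algebraMap (ZMod p) (Module.End (ZMod p) V)).injective p
    have h1 : ∀ (i : ℕ) (w : V), ((D.rho g - 1) ^ i) w ∈ c i := by
      intro i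
      induction i with
      | zero => intro w; simpa using h0 w
      | succ i ih =>
        intro w
        rw [pow_succ', Module.End.mul_apply, LinearMap.sub_apply, Module.End.one_apply]
        exact hg.2 i _ (ih w)
    have h2 : (D.rho g - 1) ^ p ^ L = 0 := by
      refine pow_eq_zero_of_le (Nat.lt_pow_self hp.out.one_lt).le ?_
      exact LinearMap.ext fun w => hL _ (h1 L w)
    rw [sub_pow_char_pow_of_commute p L (Commute.one_right _), one_pow, sub_eq_zero] at h2
    simpa using h2
  · intro t ht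
    refine Subgroup.mem_normalizer_fintype fun g hg => ⟨mul_mem (mul_mem ht hg.1) (inv_mem ht), ?_⟩
    intro i w hw
    have h1 := hY t ht _ _ (hg.2 i _ (hY _ (inv_mem ht) i w hw))
    simpa [rho_mul, map_sub, rho_inv] using h1

/-- The centralizer of an element which is a single block normalises `P`. -/
theorem Setup.centralizer_block (S : Setup D x m q v0) {y : X} (hy : y ∈ (D.P : Subgroup X))
    {a : ZMod p} (hya : D.Coef y a) (ha : a ≠ 0) :
    Subgroup.centralizer ({y} : Set X) ≤ Subgroup.normalizer ((D.P : Subgroup X) : Set X) := by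
  obtain ⟨hc, hl⟩ := S.coef_N hy hya
  set M := D.rho y - 1 with hM
  have hMd : M ^ D.d = 0 := LinearMap.ext fun w => by
    have h := Fl_bot (Nat.le_succ _) (pow_lead hc hl D.d w)
    simpa [N_pow_d] using h
  have hMv : (M ^ (D.d - 1)) v0 ≠ 0 := by
    intro h0
    have h := Fl_bot (by omega) (pow_lead hc hl (D.d - 1) v0)
    rw [h0, zero_sub, neg_eq_zero, smul_eq_zero] at h
    exact h.elim (fun h => pow_ne_zero _ ha h) S.hv0
  have hcy : ∀ g ∈ Subgroup.centralizer ({y} : Set X), Commute (D.rho g) M := fun g hg => by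
    have h : Commute (D.rho g) (D.rho y) :=
      (show Commute g y from Subgroup.mem_centralizer_singleton_iff.1 hg).map D.rho
    exact h.sub_right (Commute.one_right _)
  intro g hg
  refine Subgroup.mem_normalizer_fintype fun z hz => ?_
  have hz' : z ∈ Subgroup.centralizer ({y} : Set X) :=
    Subgroup.mem_centralizer_singleton_iff.2 (S.abelian z hz y hy)
  have h := commute_of_cyclic M hMd hMv D.card_V (hcy g hg) (hcy z hz')
  have h' : g * z = z * g := D.faithful (by rw [map_mul, map_mul]; exact h.eq)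
  rw [h', mul_inv_cancel_right]
  exact hz

/-- Levels kept by `C` move up by the degree of an invariant bilinear map. -/
theorem Setup.step (S : Setup D x m q v0) {C : Subgroup X} {M k : ℕ}
    {v' : V →ₗ[ZMod p] V →ₗ[ZMod p] V} {n : ZMod p} (hn : n ≠ 0) (hMd : M ≤ D.d)
    (hv : v' ∈ shift D M (k : ℤ)) (hfix : ∀ c ∈ C, act D c v' = v')
    (hlead : ∀ (b : ℕ) (w : V), w ∈ D.Fl b →
      v' v0 w - n • (D.N ^ k) w ∈ D.Fl (min M (b + k + 1)))
    (hM : Keeps D C M) {b : ℕ} (hb : Keeps D C b) (hbk : b + k ≤ M) : Keeps D C (b + k) := by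
  intro c hc
  suffices h : ∀ e l, b + k ≤ l → M ≤ l + e → ∀ w ∈ D.Fl l, D.rho c w ∈ D.Fl (b + k) from
    fun w hw => h M (b + k) le_rfl (by omega) w hw
  intro e
  induction e with
  | zero => exact fun l _ hMl w hw => Fl_mono hbk (hM c hc w (Fl_mono (by omega) hw))
  | succ e ih =>
    intro l hl hMl w hw
    rcases le_or_gt M l with hle | hlt
    · exact Fl_mono hbk (hM c hc w (Fl_mono hle hw))
    · have hup : ∀ w' ∈ D.Fl (l + 1), D.rho c w' ∈ D.Fl (b + k) :=
        ih (l + 1) (by omega) (by omega)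
      obtain ⟨a, ha⟩ := decomp S.hv0 hw
      set z := (D.N ^ (l - k)) v0 with hz
      have hzl : (D.N ^ k) z = (D.N ^ l) v0 := by
        rw [hz, ← Module.End.mul_apply, ← pow_add]
        congr 2
        omega
      have h1 := hlead (l - k) z (pow_mem_Fl _ _)
      rw [hzl] at h1
      have h2 := hup _ (Fl_mono (by omega) h1)
      rw [map_sub, map_smul] at h2
      have h3 : D.rho c (v' v0 z) ∈ D.Fl (b + k) := by
        have e1 := LinearMap.congr_fun₂ (hfix c hc) (D.rho c v0) (D.rho c z)
        rw [act_apply, rho_inv', rho_inv'] at e1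
        rw [e1]
        exact Fl_mono (by omega) (hv 0 b _ (Fl_zero _) _
          (hb c hc z (Fl_mono (by omega) (pow_mem_Fl _ _))))
      have h4 : D.rho c ((D.N ^ l) v0) ∈ D.Fl (b + k) := by
        have h5 := (D.Fl (b + k)).sub_mem h3 h2
        rw [sub_sub_cancel] at h5
        exact (Submodule.smul_mem_iff _ hn).1 h5
      have h6 := (D.Fl (b + k)).add_mem (hup _ ha) ((D.Fl (b + k)).smul_mem a h4)
      simpa [map_sub, map_smul] using h6

/-- An element of order `p` and its nontrivial powers have the same centralizer. -/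
theorem centralizer_le_of_zpowers {y z : X} (hz : z ∈ Subgroup.zpowers y) :
    Subgroup.centralizer ({y} : Set X) ≤ Subgroup.centralizer ({z} : Set X) := by
  intro g hg
  obtain ⟨i, rfl⟩ := hz
  rw [Subgroup.mem_centralizer_singleton_iff]
  exact (show Commute g y from Subgroup.mem_centralizer_singleton_iff.1 hg).zpow_right i

/-- `C(x)` normalises `P`. -/
theorem Setup.centralizer_x (S : Setup D x m q v0) :
    Subgroup.centralizer ({x} : Set X) ≤ Subgroup.normalizer ((D.P : Subgroup X) : Set X) := by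
  classical
  set C := Subgroup.centralizer ({x} : Set X) with hCdef
  have hPC : (D.P : Subgroup X) ≤ C := fun g hg =>
    Subgroup.mem_centralizer_singleton_iff.2 (S.abelian g hg x S.x_mem)
  have hxN : ∀ w, D.rho x w - w = (D.N ^ m) (q w) := fun w => by
    simpa using LinearMap.congr_fun S.hx w
  have hcomm : ∀ c ∈ C, ∀ w, D.rho c (D.rho x w - w) = D.rho x (D.rho c w) - D.rho c w := by
    intro c hc w
    rw [map_sub, ← rho_mul, ← rho_mul, Subgroup.mem_centralizer_singleton_iff.1 hc]
  have hup : ∀ r, Keeps D C r → Keeps D C (r + m) := by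
    rintro r hr c hc _ ⟨u, rfl⟩
    obtain ⟨u', rfl⟩ := ((Module.End.isUnit_iff q).1 S.unit).2 u
    have e : (D.N ^ (r + m)) (q u') = D.rho x ((D.N ^ r) u') - (D.N ^ r) u' := by
      rw [hxN, S.q_commute r, add_comm r m, pow_add, Module.End.mul_apply]
    rw [e, hcomm c hc, hxN]
    obtain ⟨u'', hu''⟩ := hr c hc _ (pow_mem_Fl r u')
    rw [← hu'', S.q_commute]
    exact Fl_mono (by omega) (pow_shift m (pow_mem_Fl r _))
  have h0 : Keeps D C 0 := fun _ _ _ _ => Fl_zero _
  have hm : Keeps D C m := by simpa using hup 0 h0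
  have hbound := S.m_bound
  have hmd := S.m_lt
  haveI : Fintype (Subgroup.zpowers D.s) := Fintype.ofFinite _
  have hcard : Nat.card (Subgroup.zpowers D.s) = p := by rw [Nat.card_zpowers, S.orderOf_s]
  obtain ⟨v', n, hn, hv', hfix, hlead, -⟩ := S.average C hPC m 1 le_rfl hm
    (fun t _ htC a _ hax => by
      rw [pow_one, pow_succ, hax (Subgroup.mem_centralizer_singleton_iff.1 htC), one_mul])
    (Subgroup.zpowers D.s).subtype (fun g => (Subgroup.zpowers_le.2 D.s_mem) g.2)
    (fun g c _ hcN hconj => by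
      by_contra hg
      refine hcN (S.mem_normalizer_of_conj ((Subgroup.zpowers_le.2 D.s_mem) g.2) hconj ?_)
      have hs : D.s ∈ Subgroup.zpowers (g : X) :=
        mem_zpowers_of_ne_one (by rw [S.orderOf_s]; exact hp.out) g.2
          (fun h => hg (Subtype.ext h))
      exact (centralizer_le_of_zpowers hs).trans (S.centralizer_block D.s_mem coef_s one_ne_zero))
    (by rw [← Nat.card_eq_fintype_card, hcard])
    (-(2 * ((m : ℤ) - 1)) + ((p - 1 : ℕ) : ℤ) * (1 : ℕ))
    (fun B hB => by
      have hbij : Function.Bijective (fun i : Fin p =>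
          (⟨D.s ^ (i : ℕ), Subgroup.npow_mem_zpowers _ _⟩ : Subgroup.zpowers D.s)) := by
        refine (Nat.bijective_iff_injective_and_card _).2 ⟨fun i i' h => ?_, by
          rw [Nat.card_fin, hcard]⟩
        exact Fin.ext (pow_injOn_Iio_orderOf (x := D.s) (by simp [S.orderOf_s])
          (by simp [S.orderOf_s]) (congrArg Subtype.val h))
      have e : ∑ g : Subgroup.zpowers D.s, act D ((Subgroup.zpowers D.s).subtype g) =
          (act D D.s - 1) ^ (p - 1) := by
        rw [← sum_pow_eq (p := p) (act D D.s), ← hbij.sum_comp]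
        simp [map_pow]
      rw [e]
      exact shift_steps (lowers_one D.s_mem) (p - 1) hB)
  have hk : ∀ i, i ≤ m → Keeps D C i := by
    intro i
    induction i with
    | zero => exact fun _ => h0
    | succ i ih =>
      intro hi
      exact S.step hn (by omega) (shift_mono (le_min le_rfl (by omega)) hv') hfix
        (fun b w hw => Fl_mono (by omega) (hlead b w hw)) hm (ih (by omega)) hi
  have hall : ∀ i, Keeps D C i := by
    intro i
    induction i using Nat.strong_induction_on with
    | _ i ih =>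
      rcases le_or_gt i m with h | h
      · exact hk i h
      · have := hup (i - m) (ih _ (by have := S.two_le; omega))
        rwa [Nat.sub_add_cancel h.le] at this
  obtain ⟨K, hKp, hKN, hK⟩ := S.chain_stabilizer C D.Fl D.d Fl_zero
    (fun w hw => Fl_bot le_rfl hw) (fun g hg i => hall i g hg)
  have hPK : (D.P : Subgroup X) ≤ K := fun g hg => (hK g).2 ⟨hPC hg, fun i w hw => low hg hw⟩
  rwa [D.P.3 hKp hPK] at hKN

/-- `P` is a trivial intersection set. -/
theorem Setup.centralizer_le (S : Setup D x m q v0) {h : X} (hh : h ∈ (D.P : Subgroup X))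
    (h1 : h ≠ 1) :
    Subgroup.centralizer ({h} : Set X) ≤ Subgroup.normalizer ((D.P : Subgroup X) : Set X) := by
  obtain ⟨a, ha⟩ := exists_coef hh
  rcases eq_or_ne a 0 with rfl | ha0
  · obtain ⟨b, rfl⟩ := S.coef_zero_mem hh ha
    refine (centralizer_le_of_zpowers ?_).trans S.centralizer_x
    exact mem_zpowers_of_ne_one (by rw [S.orderOf_x]; exact hp.out)
      (Subgroup.npow_mem_zpowers x b) h1
  · exact S.centralizer_block hh ha ha0

/-- The hypotheses are contradictory. -/
theorem Setup.false (S : Setup D x m q v0) : False := by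
  classical
  have hmd := S.m_lt
  have hbound := S.m_bound
  have hm2 := S.two_le
  have hdp := D.le_p
  have hp5 := S.five
  haveI : Fintype (D.P : Subgroup X) := Fintype.ofFinite _
  set J : ℤ := -(2 * ((D.d : ℤ) - 1)) + ((p - 1 : ℕ) : ℤ) * (m : ℕ) + ((p - 1 : ℕ) : ℤ) * (1 : ℕ)
    with hJ
  obtain ⟨v', n, hn, hv', hfix, hlead, hzero⟩ := S.average ⊤ le_top D.d (m + 1) (by omega)
    (fun c _ w hw => by rw [Fl_bot le_rfl hw, map_zero]; exact Submodule.zero_mem _)
    (fun t _ _ a _ _ => rfl) (D.P : Subgroup X).subtype (fun g => g.2)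
    (fun g c _ hcN hconj => by
      by_contra hg
      exact hcN (S.mem_normalizer_of_conj g.2 hconj
        (S.centralizer_le g.2 fun h => hg (Subtype.ext h))))
    (by rw [← Nat.card_eq_fintype_card, S.card]; exact dvd_pow_self p two_ne_zero) J
    (fun B hB => by
      have e : ∑ g : (D.P : Subgroup X), act D ((D.P : Subgroup X).subtype g) =
          (act D D.s - 1) ^ (p - 1) * (act D x - 1) ^ (p - 1) := by
        rw [← sum_pow_eq (p := p) (act D D.s), ← sum_pow_eq (p := p) (act D x),
          Finset.sum_mul_sum, ← S.pair_bijective.sum_comp, Fintype.sum_prod_type]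
        simp [map_mul, map_pow]
      rw [e, Module.End.mul_apply]
      exact shift_steps (lowers_one D.s_mem) (p - 1) (shift_steps (lowers_x S) (p - 1) hB))
  have hpc : ((p - 1 : ℕ) : ℤ) = (p : ℤ) - 1 := by omega
  have hJ1 : (m : ℤ) + 2 ≤ J := by
    rw [hJ, hpc]; push_cast; nlinarith
  have hJ2 : (D.d : ℤ) ≤ 1 + J := by
    rw [hJ, hpc]; push_cast; nlinarith
  have hv : v' ∈ shift D D.d ((m + 1 : ℕ) : ℤ) := shift_mono (le_min le_rfl (by omega)) hv'
  have hlead' : ∀ (b : ℕ) (w : V), w ∈ D.Fl b →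
      v' v0 w - n • (D.N ^ (m + 1)) w ∈ D.Fl (min D.d (b + (m + 1) + 1)) :=
    fun b w hw => Fl_mono (by omega) (hlead b w hw)
  have hz : ∀ u ∈ D.Fl 1, ∀ w, v' u w = 0 := fun u hu w =>
    Fl_bot (by omega) (hzero u hu w)
  have h1 : Keeps D ⊤ 1 := by
    intro c hc u hu
    obtain ⟨a, ha⟩ := decomp S.hv0 (Fl_zero (D := D) (D.rho c u))
    rw [pow_zero, Module.End.one_apply, zero_add] at ha
    rcases eq_or_ne a 0 with rfl | ha0
    · simpa using ha
    exfalso
    have e1 := LinearMap.congr_fun₂ (hfix c hc) (D.rho c u) v0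
    rw [act_apply, rho_inv', hz u hu, map_zero] at e1
    have e2 : v' (D.rho c u - a • v0) v0 = 0 := hz _ ha _
    rw [map_sub, map_smul, LinearMap.sub_apply, LinearMap.smul_apply, ← e1, zero_sub,
      neg_eq_zero, smul_eq_zero] at e2
    have h2 := hlead' 0 v0 (Fl_zero _)
    rw [e2.resolve_left ha0, zero_sub, Submodule.neg_mem_iff] at h2
    exact v0_notMem_one S.hv0 (i := m + 1) (by omega)
      (Fl_mono (by omega) ((Submodule.smul_mem_iff _ hn).1 h2))
  have hd0 : Keeps D ⊤ D.d := fun c _ w hw => by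
    rw [Fl_bot le_rfl hw, map_zero]; exact Submodule.zero_mem _
  have hadd : ∀ b, Keeps D ⊤ b → Keeps D ⊤ (b + (m + 1)) := by
    intro b hb
    rcases le_or_gt (b + (m + 1)) D.d with h | h
    · exact S.step hn le_rfl hv hfix hlead' hd0 hb h
    · intro c _ w hw
      rw [Fl_bot h.le hw, map_zero]
      exact Submodule.zero_mem _
  have hmul : ∀ i, Keeps D ⊤ (i * (m + 1)) ∧ Keeps D ⊤ (i * (m + 1) + 1) := by
    intro i
    induction i with
    | zero => exact ⟨by rw [zero_mul]; exact fun c _ w _ => Fl_zero _, by simpa⟩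
    | succ i ih =>
      rw [add_mul, one_mul, add_right_comm]
      exact ⟨hadd _ ih.1, by simpa [add_right_comm] using hadd _ ih.2⟩
  obtain ⟨K, hKp, hKN, hK⟩ := S.chain_stabilizer ⊤
    (fun i => D.Fl (i / 2 * (m + 1) + i % 2)) (2 * D.d)
    (fun w => by simpa using Fl_zero (D := D) w)
    (fun w hw => Fl_bot (by
      rw [Nat.mul_div_cancel_left _ two_pos, Nat.mul_mod_right, add_zero]
      exact Nat.le_mul_of_pos_right _ (Nat.succ_pos m)) hw)
    (fun g hg i w hw => by
      rcases Nat.mod_two_eq_zero_or_one i with h | h <;> simp only [h, add_zero] at hw ⊢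
      · exact (hmul (i / 2)).1 g hg w hw
      · exact (hmul (i / 2)).2 g hg w hw)
  have hxK : x ∈ K := (hK x).2 ⟨Subgroup.mem_top x, fun i w hw => by
    refine Fl_mono ?_ ((lowers_x S) _ w hw).1
    rcases Nat.mod_two_eq_zero_or_one i with h | h
    · rw [show (i + 1) / 2 = i / 2 by omega, show (i + 1) % 2 = 1 by omega, h]; omega
    · rw [show (i + 1) / 2 = i / 2 + 1 by omega, show (i + 1) % 2 = 0 by omega, h, add_mul]; omega⟩
  obtain ⟨R, hR⟩ := StronglyP.exists_sylow_le D.strong
  have hKR : K ≤ D.H := by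
    refine le_trans ?_ hR
    have hsup : IsPGroup p ((R : Subgroup X) ⊔ K : Subgroup X) :=
      IsPGroup.to_sup_of_normal_right' R.2 hKp (le_top.trans hKN)
    rw [← R.3 hsup le_sup_left]
    exact le_sup_right
  have hK1 : K ≠ ⊥ := fun h => S.x_ne (by simpa [h] using hxK)
  exact D.strong.2.1 (top_le_iff.1
    (hKN.trans (StronglyP.normalizer_le D.strong hKR hKp hK1)))

/-- The abelian case leads to a contradiction. -/
theorem abelStmt : AbelStmt.{u, v} := by
  intro p _ X _ _ V _ _ h5 D x m q _ hx hab hu hcard hqN hxeq hm h2m hw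
  have hne : D.N ^ (D.d - 1) ≠ 0 := D.block
  obtain ⟨v0, hv0⟩ : ∃ v0, (D.N ^ (D.d - 1)) v0 ≠ 0 := by
    by_contra! h
    exact hne (LinearMap.ext h)
  exact Setup.false (x := x) (m := m) (q := q) (v0 := v0)
    ⟨h5, hx, hab, hu, hcard, hqN, hxeq, hm, h2m, hw, hv0⟩

end Cfsg.Agent.Lib.MaxClassEss85.Abel
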