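import Mathlib

/-!
Linear algebra for the abelian case: a cyclic nilpotent endomorphism, sums over free orbits and
the binomial identity in characteristic `p`.
-/

set_option autoImplicit false

namespace Cfsg.Agent.Lib.MaxClassEss85.Abel

universe u v

variable {p : ℕ} [hp : Fact p.Prime] {V : Type v} [AddCommGroup V] [Module (ZMod p) V]

/-- In characteristic `p` the sum of the powers below `p` is the `(p-1)`-st power of `A - 1`. -/
theorem sum_pow_eq {R : Type*} [Ring R] [Algebra (ZMod p) R] (A : R) :
    ∑ i : Fin p, A ^ (i : ℕ) = (A - 1) ^ (p - 1) := by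
  have key : (∑ i ∈ Finset.range p, (Polynomial.X : Polynomial (ZMod p)) ^ i) =
      (Polynomial.X - 1) ^ (p - 1) := by
    have h1 : (Polynomial.X - 1 : Polynomial (ZMod p)) ≠ 0 := by
      simpa using Polynomial.X_sub_C_ne_zero (1 : ZMod p)
    apply mul_left_cancel₀ h1
    rw [mul_geom_sum, ← pow_succ', Nat.sub_add_cancel hp.out.one_le, sub_pow_char, one_pow]
  have := congrArg (Polynomial.aeval A) key
  simpa [Finset.sum_range, map_sum] using this

/-- A sum over a set of free orbits lies in the image of the norm. -/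
theorem sum_free_mem {Q : Type*} [Group Q] [Fintype Q] {α : Type*} [MulAction Q α]
    {M : Type*} [AddCommGroup M] [Module (ZMod p) M] (A : Q → Module.End (ZMod p) M)
    (f : α → M) (s : Finset α) (hs : ∀ g : Q, ∀ a ∈ s, g • a ∈ s)
    (hfree : ∀ g : Q, ∀ a ∈ s, g • a = a → g = 1)
    (heq : ∀ g : Q, ∀ a ∈ s, f (g • a) = A g (f a)) :
    ∑ a ∈ s, f a ∈ LinearMap.range (∑ g : Q, A g) := by
  classical
  induction s using Finset.strongInduction with
  | H s ih =>
    obtain rfl | ⟨a, ha⟩ := s.eq_empty_or_nonempty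
    · rw [Finset.sum_empty]; exact Submodule.zero_mem _
    set o : Finset α := Finset.univ.image (fun g : Q => g • a) with ho
    have hos : o ⊆ s := by
      intro b hb
      obtain ⟨g, -, rfl⟩ := Finset.mem_image.1 hb
      exact hs g a ha
    have hao : a ∈ o := Finset.mem_image.2 ⟨1, Finset.mem_univ _, one_smul _ _⟩
    have hsum : ∑ b ∈ o, f b = (∑ g : Q, A g) (f a) := by
      rw [ho, Finset.sum_image, LinearMap.sum_apply]
      · exact Finset.sum_congr rfl fun g _ => heq g a ha
      · intro g _ g' _ h
        have h' : (g'⁻¹ * g) • a = a := by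
          simp only at h
          rw [mul_smul, h, inv_smul_smul]
        exact (inv_mul_eq_one.1 (hfree _ a ha h')).symm
    rw [← Finset.sum_sdiff hos, hsum]
    refine Submodule.add_mem _ ?_ (LinearMap.mem_range_self _ _)
    refine ih _ (Finset.sdiff_ssubset hos ⟨a, hao⟩) ?_ ?_ ?_
    · intro g b hb
      rw [Finset.mem_sdiff] at hb ⊢
      refine ⟨hs g b hb.1, fun h => hb.2 ?_⟩
      obtain ⟨g', -, hg'⟩ := Finset.mem_image.1 h
      refine Finset.mem_image.2 ⟨g⁻¹ * g', Finset.mem_univ _, ?_⟩
      rw [mul_smul, hg', inv_smul_smul]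
    · exact fun g b hb => hfree g b (Finset.mem_sdiff.1 hb).1
    · exact fun g b hb => heq g b (Finset.mem_sdiff.1 hb).1

/-- A cyclic nilpotent endomorphism: the powers applied to a vector form a basis. -/
theorem span_powers (M : Module.End (ZMod p) V) {d : ℕ} (hM : M ^ d = 0) {v0 : V}
    (hv : (M ^ (d - 1)) v0 ≠ 0) (hV : Nat.card V = p ^ d) :
    Submodule.span (ZMod p) (Set.range fun i : Fin d => (M ^ (i : ℕ)) v0) = ⊤ := by
  classical
  haveI : Finite V := Nat.finite_of_card_ne_zero (by rw [hV]; exact pow_ne_zero _ hp.out.ne_zero)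
  have hrank : Module.finrank (ZMod p) V = d := by
    have h := Module.natCard_eq_pow_finrank (K := ZMod p) (V := V)
    rw [hV, Nat.card_zmod] at h
    exact (Nat.pow_right_injective hp.out.two_le h).symm
  have hd : 1 ≤ d := by
    rcases Nat.eq_zero_or_pos d with rfl | h
    · rw [pow_zero] at hM
      exact absurd (by simpa [hM] using (LinearMap.congr_fun hM v0)) hv
    · exact h
  have hli : LinearIndependent (ZMod p) (fun i : Fin d => (M ^ (i : ℕ)) v0) := by
    rw [Fintype.linearIndependent_iff]
    intro g hg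
    suffices h : ∀ n : ℕ, ∀ i : Fin d, (i : ℕ) = n → g i = 0 from fun i => h i i rfl
    intro n
    induction n using Nat.strong_induction_on with
    | _ n ih =>
      intro i hi
      have h := congrArg (M ^ (d - 1 - n)) hg
      rw [map_sum, map_zero, Finset.sum_eq_single i] at h
      · rw [map_smul, ← Module.End.mul_apply, ← pow_add] at h
        have e : d - 1 - n + (i : ℕ) = d - 1 := by have := i.isLt; omega
        rw [e] at h
        exact (smul_eq_zero.1 h).resolve_right hv
      · intro j _ hj
        rcases lt_or_gt_of_ne hj with hlt | hgt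
        · rw [ih j (by rw [← hi]; exact_mod_cast hlt) j rfl, zero_smul, map_zero]
        · rw [map_smul, ← Module.End.mul_apply, ← pow_add]
          have hgt' : (i : ℕ) < (j : ℕ) := hgt
          have e : d - 1 - n + (j : ℕ) = d + (d - 1 - n + (j : ℕ) - d) := by
            have := j.isLt; omega
          rw [e, pow_add, hM, zero_mul, LinearMap.zero_apply, smul_zero]
      · intro h; exact absurd (Finset.mem_univ i) h
  haveI : Nonempty (Fin d) := ⟨⟨0, hd⟩⟩
  exact hli.span_eq_top_of_card_eq_finrank (by rw [Fintype.card_fin, hrank])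

/-- Every vector is a multiple of the generator modulo the image. -/
theorem cyclic_decomp (M : Module.End (ZMod p) V) {d : ℕ} (hM : M ^ d = 0) {v0 : V}
    (hv : (M ^ (d - 1)) v0 ≠ 0) (hV : Nat.card V = p ^ d) (u : V) :
    ∃ (c : ZMod p) (u' : V), u = c • v0 + M u' := by
  have hmem : u ∈ Submodule.span (ZMod p) (Set.range fun i : Fin d => (M ^ (i : ℕ)) v0) := by
    rw [span_powers M hM hv hV]; trivial
  induction hmem using Submodule.span_induction with
  | mem y hy =>
    obtain ⟨⟨i, hi⟩, rfl⟩ := hy
    cases i with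
    | zero => exact ⟨1, 0, by simp⟩
    | succ j => exact ⟨0, (M ^ j) v0, by simp [pow_succ']⟩
  | zero => exact ⟨0, 0, by simp⟩
  | add y z _ _ hy hz =>
    obtain ⟨c, y', rfl⟩ := hy
    obtain ⟨e, z', rfl⟩ := hz
    exact ⟨c + e, y' + z', by rw [map_add, add_smul]; abel⟩
  | smul r y _ hy =>
    obtain ⟨c, y', rfl⟩ := hy
    exact ⟨r * c, r • y', by rw [map_smul, smul_add, smul_smul]⟩

/-- Two endomorphisms commuting with a cyclic nilpotent one commute. -/
theorem commute_of_cyclic (M : Module.End (ZMod p) V) {d : ℕ} (hM : M ^ d = 0) {v0 : V}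
    (hv : (M ^ (d - 1)) v0 ≠ 0) (hV : Nat.card V = p ^ d) {f g : Module.End (ZMod p) V}
    (hf : Commute f M) (hg : Commute g M) : Commute f g := by
  have hext : ∀ a b : Module.End (ZMod p) V, Commute a M → Commute b M → a v0 = b v0 → a = b := by
    intro a b ha hb hab
    refine LinearMap.ext_on_range (span_powers M hM hv hV) fun i => ?_
    have e1 := LinearMap.congr_fun (ha.pow_right i).eq v0
    have e2 := LinearMap.congr_fun (hb.pow_right i).eq v0
    simp only [Module.End.mul_apply] at e1 e2
    rw [e1, e2, hab]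
  obtain ⟨c, hc⟩ := Submodule.mem_span_range_iff_exists_fun (ZMod p) |>.1
    (show g v0 ∈ Submodule.span (ZMod p) (Set.range fun i : Fin d => (M ^ (i : ℕ)) v0) by
      rw [span_powers M hM hv hV]; trivial)
  have hcM : ∀ h : Module.End (ZMod p) V, Commute h M → Commute h (∑ i : Fin d, c i • M ^ (i : ℕ)) :=
    fun h hh => Commute.sum_right _ _ _ fun i _ => (hh.pow_right _).smul_right _
  have hge : g = ∑ i : Fin d, c i • M ^ (i : ℕ) := by
    refine hext _ _ hg (hcM M (Commute.refl M)).symm ?_
    simpa [LinearMap.sum_apply] using hc.symm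
  rw [hge]
  exact hcM f hf

end Cfsg.Agent.Lib.MaxClassEss85.Abel
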