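import Cfsg.Agent.Lib.MaxClassEss85.Spec
import Cfsg.Agent.Lib.MaxClassEss85.AbelAlgebra

/-!
The flag of a datum with an abelian Sylow subgroup of order `p ^ 2`.
-/

set_option autoImplicit false

namespace Cfsg.Agent.Lib.MaxClassEss85.Abel

universe u v

open Cfsg.Agent.Lib.MaxClassEss85

variable {p : ℕ} [hp : Fact p.Prime] {X : Type u} [Group X] [Finite X] {V : Type v}
  [AddCommGroup V] [Module (ZMod p) V]

/-- The hypotheses of the abelian case. -/
structure Setup (D : Datum p X V) (x : X) (m : ℕ) (q : Module.End (ZMod p) V) (v0 : V) : Prop where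
  five : 5 ≤ p
  x_mem : x ∈ (D.P : Subgroup X)
  abelian : ∀ g ∈ (D.P : Subgroup X), ∀ h ∈ (D.P : Subgroup X), g * h = h * g
  unit : IsUnit q
  card : Nat.card (D.P : Subgroup X) = p ^ 2
  qN : q * D.N = D.N * q
  hx : D.rho x - 1 = D.N ^ m * q
  two_le : 2 ≤ m
  two_mul : 2 * m ≤ D.d
  weight : D.Weight
  hv0 : (D.N ^ (D.d - 1)) v0 ≠ 0

variable {D : Datum p X V} {x : X} {m : ℕ} {q : Module.End (ZMod p) V} {v0 : V}

theorem mem_Fl {i : ℕ} {w : V} : w ∈ D.Fl i ↔ ∃ u, (D.N ^ i) u = w := LinearMap.mem_range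

theorem pow_mem_Fl (i : ℕ) (u : V) : (D.N ^ i) u ∈ D.Fl i := LinearMap.mem_range_self _ _

theorem Fl_zero (w : V) : w ∈ D.Fl 0 := ⟨w, by simp⟩

theorem N_pow_d : D.N ^ D.d = 0 := D.nil

theorem Fl_mono {i j : ℕ} (h : i ≤ j) {w : V} (hw : w ∈ D.Fl j) : w ∈ D.Fl i := by
  obtain ⟨u, rfl⟩ := hw
  rw [← Nat.add_sub_cancel' h, pow_add, Module.End.mul_apply]
  exact pow_mem_Fl i _

theorem Fl_bot {i : ℕ} (h : D.d ≤ i) {w : V} (hw : w ∈ D.Fl i) : w = 0 := by
  obtain ⟨u, rfl⟩ := hw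
  rw [← Nat.add_sub_cancel' h, pow_add, N_pow_d, zero_mul, LinearMap.zero_apply]

theorem pow_shift {a : ℕ} (k : ℕ) {w : V} (hw : w ∈ D.Fl a) : (D.N ^ k) w ∈ D.Fl (a + k) := by
  obtain ⟨u, rfl⟩ := hw
  rw [← Module.End.mul_apply, ← pow_add, add_comm k a]
  exact pow_mem_Fl _ _

theorem comm_shift {f : Module.End (ZMod p) V} (hf : Commute f D.N) {a b : ℕ}
    (h : ∀ w, f w ∈ D.Fl b) {w : V} (hw : w ∈ D.Fl a) : f w ∈ D.Fl (a + b) := by
  obtain ⟨u, rfl⟩ := hw
  rw [← Module.End.mul_apply, (hf.pow_right a).eq, Module.End.mul_apply, add_comm a b]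
  exact pow_shift a (h u)

theorem low {g : X} (hg : g ∈ (D.P : Subgroup X)) {i : ℕ} {w : V} (hw : w ∈ D.Fl i) :
    D.rho g w - w ∈ D.Fl (i + 1) := by
  obtain ⟨u, rfl⟩ := hw
  exact D.flag g hg i u

theorem keep {g : X} (hg : g ∈ (D.P : Subgroup X)) {i : ℕ} {w : V} (hw : w ∈ D.Fl i) :
    D.rho g w ∈ D.Fl i := by
  have h1 : D.rho g w - w ∈ D.Fl i := Fl_mono (Nat.le_succ i) (low hg hw)
  have := (D.Fl i).add_mem h1 hw
  simpa using this

theorem rho_inv (g : X) (w : V) : D.rho g (D.rho g⁻¹ w) = w := by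
  rw [← Module.End.mul_apply, ← map_mul, mul_inv_cancel, map_one, Module.End.one_apply]

theorem rho_inv' (g : X) (w : V) : D.rho g⁻¹ (D.rho g w) = w := by
  rw [← Module.End.mul_apply, ← map_mul, inv_mul_cancel, map_one, Module.End.one_apply]

theorem rho_mul (g h : X) (w : V) : D.rho (g * h) w = D.rho g (D.rho h w) := by
  rw [map_mul, Module.End.mul_apply]

theorem v0_notMem_one (h : (D.N ^ (D.d - 1)) v0 ≠ 0) {i : ℕ} (hi : i < D.d) :
    (D.N ^ i) v0 ∉ D.Fl (i + 1) := by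
  rintro ⟨u, hu⟩
  refine h ?_
  have e : D.d - 1 = D.d - 1 - i + i := by omega
  have e' : D.d - 1 - i + (i + 1) = D.d := by omega
  rw [e, pow_add, Module.End.mul_apply, ← hu, ← Module.End.mul_apply, ← pow_add, e', N_pow_d,
    LinearMap.zero_apply]

theorem decomp (h : (D.N ^ (D.d - 1)) v0 ≠ 0) {i : ℕ} {w : V} (hw : w ∈ D.Fl i) :
    ∃ c : ZMod p, w - c • (D.N ^ i) v0 ∈ D.Fl (i + 1) := by
  obtain ⟨u, rfl⟩ := hw
  obtain ⟨c, u', rfl⟩ := cyclic_decomp D.N N_pow_d h D.card_V u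
  refine ⟨c, u', ?_⟩
  rw [map_add, map_smul, add_sub_cancel_left, pow_succ, Module.End.mul_apply]

/-- The leading term of a power. -/
theorem pow_lead {M : Module.End (ZMod p) V} (hM : Commute M D.N) {a : ZMod p}
    (h : ∀ w, M w - a • D.N w ∈ D.Fl 2) (i : ℕ) :
    ∀ w, (M ^ i) w - a ^ i • (D.N ^ i) w ∈ D.Fl (i + 1) := by
  have h1 : ∀ w, M w ∈ D.Fl 1 := fun w => by
    have h2 := (D.Fl 1).add_mem (Fl_mono one_le_two (h w))
      ((D.Fl 1).smul_mem a (pow_mem_Fl 1 w))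
    simpa using h2
  induction i with
  | zero => intro w; simp
  | succ i ih =>
    intro w
    have hcm : Commute (M - a • D.N) D.N := hM.sub_left ((Commute.refl D.N).smul_left a)
    have e : (M ^ (i + 1)) w - a ^ (i + 1) • (D.N ^ (i + 1)) w =
        M ((M ^ i) w - a ^ i • (D.N ^ i) w) + a ^ i • (M - a • D.N) ((D.N ^ i) w) := by
      rw [pow_succ' M, Module.End.mul_apply, map_sub, map_smul, LinearMap.sub_apply,
        LinearMap.smul_apply, smul_sub, smul_smul, ← pow_succ, pow_succ' D.N,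
        Module.End.mul_apply]
      abel
    rw [e]
    refine (D.Fl _).add_mem (comm_shift hM h1 (ih w)) ((D.Fl _).smul_mem _ ?_)
    have h2 := comm_shift hcm (b := 2) (fun z => by simpa using h z) (pow_mem_Fl i w)
    exact Fl_mono (le_refl _) h2

theorem coef_zero_iff {g : X} : D.Coef g 0 ↔ ∀ w, D.rho g w - w ∈ D.Fl 2 := by
  simp [Datum.Coef]

theorem coef_s : D.Coef D.s 1 := fun w => by
  simp [Datum.N]

theorem exists_coef {g : X} (hg : g ∈ (D.P : Subgroup X)) : ∃ a, D.Coef g a := by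
  obtain ⟨a, ha⟩ := D.pattern g hg
  refine ⟨a, fun w => ?_⟩
  have := ha 0 (by have := D.three_le; omega) w
  simp [Datum.N, Datum.Fl] at this ⊢
  exact this

theorem Coef.unique (h : (D.N ^ (D.d - 1)) v0 ≠ 0) {g : X} {a b : ZMod p} (ha : D.Coef g a)
    (hb : D.Coef g b) : a = b := by
  by_contra hne
  refine v0_notMem_one h (i := 1) (by have := D.three_le; omega) ?_
  have h1 := (D.Fl 2).sub_mem (hb v0) (ha v0)
  have e : (D.rho g v0 - v0 - b • D.N v0) - (D.rho g v0 - v0 - a • D.N v0) = (a - b) • D.N v0 := by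
    rw [sub_smul]; abel
  rw [e] at h1
  rw [pow_one]
  simpa [smul_smul, inv_mul_cancel₀ (sub_ne_zero.2 hne)] using (D.Fl 2).smul_mem (a - b)⁻¹ h1

theorem Coef.mul {g g' : X} (hg : g ∈ (D.P : Subgroup X)) {a b : ZMod p} (ha : D.Coef g a)
    (hb : D.Coef g' b) : D.Coef (g * g') (a + b) := by
  intro w
  rw [rho_mul]
  have h1 : D.rho g' w - w ∈ D.Fl 1 := by
    have h2 := (D.Fl 1).add_mem (Fl_mono one_le_two (hb w))
      ((D.Fl 1).smul_mem b (pow_mem_Fl 1 w))
    simpa using h2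
  have e : D.rho g (D.rho g' w) - w - (a + b) • D.N w =
      (D.rho g (D.rho g' w - w) - (D.rho g' w - w)) + (D.rho g w - w - a • D.N w) +
        (D.rho g' w - w - b • D.N w) := by
    rw [map_sub, add_smul]; abel
  rw [e]
  exact (D.Fl 2).add_mem ((D.Fl 2).add_mem (low hg h1) (ha w)) (hb w)

theorem Coef.pow {g : X} (hg : g ∈ (D.P : Subgroup X)) {a : ZMod p} (ha : D.Coef g a) (n : ℕ) :
    D.Coef (g ^ n) ((n : ZMod p) * a) := by
  induction n with
  | zero => intro w; simp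
  | succ n ih =>
    rw [pow_succ', Nat.cast_succ, add_mul, one_mul, add_comm]
    exact Coef.mul hg ha ih

variable (S : Setup D x m q v0)
include S

theorem Setup.m_lt : m + 1 < D.d := by
  have := S.two_le; have := S.two_mul; omega

theorem Setup.m_bound : 2 * m + 1 ≤ p := by
  have h1 := S.two_mul
  have h2 := D.le_p
  have h3 := hp.out.odd_of_ne_two (by have := S.five; omega)
  obtain ⟨k, hk⟩ := h3
  omega

theorem Setup.comm_N {g : X} (hg : g ∈ (D.P : Subgroup X)) : Commute (D.rho g) D.N := by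
  have h : Commute (D.rho g) (D.rho D.s) := by
    rw [commute_iff_eq, ← map_mul, ← map_mul, S.abelian g hg D.s D.s_mem]
  exact h.sub_right (Commute.one_right _)

theorem Setup.coef_N {g : X} (hg : g ∈ (D.P : Subgroup X)) {a : ZMod p} (ha : D.Coef g a) :
    Commute (D.rho g - 1) D.N ∧ ∀ w, (D.rho g - 1) w - a • D.N w ∈ D.Fl 2 :=
  ⟨(S.comm_N hg).sub_left (Commute.one_left _), fun w => by simpa using ha w⟩

theorem Setup.pow_p {g : X} (hg : g ∈ (D.P : Subgroup X)) : g ^ p = 1 := by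
  obtain ⟨a, ha⟩ := exists_coef hg
  apply D.faithful
  rw [map_pow, map_one]
  have h1 : ∀ (j : ℕ) (w : V), ((D.rho g - 1) ^ j) w ∈ D.Fl j := fun j w => by
    obtain ⟨hc, hl⟩ := S.coef_N hg ha
    have h2 := (D.Fl j).add_mem (Fl_mono (Nat.le_succ j) (pow_lead hc hl j w))
      ((D.Fl j).smul_mem (a ^ j) (pow_mem_Fl j w))
    simpa using h2
  have h2 : (D.rho g - 1) ^ p = 0 := LinearMap.ext fun w => Fl_bot D.le_p (h1 p w)
  haveI : Nontrivial V := ⟨⟨(D.N ^ (D.d - 1)) v0, 0, S.hv0⟩⟩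
  haveI : CharP (Module.End (ZMod p) V) p :=
    charP_of_injective_algebraMap (algebraMap (ZMod p) (Module.End (ZMod p) V)).injective p
  rw [sub_pow_char_of_commute p (Commute.one_right _), one_pow, sub_eq_zero] at h2
  exact h2

theorem Setup.x_low : ∀ w, D.rho x w - w ∈ D.Fl m := fun w => by
  have h := LinearMap.congr_fun S.hx w
  simp only [LinearMap.sub_apply, Module.End.one_apply, Module.End.mul_apply] at h
  rw [h]; exact pow_mem_Fl m _

theorem Setup.coef_x : D.Coef x 0 := coef_zero_iff.2 fun w => Fl_mono S.two_le (S.x_low w)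

theorem Setup.q_commute (k : ℕ) (w : V) : q ((D.N ^ k) w) = (D.N ^ k) (q w) := by
  rw [← Module.End.mul_apply, ((show Commute q D.N from S.qN).pow_right k).eq,
    Module.End.mul_apply]

theorem Setup.q_lead : ∃ q0 : ZMod p, q0 ≠ 0 ∧
    ∀ w, D.rho x w - w - q0 • (D.N ^ m) w ∈ D.Fl (m + 1) := by
  obtain ⟨q0, u, hu⟩ := cyclic_decomp D.N N_pow_d S.hv0 D.card_V (q v0)
  refine ⟨q0, fun h0 => ?_, fun w => ?_⟩
  · refine S.hv0 (((Module.End.isUnit_iff q).1 S.unit).1 ?_)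
    rw [S.q_commute, hu, h0, zero_smul, zero_add, map_zero, ← Module.End.mul_apply, ← pow_succ,
      Nat.sub_add_cancel (by have := D.three_le; omega), N_pow_d, LinearMap.zero_apply]
  · have h := LinearMap.congr_fun S.hx w
    simp only [LinearMap.sub_apply, Module.End.one_apply, Module.End.mul_apply] at h
    rw [h]
    obtain ⟨c, w', rfl⟩ := cyclic_decomp D.N N_pow_d S.hv0 D.card_V w
    have e : q (c • v0 + D.N w') = q0 • c • v0 + D.N (c • u + q w') := by
      rw [map_add, map_smul, hu, ← pow_one D.N, S.q_commute]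
      simp only [pow_one, map_add, map_smul, smul_add, smul_comm q0 c]
      abel
    refine ⟨c • u + q w' - q0 • w', ?_⟩
    rw [e, pow_succ, Module.End.mul_apply]
    simp only [map_add, map_sub, map_smul, smul_add, smul_sub]
    abel

theorem Setup.x_ne : x ≠ 1 := by
  intro h
  obtain ⟨q0, hq0, hl⟩ := S.q_lead
  have h1 := hl v0
  rw [h, map_one, Module.End.one_apply, sub_self, zero_sub, Submodule.neg_mem_iff] at h1
  exact v0_notMem_one S.hv0 (by have := S.m_lt; omega) ((Submodule.smul_mem_iff _ hq0).1 h1)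

theorem Setup.orderOf_x : orderOf x = p := orderOf_eq_prime (S.pow_p S.x_mem) S.x_ne

theorem Setup.orderOf_s : orderOf D.s = p := by
  refine orderOf_eq_prime (S.pow_p D.s_mem) fun h => D.block ?_
  rw [h, map_one, sub_self, zero_pow (by have := D.three_le; omega)]

theorem Setup.pair_coef (i j : ℕ) : D.Coef (D.s ^ i * x ^ j) (i : ZMod p) := by
  have := Coef.mul (Subgroup.pow_mem _ D.s_mem i) (Coef.pow D.s_mem coef_s i)
    (Coef.pow S.x_mem S.coef_x j)
  simpa using this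

/-- `(i, j) ↦ s ^ i * x ^ j` is a bijection onto `P`. -/
theorem Setup.pair_bijective :
    Function.Bijective (fun ij : Fin p × Fin p =>
      (⟨D.s ^ (ij.1 : ℕ) * x ^ (ij.2 : ℕ), mul_mem (Subgroup.pow_mem _ D.s_mem _)
        (Subgroup.pow_mem _ S.x_mem _)⟩ : (D.P : Subgroup X))) := by
  have hinj : Function.Injective (fun ij : Fin p × Fin p =>
      (⟨D.s ^ (ij.1 : ℕ) * x ^ (ij.2 : ℕ), mul_mem (Subgroup.pow_mem _ D.s_mem _)
        (Subgroup.pow_mem _ S.x_mem _)⟩ : (D.P : Subgroup X))) := by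
    rintro ⟨i, j⟩ ⟨i', j'⟩ h
    have h' : D.s ^ (i : ℕ) * x ^ (j : ℕ) = D.s ^ (i' : ℕ) * x ^ (j' : ℕ) := congrArg Subtype.val h
    have e : ((i : ℕ) : ZMod p) = ((i' : ℕ) : ZMod p) :=
      Coef.unique S.hv0 (S.pair_coef i j) (h' ▸ S.pair_coef i' j')
    have e' : i = i' := Fin.ext (by
      have := congrArg ZMod.val e
      rwa [ZMod.val_cast_of_lt i.isLt, ZMod.val_cast_of_lt i'.isLt] at this)
    subst e'
    have h2 : x ^ (j : ℕ) = x ^ (j' : ℕ) := mul_left_cancel h'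
    have h3 := pow_injOn_Iio_orderOf (x := x) (by simp [S.orderOf_x]) (by simp [S.orderOf_x]) h2
    exact Prod.ext rfl (Fin.ext h3)
  refine (Nat.bijective_iff_injective_and_card _).2 ⟨hinj, ?_⟩
  rw [Nat.card_prod, Nat.card_fin, S.card, sq]

theorem Setup.coef_zero_mem {g : X} (hg : g ∈ (D.P : Subgroup X)) (h : D.Coef g 0) :
    ∃ b : ℕ, g = x ^ b := by
  obtain ⟨⟨i, j⟩, hij⟩ := S.pair_bijective.2 ⟨g, hg⟩
  have hij' : D.s ^ (i : ℕ) * x ^ (j : ℕ) = g := congrArg Subtype.val hij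
  have e : ((i : ℕ) : ZMod p) = 0 := Coef.unique S.hv0 (S.pair_coef i j) (hij' ▸ h)
  have e' : (i : ℕ) = 0 := Nat.eq_zero_of_dvd_of_lt ((ZMod.natCast_eq_zero_iff _ _).1 e) i.isLt
  exact ⟨j, by rw [← hij', e', pow_zero, one_mul]⟩

theorem Setup.x_pow (b : ℕ) : ∀ q0 : ZMod p, (∀ w, D.rho x w - w - q0 • (D.N ^ m) w ∈ D.Fl (m + 1)) →
    ∀ w, D.rho (x ^ b) w - w - ((b : ZMod p) * q0) • (D.N ^ m) w ∈ D.Fl (m + 1) := by
  intro q0 h
  induction b with
  | zero => intro w; simp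
  | succ b ih =>
    intro w
    rw [pow_succ', rho_mul, Nat.cast_succ]
    have e : D.rho x (D.rho (x ^ b) w) - w - (((b : ZMod p) + 1) * q0) • (D.N ^ m) w =
        D.rho x (D.rho (x ^ b) w - w - ((b : ZMod p) * q0) • (D.N ^ m) w) +
          ((b : ZMod p) * q0) • (D.rho x ((D.N ^ m) w) - (D.N ^ m) w) +
          (D.rho x w - w - q0 • (D.N ^ m) w) := by
      rw [map_sub, map_sub, map_smul, add_mul, one_mul, add_smul, smul_sub]; abel
    rw [e]
    exact (D.Fl _).add_mem ((D.Fl _).add_mem (keep S.x_mem (ih w))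
      ((D.Fl _).smul_mem _ (low S.x_mem (pow_mem_Fl m w)))) (h w)

/-- The action of a normalizer element on the flag. -/
theorem Setup.norm_data {t : X} (ht : t ∈ Subgroup.normalizer ((D.P : Subgroup X) : Set X)) :
    ∃ (a : ZMod p) (M : Module.End (ZMod p) V), a ≠ 0 ∧ Commute M D.N ∧
      (∀ w, D.rho t (D.N w) = M (D.rho t w)) ∧
      (∀ i w, (M ^ i) w - a ^ i • (D.N ^ i) w ∈ D.Fl (i + 1)) ∧
      (∀ (i : ℕ) (w : V), w ∈ D.Fl i → D.rho t w ∈ D.Fl i) ∧
      (∀ w, D.rho t w - a ^ (m + 1) • w ∈ D.Fl 1) ∧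
      (t * x = x * t → a ^ m = 1) := by
  have hsP : t * D.s * t⁻¹ ∈ (D.P : Subgroup X) := (Subgroup.mem_normalizer_iff.1 ht _).1 D.s_mem
  obtain ⟨a, ha⟩ := exists_coef hsP
  obtain ⟨hc, hl⟩ := S.coef_N hsP ha
  set M := D.rho (t * D.s * t⁻¹) - 1 with hMdef
  have hconj : ∀ w, D.rho t (D.N w) = M (D.rho t w) := fun w => by
    simp only [hMdef, Datum.N, LinearMap.sub_apply, Module.End.one_apply, map_sub, rho_mul,
      rho_inv']
  have hconjpow : ∀ (i : ℕ) (w : V), D.rho t ((D.N ^ i) w) = (M ^ i) (D.rho t w) := by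
    intro i
    induction i with
    | zero => intro w; simp
    | succ i ih => intro w; rw [pow_succ, pow_succ, Module.End.mul_apply, ih, hconj,
        Module.End.mul_apply]
  have hkeep : ∀ (i : ℕ) (w : V), w ∈ D.Fl i → D.rho t w ∈ D.Fl i := by
    rintro i _ ⟨u, rfl⟩
    rw [hconjpow]
    have h1 := (D.Fl i).add_mem (Fl_mono (Nat.le_succ i) (pow_lead hc hl i (D.rho t u)))
      ((D.Fl i).smul_mem (a ^ i) (pow_mem_Fl i (D.rho t u)))
    simpa using h1
  have ha0 : a ≠ 0 := by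
    rintro rfl
    refine v0_notMem_one S.hv0 (i := D.d - 1) (by have := D.three_le; omega) ?_
    have h1 := pow_lead hc hl (D.d - 1) (D.rho t v0)
    rw [zero_pow (by have := D.three_le; omega), zero_smul, sub_zero, ← hconjpow] at h1
    have h2 : D.rho t ((D.N ^ (D.d - 1)) v0) = 0 := Fl_bot (by omega) h1
    have h3 := congrArg (D.rho t⁻¹) h2
    rw [rho_inv', map_zero] at h3
    exact absurd h3 S.hv0
  have hxP : t * x * t⁻¹ ∈ (D.P : Subgroup X) := (Subgroup.mem_normalizer_iff.1 ht _).1 S.x_mem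
  have hx0 : D.Coef (t * x * t⁻¹) 0 := coef_zero_iff.2 fun w => by
    have h1 : D.rho (t * x * t⁻¹) w - w =
        D.rho t (D.rho x (D.rho t⁻¹ w) - D.rho t⁻¹ w) := by
      simp only [map_sub, rho_mul, rho_inv]
    rw [h1]
    exact hkeep 2 _ (Fl_mono S.two_le (S.x_low _))
  obtain ⟨b, hb⟩ := S.coef_zero_mem hxP hx0
  obtain ⟨q0, hq0, hql⟩ := S.q_lead
  have hbeq : (b : ZMod p) = a ^ m := by
    set z := D.rho t v0 with hz
    have h1 : D.rho (x ^ b) z - z = D.rho t (D.rho x v0 - v0) := by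
      rw [← hb, map_sub, rho_mul, rho_mul, hz, rho_inv']
    have h2 := S.x_pow b q0 hql z
    rw [h1] at h2
    have h3 : D.rho t (D.rho x v0 - v0 - q0 • (D.N ^ m) v0) ∈ D.Fl (m + 1) := hkeep _ _ (hql v0)
    rw [map_sub _ (D.rho x v0 - v0), map_smul, hconjpow, ← hz] at h3
    have h4 := (D.Fl (m + 1)).smul_mem q0 (pow_lead hc hl m z)
    have h5 := (D.Fl (m + 1)).add_mem ((D.Fl (m + 1)).sub_mem h2 h3) ((D.Fl (m + 1)).neg_mem h4)
    have e : D.rho t (D.rho x v0 - v0) - ((b : ZMod p) * q0) • (D.N ^ m) z -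
        (D.rho t (D.rho x v0 - v0) - q0 • (M ^ m) z) +
        -(q0 • ((M ^ m) z - a ^ m • (D.N ^ m) z)) =
        (q0 * (a ^ m - (b : ZMod p))) • (D.N ^ m) z := by
      rw [smul_sub, smul_smul, mul_sub, sub_smul, mul_comm (b : ZMod p) q0]; abel
    rw [e] at h5
    by_contra hne
    have hne' : q0 * (a ^ m - (b : ZMod p)) ≠ 0 := mul_ne_zero hq0 (sub_ne_zero.2 (Ne.symm hne))
    have h6 : (D.N ^ m) z ∈ D.Fl (m + 1) := (Submodule.smul_mem_iff _ hne').1 h5
    obtain ⟨c, hc'⟩ := decomp S.hv0 (Fl_zero (D := D) z)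
    rw [pow_zero, Module.End.one_apply] at hc'
    have hc0 : c ≠ 0 := by
      rintro rfl
      rw [zero_smul, sub_zero, zero_add] at hc'
      obtain ⟨u, hu⟩ := hc'
      have hsP' : t⁻¹ * D.s * t⁻¹⁻¹ ∈ (D.P : Subgroup X) :=
        (Subgroup.mem_normalizer_iff.1 (inv_mem ht) _).1 D.s_mem
      have h7 := low hsP' (Fl_zero (D := D) (D.rho t⁻¹ u))
      have h8 : v0 ∈ D.Fl 1 := by
        have e1 : D.rho t⁻¹ z = v0 := rho_inv' t v0
        rw [← e1, ← hu]
        simpa [Datum.N, rho_mul, rho_inv, map_sub] using h7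
      exact v0_notMem_one S.hv0 (i := 0) (by have := D.three_le; omega) (by simpa using h8)
    have h7 := pow_shift m hc'
    rw [map_sub, map_smul, zero_add, add_comm 1 m] at h7
    have h8 := (D.Fl (m + 1)).sub_mem h6 h7
    rw [sub_sub_cancel] at h8
    exact v0_notMem_one S.hv0 (i := m) (by have := S.m_lt; omega)
      ((Submodule.smul_mem_iff _ hc0).1 h8)
  refine ⟨a, M, ha0, hc, hconj, fun i => pow_lead hc hl i, hkeep, ?_, ?_⟩
  · intro w
    have h1 := S.weight t ht x S.x_mem S.x_ne S.coef_x a.val b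
      (by simpa using ha) hb w
    rw [Nat.cast_mul, ZMod.natCast_zmod_val, hbeq, ← pow_succ'] at h1
    exact h1
  · intro htx
    have h1 : t * x * t⁻¹ = x := by rw [htx, mul_inv_cancel_right]
    rw [h1] at hb
    have h2 : x ^ 1 = x ^ b := by rw [pow_one]; exact hb
    rw [pow_eq_pow_iff_modEq, S.orderOf_x] at h2
    rw [← hbeq, ← Nat.cast_one]
    exact ((ZMod.natCast_eq_natCast_iff _ _ _).2 h2).symm

end Cfsg.Agent.Lib.MaxClassEss85.Abel
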