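import Cfsg.Agent.Lib.MaxClassEss85.AbelFlag

/-!
Bilinear maps, their filtration, and invariant bilinear maps obtained by averaging.
-/

set_option autoImplicit false

namespace Cfsg.Agent.Lib.MaxClassEss85.Abel

universe u v

open Cfsg.Agent.Lib.MaxClassEss85

variable {p : ℕ} [hp : Fact p.Prime] {X : Type u} [Group X] [Finite X] {V : Type v}
  [AddCommGroup V] [Module (ZMod p) V]

/-- The action on bilinear maps. -/
noncomputable def act (D : Datum p X V) :
    X →* Module.End (ZMod p) (V →ₗ[ZMod p] V →ₗ[ZMod p] V) where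
  toFun g :=
    { toFun := fun B => (B.compl₁₂ (D.rho g⁻¹) (D.rho g⁻¹)).compr₂ (D.rho g)
      map_add' := fun B B' => by ext u w; simp
      map_smul' := fun r B => by ext u w; simp }
  map_one' := by ext B u w; simp
  map_mul' g h := by ext B u w; simp

theorem act_apply (D : Datum p X V) (g : X) (B : V →ₗ[ZMod p] V →ₗ[ZMod p] V) (u w : V) :
    act D g B u w = D.rho g (B (D.rho g⁻¹ u) (D.rho g⁻¹ w)) := by
  simp [act]

/-- Bilinear maps raising the flag by `j`, up to level `M`. -/
def shift (D : Datum p X V) (M : ℕ) (j : ℤ) :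
    Submodule (ZMod p) (V →ₗ[ZMod p] V →ₗ[ZMod p] V) where
  carrier := {B | ∀ (a b : ℕ), ∀ u ∈ D.Fl a, ∀ w ∈ D.Fl b,
    B u w ∈ D.Fl (min M (((a + b : ℕ) : ℤ) + j).toNat)}
  add_mem' := fun hB hB' a b u hu w hw => by
    simpa using (D.Fl _).add_mem (hB a b u hu w hw) (hB' a b u hu w hw)
  zero_mem' := fun a b u _ w _ => by simp
  smul_mem' := fun r B hB a b u hu w hw => by
    simpa using (D.Fl _).smul_mem r (hB a b u hu w hw)

variable {D : Datum p X V} {x : X} {m : ℕ} {q : Module.End (ZMod p) V} {v0 : V}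

theorem shift_mono {M : ℕ} {i j : ℤ} (h : i ≤ j) {B : V →ₗ[ZMod p] V →ₗ[ZMod p] V}
    (hB : B ∈ shift D M j) : B ∈ shift D M i :=
  fun a b u hu w hw => Fl_mono (by omega) (hB a b u hu w hw)

/-- `g` and its inverse lower the flag by `k`. -/
def Lowers (D : Datum p X V) (k : ℕ) (g : X) : Prop :=
  ∀ (i : ℕ) (w : V), w ∈ D.Fl i → D.rho g w - w ∈ D.Fl (i + k) ∧ D.rho g⁻¹ w - w ∈ D.Fl (i + k)

theorem lowers_one {g : X} (hg : g ∈ (D.P : Subgroup X)) : Lowers D 1 g :=
  fun _ _ hw => ⟨low hg hw, low (inv_mem hg) hw⟩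

theorem lowers_x (S : Setup D x m q v0) : Lowers D m x := by
  have h : ∀ (i : ℕ) (w : V), w ∈ D.Fl i → D.rho x w - w ∈ D.Fl (i + m) := by
    rintro i _ ⟨u, rfl⟩
    have hc : Commute (D.rho x - 1) D.N := (S.comm_N S.x_mem).sub_left (Commute.one_left _)
    simpa using comm_shift hc (b := m) (fun z => by simpa using S.x_low z) (pow_mem_Fl i u)
  refine fun i w hw => ⟨h i w hw, ?_⟩
  have h2 := keep (inv_mem S.x_mem) (h i w hw)
  rw [map_sub, rho_inv'] at h2
  simpa using (D.Fl _).neg_mem h2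

theorem shift_step {M : ℕ} {j : ℤ} {k : ℕ} {g : X} (hg : Lowers D k g)
    {B : V →ₗ[ZMod p] V →ₗ[ZMod p] V} (hB : B ∈ shift D M j) :
    (act D g - 1) B ∈ shift D M (j + k) := by
  intro a b u hu w hw
  set u' := D.rho g⁻¹ u with hu'
  set w' := D.rho g⁻¹ w with hw'
  have hdu : u' - u ∈ D.Fl (a + k) := (hg a u hu).2
  have hdw : w' - w ∈ D.Fl (b + k) := (hg b w hw).2
  have hu'' : u' ∈ D.Fl a := by
    simpa using (D.Fl a).add_mem (Fl_mono (Nat.le_add_right a k) hdu) hu
  have hw'' : w' ∈ D.Fl b := by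
    simpa using (D.Fl b).add_mem (Fl_mono (Nat.le_add_right b k) hdw) hw
  have e : ((act D g - 1) B) u w =
      (D.rho g (B u' w') - B u' w') + B (u' - u) w' + B u (w' - w) := by
    simp only [LinearMap.sub_apply, Module.End.one_apply, act_apply, map_sub, ← hu', ← hw']
    abel
  rw [e]
  refine (D.Fl _).add_mem ((D.Fl _).add_mem ?_ ?_) ?_
  · exact Fl_mono (by omega) (hg _ _ (hB a b u' hu'' w' hw'')).1
  · exact Fl_mono (by omega) (hB (a + k) b _ hdu w' hw'')
  · exact Fl_mono (by omega) (hB a (b + k) u hu _ hdw)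

theorem shift_steps {M : ℕ} {j : ℤ} {k : ℕ} {g : X} (hg : Lowers D k g) (n : ℕ)
    {B : V →ₗ[ZMod p] V →ₗ[ZMod p] V} (hB : B ∈ shift D M j) :
    ((act D g - 1) ^ n) B ∈ shift D M (j + (n : ℤ) * k) := by
  induction n with
  | zero => simpa using hB
  | succ n ih =>
    rw [pow_succ', Module.End.mul_apply]
    refine shift_mono (le_of_eq ?_) (shift_step hg ih)
    push_cast; ring

/-- A conjugate of a bilinear map keeping level `M` is in the lowest filtration step. -/
theorem shift_base {M k : ℕ} {c : X} (hc : ∀ w ∈ D.Fl M, D.rho c w ∈ D.Fl M)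
    (hc' : ∀ w ∈ D.Fl M, D.rho c⁻¹ w ∈ D.Fl M) {B : V →ₗ[ZMod p] V →ₗ[ZMod p] V}
    (hB : B ∈ shift D M k) : act D c B ∈ shift D M (-(2 * ((M : ℤ) - 1))) := by
  intro a b u hu w hw
  rw [act_apply]
  by_cases ha : M ≤ a
  · exact Fl_mono (Nat.min_le_left _ _) (hc _ (Fl_mono (by omega)
      (hB M 0 _ (hc' _ (Fl_mono ha hu)) _ (Fl_zero _))))
  by_cases hb : M ≤ b
  · exact Fl_mono (Nat.min_le_left _ _) (hc _ (Fl_mono (by omega)
      (hB 0 M _ (Fl_zero _) _ (hc' _ (Fl_mono hb hw)))))
  exact Fl_mono (by omega) (Fl_zero _)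

/-- A functional which is the coefficient of `v0`. -/
theorem Setup.exists_dual (S : Setup D x m q v0) :
    ∃ f : V →ₗ[ZMod p] ZMod p, f v0 = 1 ∧ ∀ w ∈ D.Fl 1, f w = 0 := by
  have hv : v0 ∉ D.Fl 1 := fun h =>
    v0_notMem_one S.hv0 (i := 0) (by have := D.three_le; omega) (by simpa using h)
  obtain ⟨f, hf, hf'⟩ := Submodule.exists_dual_map_eq_bot_of_notMem hv inferInstance
  refine ⟨(f v0)⁻¹ • f, by simp [inv_mul_cancel₀ hf], fun w hw => ?_⟩
  have h0 : f w ∈ (D.Fl 1).map f := Submodule.mem_map_of_mem hw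
  rw [hf', Submodule.mem_bot] at h0
  simp [h0]

theorem conj_mem_normalizer {P R : Subgroup X} (h : ∀ y ∈ P, ∀ c : X, c ∈ R → c * y * c⁻¹ ∈ P) :
    R ≤ Subgroup.normalizer (P : Set X) := by
  intro c hc
  rw [Subgroup.mem_normalizer_iff]
  refine fun y => ⟨fun hy => h y hy c hc, fun hy => ?_⟩
  simpa [mul_assoc] using h _ hy c⁻¹ (inv_mem hc)

theorem mem_zpowers_of_ne_one {s h : X} (hs : (orderOf s).Prime) (h1 : h ∈ Subgroup.zpowers s)
    (h2 : h ≠ 1) : s ∈ Subgroup.zpowers h := by
  haveI : Fact (orderOf s).Prime := ⟨hs⟩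
  have hh : (⟨h, h1⟩ : Subgroup.zpowers s) ≠ 1 := fun e => h2 (congrArg Subtype.val e)
  have := mem_zpowers_of_prime_card (G := Subgroup.zpowers s) (g := ⟨h, h1⟩)
    (g' := ⟨s, Subgroup.mem_zpowers s⟩) (Nat.card_zpowers s) hh
  obtain ⟨n, hn⟩ := this
  exact ⟨n, congrArg Subtype.val hn⟩

/-- An element of `P` fixing a coset whose representative is outside the normalizer. -/
theorem Setup.mem_normalizer_of_conj (S : Setup D x m q v0) {h c : X}
    (hh : h ∈ (D.P : Subgroup X)) (hch : c⁻¹ * h * c ∈ (D.P : Subgroup X))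
    (hC : Subgroup.centralizer ({h} : Set X) ≤ Subgroup.normalizer ((D.P : Subgroup X) : Set X)) :
    c ∈ Subgroup.normalizer ((D.P : Subgroup X) : Set X) := by
  set R : Subgroup X := (D.P : Subgroup X).map (MulAut.conj c).toMonoidHom with hR
  have hRC : R ≤ Subgroup.centralizer ({h} : Set X) := by
    rintro _ ⟨y, hy, rfl⟩
    rw [Subgroup.mem_centralizer_singleton_iff]
    show c * y * c⁻¹ * h = h * (c * y * c⁻¹)
    have := S.abelian y hy _ hch
    calc c * y * c⁻¹ * h = c * (y * (c⁻¹ * h * c)) * c⁻¹ := by group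
      _ = c * ((c⁻¹ * h * c) * y) * c⁻¹ := by rw [this]
      _ = h * (c * y * c⁻¹) := by group
  have hsup : IsPGroup p (R ⊔ (D.P : Subgroup X) : Subgroup X) :=
    IsPGroup.to_sup_of_normal_right' (D.P.2.map _) D.P.2 (hRC.trans hC)
  have hle : R ≤ (D.P : Subgroup X) := by
    rw [← D.P.3 hsup le_sup_right]; exact le_sup_left
  have hmem : ∀ y ∈ (D.P : Subgroup X), c * y * c⁻¹ ∈ (D.P : Subgroup X) :=
    fun y hy => hle ⟨y, hy, rfl⟩
  exact Subgroup.mem_normalizer_fintype hmem

/-- An invariant bilinear map with prescribed leading term, by averaging. -/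
theorem Setup.average (S : Setup D x m q v0) (C : Subgroup X) (hPC : (D.P : Subgroup X) ≤ C)
    (M k : ℕ) (hk : 1 ≤ k) (hM : ∀ c ∈ C, ∀ w ∈ D.Fl M, D.rho c w ∈ D.Fl M)
    (hscal : ∀ t ∈ Subgroup.normalizer ((D.P : Subgroup X) : Set X), t ∈ C →
      ∀ a : ZMod p, a ≠ 0 → (t * x = x * t → a ^ m = 1) → a ^ k = a ^ (m + 1))
    {Q : Type u} [Group Q] [Fintype Q] (j : Q →* X) (hj : ∀ g, j g ∈ (D.P : Subgroup X))
    (hfree : ∀ g : Q, ∀ c ∈ C, c ∉ Subgroup.normalizer ((D.P : Subgroup X) : Set X) →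
      c⁻¹ * j g * c ∈ (D.P : Subgroup X) → g = 1)
    (hQp : p ∣ Fintype.card Q) (J : ℤ)
    (hQ : ∀ B ∈ shift D M (-(2 * ((M : ℤ) - 1))), (∑ g : Q, act D (j g)) B ∈ shift D M J) :
    ∃ (v' : V →ₗ[ZMod p] V →ₗ[ZMod p] V) (n : ZMod p), n ≠ 0 ∧
      v' ∈ shift D M (min (k : ℤ) J) ∧
      (∀ c ∈ C, act D c v' = v') ∧
      (∀ (b : ℕ) (w : V), w ∈ D.Fl b →
        v' v0 w - n • (D.N ^ k) w ∈ D.Fl (min M ((b : ℤ) + min ((k : ℤ) + 1) J).toNat)) ∧
      ∀ u ∈ D.Fl 1, ∀ w, v' u w ∈ D.Fl (min M (1 + J).toNat) := by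
  classical
  obtain ⟨f0, hf1, hf0⟩ := S.exists_dual
  set v : V →ₗ[ZMod p] V →ₗ[ZMod p] V := f0.smulRight (D.N ^ k) with hvdef
  have hvap : ∀ u w, v u w = f0 u • (D.N ^ k) w := fun u w => by simp [hvdef]
  have hv : v ∈ shift D M k := by
    intro a b u hu w hw
    rw [hvap]
    rcases Nat.eq_zero_or_pos a with rfl | ha
    · exact (D.Fl _).smul_mem _ (Fl_mono (by omega) (pow_shift k hw))
    · rw [hf0 u (Fl_mono ha hu), zero_smul]; exact Submodule.zero_mem _
  have hvP : ∀ h ∈ (D.P : Subgroup X), act D h v = v := by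
    intro h hh
    refine LinearMap.ext fun u => LinearMap.ext fun w => ?_
    rw [act_apply, hvap, hvap]
    have h1 : f0 (D.rho h⁻¹ u) = f0 u := by
      have := hf0 _ (low (inv_mem hh) (Fl_zero (D := D) u))
      rwa [map_sub, sub_eq_zero] at this
    rw [h1, map_smul, ← Module.End.mul_apply (D.rho h), ((S.comm_N hh).pow_right k).eq,
      Module.End.mul_apply, rho_inv]
  set P' : Subgroup C := (D.P : Subgroup X).subgroupOf C with hP'
  haveI : Fintype (C ⧸ P') := Fintype.ofFinite _
  set f : C ⧸ P' → (V →ₗ[ZMod p] V →ₗ[ZMod p] V) := fun z => act D ((z.out : C) : X) v with hfdef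
  have hout : ∀ c : C, ∃ h ∈ (D.P : Subgroup X),
      (((QuotientGroup.mk c : C ⧸ P').out : C) : X) = (c : X) * h := by
    intro c
    obtain ⟨h, hh⟩ := QuotientGroup.mk_out_eq_mul P' c
    exact ⟨((h : C) : X), h.2, by rw [hh]; rfl⟩
  have hfmk : ∀ c : C, f (QuotientGroup.mk c) = act D (c : X) v := by
    intro c
    obtain ⟨h, hh, he⟩ := hout c
    simp only [hfdef, he, map_mul, Module.End.mul_apply, hvP h hh]
  have hmove : ∀ (g : C) (z : C ⧸ P'), f (g • z) = act D (g : X) (f z) := by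
    intro g z
    induction z using QuotientGroup.induction_on with
    | H r =>
      rw [hfmk r, MulAction.Quotient.smul_mk, hfmk, smul_eq_mul, Subgroup.coe_mul, map_mul,
        Module.End.mul_apply]
  set base : Finset (C ⧸ P') := Finset.univ.filter fun z =>
    (((z.out : C) : X)) ∈ Subgroup.normalizer ((D.P : Subgroup X) : Set X) with hbase
  set rest : Finset (C ⧸ P') := Finset.univ \ base with hrest
  have hPN : (D.P : Subgroup X) ≤ Subgroup.normalizer ((D.P : Subgroup X) : Set X) :=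
    Subgroup.le_normalizer
  have hbase_mk : ∀ c : C, QuotientGroup.mk c ∈ base ↔
      (c : X) ∈ Subgroup.normalizer ((D.P : Subgroup X) : Set X) := by
    intro c
    obtain ⟨h, hh, he⟩ := hout c
    simp only [hbase, Finset.mem_filter, Finset.mem_univ, true_and, he]
    exact Subgroup.mul_mem_cancel_right _ (hPN hh)
  let jC : Q →* C := j.codRestrict C (fun g => hPC (hj g))
  letI : MulAction Q (C ⧸ P') := MulAction.compHom _ jC
  have hsmul : ∀ (g : Q) (z : C ⧸ P'), g • z = jC g • z := fun _ _ => rfl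
  have hinv : ∀ g : Q, ∀ z ∈ rest, g • z ∈ rest := by
    intro g z hz
    induction z using QuotientGroup.induction_on with
    | H r =>
      rw [hsmul, MulAction.Quotient.smul_mk, smul_eq_mul]
      simp only [hrest, Finset.mem_sdiff, Finset.mem_univ, true_and] at hz ⊢
      rw [hbase_mk, Subgroup.coe_mul, Subgroup.mul_mem_cancel_left _ (by exact hPN (hj g))]
      rwa [hbase_mk] at hz
  have hfr : ∀ g : Q, ∀ z ∈ rest, g • z = z → g = 1 := by
    intro g z hz hgz
    induction z using QuotientGroup.induction_on with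
    | H r =>
      rw [hsmul, MulAction.Quotient.smul_mk, smul_eq_mul, QuotientGroup.eq] at hgz
      simp only [hrest, Finset.mem_sdiff, Finset.mem_univ, true_and] at hz
      rw [hbase_mk] at hz
      refine hfree g (r : X) r.2 hz ?_
      have h1 := inv_mem (Subgroup.mem_subgroupOf.1 hgz)
      simpa [mul_assoc, jC] using h1
  -- the number of base cosets is prime to `p`
  have hbase_card : (base.card : ZMod p) ≠ 0 := by
    have hr : (rest.card : ZMod p) = 0 := by
      have h := sum_free_mem (p := p) (M := ZMod p) (fun _ : Q => (1 : Module.End (ZMod p) (ZMod p)))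
        (fun _ => (1 : ZMod p)) rest hinv hfr (fun g z _ => by simp)
      obtain ⟨z, hz⟩ := h
      simp only [Finset.sum_const, LinearMap.smul_apply, Module.End.one_apply, Finset.card_univ,
        nsmul_eq_mul, mul_one] at hz
      rw [← hz, Module.End.natCast_apply, nsmul_eq_mul, (ZMod.natCast_eq_zero_iff _ _).2 hQp, zero_mul]
    have htot : ¬ p ∣ Fintype.card (C ⧸ P') := by
      rw [← Nat.card_eq_fintype_card, ← Subgroup.index_eq_card]
      exact fun h => D.P.not_dvd_index (h.trans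
        (by rw [hP']; exact ⟨C.index, (Subgroup.relIndex_mul_index hPC).symm⟩))
    intro hb
    refine htot ((ZMod.natCast_eq_zero_iff _ _).1 ?_)
    rw [← Finset.card_univ, ← Finset.card_sdiff_add_card_eq_card (Finset.subset_univ base),
      Nat.cast_add, ← hrest, hr, hb, add_zero]
  -- base terms
  have hNterm : ∀ z ∈ base, (∀ u ∈ D.Fl 1, ∀ w, f z u w = 0) ∧
      f z - v ∈ shift D M ((k : ℤ) + 1) := by
    intro z hz
    induction z using QuotientGroup.induction_on with
    | H r =>
      rw [hbase_mk] at hz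
      rw [hfmk]
      obtain ⟨a, Mt, ha, hcM, hconj, hlead, -, hscl, hax⟩ := S.norm_data hz
      have hak := hscal _ hz r.2 a ha hax
      have hfinv : ∀ u, a ^ (m + 1) * f0 (D.rho (r : X)⁻¹ u) = f0 u := by
        intro u
        have := hf0 _ (hscl (D.rho (r : X)⁻¹ u))
        rw [rho_inv, map_sub, map_smul, sub_eq_zero, smul_eq_mul] at this
        exact this.symm
      have hpow : ∀ (i : ℕ) (w : V), D.rho (r : X) ((D.N ^ i) w) =
          (Mt ^ i) (D.rho (r : X) w) := by
        intro i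
        induction i with
        | zero => intro w; simp
        | succ i ih => intro w; rw [pow_succ, pow_succ, Module.End.mul_apply, ih, hconj,
            Module.End.mul_apply]
      have hval : ∀ u w, act D (r : X) v u w =
          f0 (D.rho (r : X)⁻¹ u) • (Mt ^ k) w := by
        intro u w
        rw [act_apply, hvap, map_smul, hpow, rho_inv]
      refine ⟨fun u hu w => ?_, fun a' b u hu w hw => ?_⟩
      · have h1 := hfinv u
        rw [hf0 u hu] at h1
        rw [hval, (mul_eq_zero.1 h1).resolve_left (pow_ne_zero _ ha), zero_smul]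
      · rw [LinearMap.sub_apply, LinearMap.sub_apply, hval, hvap]
        rcases Nat.eq_zero_or_pos a' with rfl | ha'
        · rw [← hfinv u, ← hak, mul_comm, ← smul_smul, ← smul_sub]
          refine (D.Fl _).smul_mem _ ?_
          obtain ⟨w1, rfl⟩ := hw
          have hc : Commute (Mt ^ k - a ^ k • D.N ^ k) D.N :=
            (hcM.pow_left k).sub_left (((Commute.refl D.N).pow_left k).smul_left _)
          have h2 := comm_shift hc (b := k + 1) (fun z => by simpa using hlead k z)
            (pow_mem_Fl b w1)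
          refine Fl_mono (j := b + (k + 1)) (by omega) ?_
          simpa using h2
        · have h1 := hfinv u
          rw [hf0 u (Fl_mono ha' hu)] at h1
          rw [hf0 u (Fl_mono ha' hu), (mul_eq_zero.1 h1).resolve_left (pow_ne_zero _ ha),
            zero_smul, zero_smul, sub_zero]
          exact Submodule.zero_mem _
  -- the free part
  have hR : ∑ z ∈ rest, f z ∈ shift D M J := by
    have hb0 : ∀ z, f z ∈ shift D M (-(2 * ((M : ℤ) - 1))) := fun z =>
      shift_base (hM _ z.out.2) (hM _ (inv_mem z.out.2)) hv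
    set W0 := shift D M (-(2 * ((M : ℤ) - 1))) with hW0
    have hW : ∀ g : Q, ∀ B ∈ W0, act D (j g) B ∈ W0 := by
      intro g B hB
      have h1 := shift_step (lowers_one (hj g)) hB
      have h2 := W0.add_mem (shift_mono (by omega) h1) hB
      simpa using h2
    have h := sum_free_mem (p := p) (M := W0) (fun g => (act D (j g)).restrict (hW g))
      (fun z => ⟨f z, hb0 z⟩) rest hinv hfr
      (fun g z _ => Subtype.ext (by rw [hsmul]; exact hmove (jC g) z))
    obtain ⟨B, hB⟩ := h
    have e := congrArg Subtype.val hB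
    simp only [LinearMap.sum_apply, AddSubmonoidClass.coe_finset_sum,
      LinearMap.restrict_coe_apply] at e
    rw [← e, ← LinearMap.sum_apply]
    exact hQ _ B.2
  refine ⟨∑ z, f z, (base.card : ZMod p), hbase_card, ?_, ?_, ?_, ?_⟩
  · rw [← Finset.sum_sdiff (Finset.subset_univ base), ← hrest]
    refine (shift D M _).add_mem (shift_mono (min_le_right _ _) hR)
      ((shift D M _).sum_mem fun z hz => shift_mono (min_le_left _ _) ?_)
    have := (shift D M (k : ℤ)).add_mem (shift_mono (by omega) (hNterm z hz).2) hv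
    simpa using this
  · intro c hc
    rw [map_sum]
    refine Fintype.sum_equiv (MulAction.toPerm (⟨c, hc⟩ : C)) _ _ fun z => ?_
    exact (hmove ⟨c, hc⟩ z).symm
  · intro b w hw
    have h1 : (∑ z, f z) v0 w - (base.card : ZMod p) • (D.N ^ k) w =
        (∑ z ∈ rest, f z) v0 w + (∑ z ∈ base, (f z - v)) v0 w := by
      rw [← Finset.sum_sdiff (Finset.subset_univ base), ← hrest]
      simp only [LinearMap.add_apply, LinearMap.sum_apply, LinearMap.sub_apply,
        Finset.sum_sub_distrib, Finset.sum_const, LinearMap.smul_apply, hvap, hf1, one_smul,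
        Nat.cast_smul_eq_nsmul]
      abel
    rw [h1]
    refine (D.Fl _).add_mem (Fl_mono (by omega) (hR 0 b v0 (Fl_zero _) w hw))
      (Fl_mono (by omega) (((shift D M ((k : ℤ) + 1)).sum_mem fun z hz => (hNterm z hz).2)
        0 b v0 (Fl_zero _) w hw))
  · intro u hu w
    rw [← Finset.sum_sdiff (Finset.subset_univ base), ← hrest, LinearMap.add_apply,
      LinearMap.add_apply]
    have h0 : (∑ z ∈ base, f z) u w = 0 := by
      simp only [LinearMap.sum_apply]
      exact Finset.sum_eq_zero fun z hz => (hNterm z hz).1 u hu w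
    rw [h0, add_zero]
    exact Fl_mono (by omega) (hR 1 0 u hu w (Fl_zero _))

end Cfsg.Agent.Lib.MaxClassEss85.Abel
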