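import Mathlib
import Cfsg.Agent.Lib.QuadStab.WeylElement
import Cfsg.Agent.Lib.StronglyP.Basic

/-!
Two quadratic automorphisms of an irreducible module generating a group that is not a `p`-group:
the group they generate sits in a group `SL(2, E)`.
-/

set_option autoImplicit false

namespace Cfsg.Agent.Lib.MaxClassEss85.QuadSL

open Cfsg.Agent.Lib Cfsg.Agent.Lib.SL2

universe v

section Entries

variable {F : Type*} [Field F]

theorem entries_of_commute_upper {g : SLtwo F} {e : F} (he : e ≠ 0) (h : g * upper e = upper e * g) :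
    g 1 0 = 0 ∧ g 0 0 = g 1 1 := by
  have h00 := congrArg (fun x : SLtwo F => x 0 0) h
  have h01 := congrArg (fun x : SLtwo F => x 0 1) h
  simp only [mul_00, mul_01, upper_00, upper_01, upper_10, upper_11] at h00 h01
  have h10 : g 1 0 = 0 := (mul_eq_zero.1 (by linear_combination -h00 : e * g 1 0 = 0)).resolve_left he
  refine ⟨h10, ?_⟩
  have : e * (g 0 0 - g 1 1) = 0 := by linear_combination h01
  exact sub_eq_zero.1 ((mul_eq_zero.1 this).resolve_left he)

variable {p : ℕ} [Fact p.Prime] [CharP F p]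

theorem eq_upper_of_commute (hp : p ≠ 2) {g : SLtwo F} {e : F} (he : e ≠ 0)
    (h : g * upper e = upper e * g) (hg : g ^ p = 1) : g = upper (g 0 1) := by
  obtain ⟨h10, h00⟩ := entries_of_commute_upper he h
  have ht := ZJ.tr_eq_two_of_pow hg
  have h2 : (2 : F) ≠ 0 := SL2Unipotent.two_ne_zero' (p := p) hp
  have h1 : g 0 0 = 1 := by
    have : (2 : F) * (g 0 0 - 1) = 0 := by simp only [tr] at ht; linear_combination ht + h00
    exact sub_eq_zero.1 ((mul_eq_zero.1 this).resolve_left h2)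
  apply ext_entries <;> simp [h10, h1, ← h00]

theorem upper_of_pGroup (hp : p ≠ 2) {T : Subgroup (SLtwo F)} [Finite T] (hT : IsPGroup p T) {c : F}
    (hc : c ≠ 0) (hcT : upper c ∈ T) {g : SLtwo F} (hg : g ∈ T) (hgp : g ^ p = 1) :
    ∃ e, g = upper e := by
  have hne : Nontrivial T := by
    refine ⟨⟨upper c, hcT⟩, 1, fun h => hc ?_⟩
    simpa using congrArg (fun x : T => (x : SLtwo F) 0 1) h
  have hz := hT.center_nontrivial
  obtain ⟨⟨w, hwz⟩, hw1⟩ := exists_ne (1 : Subgroup.center T)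
  have hw1' : w ≠ 1 := fun h => hw1 (Subtype.ext h)
  obtain ⟨n, hn⟩ := StronglyP.exists_orderOf_eq_mem_zpowers (p := p) hw1' (hT w)
  set w' : SLtwo F := ((w ^ n : T) : SLtwo F) with hw'
  have hord : orderOf w' = p := by rw [hw', Subgroup.orderOf_coe]; exact hn
  have hcomm : ∀ x ∈ T, x * w' = w' * x := fun x hx =>
    congrArg Subtype.val (Subgroup.mem_center_iff.1 (Subgroup.pow_mem _ hwz n) ⟨x, hx⟩)
  have hwu := eq_upper_of_commute hp hc (hcomm _ hcT).symm (by rw [← hord]; exact pow_orderOf_eq_one _)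
  have hw0 : w' 0 1 ≠ 0 := fun h => by
    rw [h, upper_zero] at hwu
    rw [hwu, orderOf_one] at hord
    exact (Fact.out : p.Prime).one_lt.ne hord
  refine ⟨g 0 1, eq_upper_of_commute hp hw0 ?_ hgp⟩
  rw [← hwu]
  exact hcomm g hg

theorem exists_conj_four (hp : p ≠ 2) {L : Subgroup (SLtwo F)} [Finite L] {c : F} (hc : c ≠ 0)
    (hcL : upper c ∈ L) (ψ : SLtwo (ZMod p) →* SLtwo F) (hψ : Function.Injective ψ) (hψL : ψ.range ≤ L) :
    ∃ h ∈ L, h * upper c * h⁻¹ = upper c ^ 4 := by
  have hord : orderOf (⟨upper c, hcL⟩ : L) = p := by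
    rw [← Subgroup.orderOf_coe]
    refine orderOf_eq_prime ?_ fun h => hc ?_
    · show upper c ^ p = 1
      rw [upper_pow, CharP.cast_eq_zero F p, zero_mul, upper_zero]
    · simpa using congrArg (fun x : SLtwo F => x 0 1) h
  obtain ⟨T, hT⟩ := (IsPGroup.of_card (n := 1) (G := Subgroup.zpowers (⟨upper c, hcL⟩ : L))
    (p := p) (by rw [Nat.card_zpowers, hord, pow_one])).exists_le_sylow
  set u : L := ⟨ψ (upper 1), hψL ⟨_, rfl⟩⟩ with hu
  have hup : u ^ p = 1 := Subtype.ext (by
    show ψ (upper 1) ^ p = 1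
    rw [← map_pow, upper_pow, CharP.cast_eq_zero (ZMod p) p, zero_mul, upper_zero, map_one])
  obtain ⟨R, hR⟩ := (IsPGroup.iff_card.2 (by
    rcases (Nat.dvd_prime Fact.out).1 (orderOf_dvd_of_pow_eq_one hup) with hk | hk
    · exact ⟨0, by rw [Nat.card_zpowers, hk, pow_zero]⟩
    · exact ⟨1, by rw [Nat.card_zpowers, hk, pow_one]⟩) : IsPGroup p (Subgroup.zpowers u)).exists_le_sylow
  obtain ⟨x, hx⟩ := MulAction.exists_smul_eq L R T
  set T' : Subgroup (SLtwo F) := (T : Subgroup L).map L.subtype with hT'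
  have hcT : upper c ∈ T' := ⟨_, hT (Subgroup.mem_zpowers _), rfl⟩
  have hu1 : (x : SLtwo F) * ψ (upper 1) * (x : SLtwo F)⁻¹ ∈ T' := by
    refine ⟨x * u * x⁻¹, ?_, rfl⟩
    rw [← hx, Sylow.coe_subgroup_smul]
    exact Subgroup.smul_mem_pointwise_smul u (MulAut.conj x) _ (hR (Subgroup.mem_zpowers _))
  have : Finite T' := Finite.of_surjective
    (fun t : (T : Subgroup L) => (⟨_, Subgroup.mem_map_of_mem L.subtype t.2⟩ : T'))
    (fun y => by
      obtain ⟨_, ⟨t, ht, rfl⟩⟩ := y
      exact ⟨⟨t, ht⟩, rfl⟩)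
  obtain ⟨e, he⟩ := upper_of_pGroup hp (T.2.map _) hc hcT hu1 (by
    rw [conj_pow, show ψ (upper 1) ^ p = 1 from congrArg Subtype.val hup, mul_one, mul_inv_cancel])
  have he0 : e ≠ 0 := fun h => by
    rw [h, upper_zero, mul_inv_eq_one, mul_eq_left] at he
    have := hψ (he.trans (map_one ψ).symm)
    simpa using congrArg (fun y : SLtwo (ZMod p) => y 0 1) this
  have h2 : (2 : F) ≠ 0 := SL2Unipotent.two_ne_zero' (p := p) hp
  have h2' : (2 : ZMod p) ≠ 0 := SL2Unipotent.two_ne_zero' (p := p) hp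
  set g : SLtwo F := (x : SLtwo F) * ψ (diag (Units.mk0 2 h2')) * (x : SLtwo F)⁻¹ with hg
  have hge : g * upper e * g⁻¹ = upper (4 * e) := by
    rw [← he, hg]
    calc _ = (x : SLtwo F) * ψ (diag (Units.mk0 2 h2') * upper 1 * (diag (Units.mk0 2 h2'))⁻¹) *
          (x : SLtwo F)⁻¹ := by rw [map_mul, map_mul, map_inv]; group
      _ = (x : SLtwo F) * ψ (upper 1 ^ 4) * (x : SLtwo F)⁻¹ := by
        rw [diag_conj_upper, upper_pow]; norm_num
      _ = upper e ^ 4 := by rw [map_pow, ← conj_pow, he]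
      _ = upper (4 * e) := by rw [upper_pow]; norm_num
  rw [mul_inv_eq_iff_eq_mul] at hge
  have h00 := congrArg (fun y : SLtwo F => y 0 0) hge
  have h01 := congrArg (fun y : SLtwo F => y 0 1) hge
  simp only [mul_00, mul_01, upper_00, upper_01, upper_10, upper_11] at h00 h01
  have h4 : (4 : F) * e ≠ 0 := mul_ne_zero (by
    rw [show (4 : F) = 2 * 2 by norm_num]; exact mul_ne_zero h2 h2) he0
  have g10 : g 1 0 = 0 := (mul_eq_zero.1 (by linear_combination -h00 : 4 * e * g 1 0 = 0)).resolve_left h4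
  have g00 : g 0 0 = 4 * g 1 1 := by
    have : e * (g 0 0 - 4 * g 1 1) = 0 := by linear_combination h01
    exact sub_eq_zero.1 ((mul_eq_zero.1 this).resolve_left he0)
  refine ⟨g, L.mul_mem (L.mul_mem x.2 (hψL ⟨_, rfl⟩)) (L.inv_mem x.2), ?_⟩
  rw [mul_inv_eq_iff_eq_mul, upper_pow]
  apply ext_entries <;>
    simp only [mul_00, mul_01, mul_10, mul_11, upper_00, upper_01, upper_10, upper_11, g10, g00] <;>
    push_cast <;> ring

end Entries

variable {M : Type v} [AddCommGroup M] [Finite M] {p : ℕ} [Fact p.Prime]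

set_option maxHeartbeats 1000000 in
/-- What the embedding in `SL(2, E)` gives. -/
theorem exists_model (hp : p ≠ 2) (hM : ∀ x : M, p • x = 0)
    (a b : (AddMonoid.End M)ˣ) (ha : ((a : AddMonoid.End M) - 1) * ((a : AddMonoid.End M) - 1) = 0)
    (hb : ((b : AddMonoid.End M) - 1) * ((b : AddMonoid.End M) - 1) = 0)
    (hirr : ∀ N : AddSubgroup M, (∀ x ∈ N, (a : AddMonoid.End M) x ∈ N) →
      (∀ x ∈ N, (b : AddMonoid.End M) x ∈ N) → N = ⊥ ∨ N = ⊤)
    (hnp : ¬ IsPGroup p (Subgroup.closure ({a, b} : Set (AddMonoid.End M)ˣ))) :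
    (∀ x ∈ Subgroup.closure ({a, b} : Set (AddMonoid.End M)ˣ), x * a = a * x → x * b = b * x →
      (x : AddMonoid.End M) = 1 ∨ (x : AddMonoid.End M) = -1) ∧
    (∀ x ∈ Subgroup.closure ({a, b} : Set (AddMonoid.End M)ˣ), x * x = 1 →
      (x : AddMonoid.End M) = 1 ∨ (x : AddMonoid.End M) = -1) ∧
    (∃ h ∈ Subgroup.closure ({a, b} : Set (AddMonoid.End M)ˣ), h * a * h⁻¹ = a ^ 4) ∧
    (∀ x : M, (a : AddMonoid.End M) x = x → ∃ y : M, (a : AddMonoid.End M) y - y = x) := by
  have hpp : p.Prime := Fact.out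
  set A := (a : AddMonoid.End M) - 1
  set B := (b : AddMonoid.End M) - 1
  have haA : ∀ x, (a : AddMonoid.End M) x = x + A x := fun x => by
    show _ = x + ((a : AddMonoid.End M) x - x); abel
  have hbB : ∀ x, (b : AddMonoid.End M) x = x + B x := fun x => by
    show _ = x + ((b : AddMonoid.End M) x - x); abel
  have hA2 : ∀ x, A (A x) = 0 := fun x => DFunLike.congr_fun ha x
  have hB2 : ∀ x, B (B x) = 0 := fun x => DFunLike.congr_fun hb x
  have hne : Nontrivial M := by
    by_contra h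
    rw [not_nontrivial_iff_subsingleton] at h
    have : Subsingleton (AddMonoid.End M) := ⟨fun f g => AddMonoidHom.ext fun x => Subsingleton.elim _ _⟩
    exact hnp fun x => ⟨0, Subtype.ext (Units.ext (Subsingleton.elim _ _))⟩
  let S : Subring (AddMonoid.End M) := Subring.closure {A, B}
  let A' : S := ⟨A, Subring.subset_closure (Set.mem_insert _ _)⟩
  let B' : S := ⟨B, Subring.subset_closure (Set.mem_insert_of_mem _ rfl)⟩
  let E : Subring S := Subring.center S
  have : Finite (AddMonoid.End M) := Finite.of_injective (fun f => (f : M → M)) DFunLike.coe_injective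
  have hcomm : ∀ (z : E) (g : S) (x : M), (g : AddMonoid.End M) (z • x) = z • (g : AddMonoid.End M) x :=
    fun z g x => DFunLike.congr_fun (congrArg Subtype.val (Subring.mem_center_iff.1 z.2 g)) x
  have hsmul : ∀ (z : E) (x : M), z • x = ((z : S) : AddMonoid.End M) x := fun _ _ => rfl
  have hinvA : ∀ N : AddSubgroup M, (∀ x ∈ N, A x ∈ N) → (∀ x ∈ N, B x ∈ N) → N = ⊥ ∨ N = ⊤ :=
    fun N h1 h2 => hirr N (fun x hx => haA x ▸ N.add_mem hx (h1 x hx))
      fun x hx => hbB x ▸ N.add_mem hx (h2 x hx)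
  have hkerz : ∀ (z : E), z ≠ 0 → ∀ x : M, z • x = 0 → x = 0 := by
    intro z hz
    rcases hinvA (AddMonoidHom.ker ((z : S) : AddMonoid.End M))
      (fun x hx => by
        change z • x = 0 at hx
        show z • (A' : AddMonoid.End M) x = 0
        rw [← hcomm, hx, map_zero])
      (fun x hx => by
        change z • x = 0 at hx
        show z • (B' : AddMonoid.End M) x = 0
        rw [← hcomm, hx, map_zero]) with h | h
    · intro x hx
      have hx' : x ∈ AddMonoidHom.ker ((z : S) : AddMonoid.End M) := hx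
      rw [h] at hx'
      exact hx'
    · refine absurd ?_ hz
      refine Subtype.ext (Subtype.ext (AddMonoidHom.ext fun x => ?_))
      have hx' : x ∈ AddMonoidHom.ker ((z : S) : AddMonoid.End M) := h ▸ AddSubgroup.mem_top x
      exact hx'
  have : Nontrivial E := ⟨0, 1, fun h => by
    obtain ⟨x, hx⟩ := exists_ne (0 : M)
    apply hx
    have := DFunLike.congr_fun (congrArg (fun z : E => ((z : S) : AddMonoid.End M)) h) x
    exact this.symm⟩
  have : NoZeroDivisors E := ⟨fun {z w} h => by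
    by_contra hcon
    rw [not_or] at hcon
    obtain ⟨x, hx⟩ := exists_ne (0 : M)
    refine hx (hkerz w hcon.2 x (hkerz z hcon.1 _ ?_))
    rw [← mul_smul, h, zero_smul]⟩
  have : IsDomain E := NoZeroDivisors.to_isDomain _
  let : Field E := (Finite.isField_of_domain E).toField
  have : Fintype E := Fintype.ofFinite E
  have hpE : ((p : ℕ) : E) = 0 := Subtype.ext (Subtype.ext (AddMonoidHom.ext fun x => by
    push_cast
    show ((p : AddMonoid.End M)) x = 0
    rw [AddMonoid.End.natCast_apply]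
    exact hM x))
  have : CharP E p := by
    have h := CharP.exists' E
    rcases h with h | ⟨q, hq, hqc⟩
    · exact absurd (Nat.cast_eq_zero.1 hpE) hpp.ne_zero
    · have hd := (CharP.cast_eq_zero_iff E q p).1 hpE
      rw [← (Nat.prime_dvd_prime_iff_eq hq.out hpp).1 hd]
      exact hqc
  obtain ⟨v, hv, hAv⟩ : ∃ v : M, v ≠ 0 ∧ A v = 0 := by
    obtain ⟨x, hx⟩ := exists_ne (0 : M)
    by_cases h : A x = 0
    exacts [⟨x, hx, h⟩, ⟨A x, h, hA2 x⟩]
  set c' : S := A' * B' + B' * A' with hc'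
  have hc : c' ∈ E := by
    have hA0 : A' * A' = 0 := Subtype.ext ha
    have hB0 : B' * B' = 0 := Subtype.ext hb
    have hgA : A' * c' = c' * A' := by
      rw [hc', mul_add, add_mul, ← mul_assoc, hA0, zero_mul, zero_add, mul_assoc, mul_assoc, hA0,
        mul_zero, add_zero]
    have hgB : B' * c' = c' * B' := by
      rw [hc', mul_add, add_mul, ← mul_assoc B' B', hB0, zero_mul, add_zero, mul_assoc A', hB0,
        mul_zero, zero_add, mul_assoc]
    rw [Subring.mem_center_iff]
    rintro ⟨g, hg⟩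
    apply Subtype.ext
    show g * (c' : AddMonoid.End M) = (c' : AddMonoid.End M) * g
    induction hg using Subring.closure_induction with
    | mem x hx =>
      rcases hx with rfl | rfl
      · exact congrArg Subtype.val hgA
      · exact congrArg Subtype.val hgB
    | zero => rw [zero_mul, mul_zero]
    | one => rw [one_mul, mul_one]
    | add x y _ _ hx hy => rw [add_mul, mul_add, hx, hy]
    | neg x _ hx => rw [neg_mul, mul_neg, hx]
    | mul x y _ _ hx hy => rw [mul_assoc, hy, ← mul_assoc, hx, mul_assoc]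
  let c : E := ⟨c', hc⟩
  have hABv : A (B v) = c • v := by
    show A (B v) = A (B v) + B (A v)
    rw [hAv, map_zero, add_zero]
  let Φ₀ : (Fin 2 → E) →ₗ[E] M :=
    { toFun := fun x => x 0 • v + x 1 • B v
      map_add' := fun x y => by simp only [Pi.add_apply, add_smul]; abel
      map_smul' := fun z x => by simp only [Pi.smul_apply, smul_eq_mul, mul_smul, smul_add, RingHom.id_apply] }
  have hBv : B v ≠ 0 := by
    intro h0
    let N : AddSubgroup M := (LinearMap.range (LinearMap.toSpanSingleton E M v)).toAddSubgroup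
    have hN : ∀ z : E, z • v ∈ N := fun z => ⟨z, rfl⟩
    rcases hinvA N (fun x hx => by
        obtain ⟨z, rfl⟩ := hx
        show (A' : AddMonoid.End M) (z • v) ∈ N
        rw [hcomm]; show z • A v ∈ N; rw [hAv, smul_zero]; exact N.zero_mem)
      (fun x hx => by
        obtain ⟨z, rfl⟩ := hx
        show (B' : AddMonoid.End M) (z • v) ∈ N
        rw [hcomm]; show z • B v ∈ N; rw [h0, smul_zero]; exact N.zero_mem) with h | h
    · refine hv ?_
      have h1 := hN 1
      rw [one_smul, h] at h1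
      exact h1
    · apply hnp
      have hone : ∀ f : (AddMonoid.End M)ˣ, (f : AddMonoid.End M) - 1 = 0 → f = 1 := fun f hf =>
        Units.ext (sub_eq_zero.1 hf)
      have hA0 : ∀ (g : S), (g : AddMonoid.End M) v = 0 → (g : AddMonoid.End M) = 0 := fun g hg => by
        refine AddMonoidHom.ext fun x => ?_
        have hx : x ∈ N := h ▸ AddSubgroup.mem_top x
        obtain ⟨z, rfl⟩ := hx
        show (g : AddMonoid.End M) (z • v) = 0
        rw [hcomm, hg, smul_zero]
      rw [hone a (hA0 A' hAv), hone b (hA0 B' h0)]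
      rintro ⟨x, hx⟩
      have : x = 1 := by simpa [Subgroup.mem_closure_singleton, eq_comm] using hx
      exact ⟨0, Subtype.ext (by simpa using this)⟩
  have hΦinj : Function.Injective Φ₀ := by
    rw [← LinearMap.ker_eq_bot, eq_bot_iff]
    intro x hx
    have h1 : x 0 • v + x 1 • B v = 0 := hx
    have h2 := congrArg (B' : AddMonoid.End M) h1
    rw [map_add, hcomm, hcomm, map_zero] at h2
    change x 0 • B v + x 1 • B (B v) = 0 at h2
    rw [hB2, smul_zero, add_zero] at h2
    have hx0 : x 0 = 0 := by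
      by_contra h
      exact hBv (hkerz _ h _ h2)
    rw [hx0, zero_smul, zero_add] at h1
    have hx1 : x 1 = 0 := by
      by_contra h
      exact hBv (hkerz _ h _ h1)
    exact funext fun i => by fin_cases i <;> assumption
  have haS : ∀ x : Fin 2 → E, A (Φ₀ x) = (x 1 * c) • v := fun x => by
    show (A' : AddMonoid.End M) (x 0 • v + x 1 • B v) = _
    rw [map_add, hcomm, hcomm]
    show x 0 • A v + x 1 • A (B v) = _
    rw [hAv, smul_zero, zero_add, hABv, ← mul_smul]
  have hbS : ∀ x : Fin 2 → E, B (Φ₀ x) = x 0 • B v := fun x => by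
    show (B' : AddMonoid.End M) (x 0 • v + x 1 • B v) = _
    rw [map_add, hcomm, hcomm]
    show x 0 • B v + x 1 • B (B v) = _
    rw [hB2, smul_zero, add_zero]
  have hΦsur : Function.Surjective Φ₀ := by
    rcases hinvA (LinearMap.range Φ₀).toAddSubgroup (fun x hx => by
        obtain ⟨y, rfl⟩ := hx
        exact ⟨![y 1 * c, 0], by
          show (y 1 * c) • v + (0 : E) • B v = _; rw [zero_smul, add_zero, haS]⟩)
      (fun x hx => by
        obtain ⟨y, rfl⟩ := hx
        exact ⟨![0, y 0], by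
          show (0 : E) • v + y 0 • B v = _; rw [zero_smul, zero_add, hbS]⟩) with h | h
    · refine absurd ?_ hv
      have h1 : v ∈ (LinearMap.range Φ₀).toAddSubgroup := ⟨![1, 0], by
        show (1 : E) • v + (0 : E) • B v = v; rw [one_smul, zero_smul, add_zero]⟩
      rw [h] at h1
      exact h1
    · intro x
      have hx : x ∈ (LinearMap.range Φ₀).toAddSubgroup := h ▸ AddSubgroup.mem_top x
      exact hx
  let Φ : (Fin 2 → E) ≃ₗ[E] M := LinearEquiv.ofBijective Φ₀ ⟨hΦinj, hΦsur⟩
  have hΦ : ∀ x, Φ x = x 0 • v + x 1 • B v := fun _ => rfl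
  let θ : SLtwo E →* AddMonoid.End M :=
    { toFun := fun g => ((Φ.conj (Matrix.toLin' (g : Matrix (Fin 2) (Fin 2) E))).toAddMonoidHom :
        AddMonoid.End M)
      map_one' := AddMonoidHom.ext fun x => by
        show Φ (Matrix.toLin' ((1 : SLtwo E) : Matrix (Fin 2) (Fin 2) E) (Φ.symm x)) = x
        rw [Matrix.SpecialLinearGroup.coe_one, Matrix.toLin'_one, LinearMap.id_apply,
          LinearEquiv.apply_symm_apply]
      map_mul' := fun g h => AddMonoidHom.ext fun x => by
        show Φ (Matrix.toLin' ((g * h : SLtwo E) : Matrix (Fin 2) (Fin 2) E) (Φ.symm x)) =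
          Φ (Matrix.toLin' (g : Matrix (Fin 2) (Fin 2) E)
            (Φ.symm (Φ (Matrix.toLin' (h : Matrix (Fin 2) (Fin 2) E) (Φ.symm x)))))
        rw [LinearEquiv.symm_apply_apply, Matrix.SpecialLinearGroup.coe_mul, Matrix.toLin'_mul,
          LinearMap.comp_apply] }
  let Θ : SLtwo E →* (AddMonoid.End M)ˣ := θ.toHomUnits
  have hθ : ∀ g x, θ g (Φ x) = Φ ((g : Matrix (Fin 2) (Fin 2) E).mulVec x) := fun g x => by
    show Φ (Matrix.toLin' (g : Matrix (Fin 2) (Fin 2) E) (Φ.symm (Φ x))) = _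
    rw [LinearEquiv.symm_apply_apply, Matrix.toLin'_apply]
  have hua : Θ (upper c) = a := Units.ext <| AddMonoidHom.ext fun x => by
    obtain ⟨y, rfl⟩ := Φ.surjective x
    show θ (upper c) (Φ y) = (a : AddMonoid.End M) (Φ y)
    rw [hθ, haA]
    show _ = Φ y + A (Φ₀ y)
    rw [haS, hΦ, hΦ]
    simp [upper, Matrix.mulVec, dotProduct, Fin.sum_univ_two, add_smul, mul_comm c (y 1)]
    abel
  have hlb : Θ (lower 1) = b := Units.ext <| AddMonoidHom.ext fun x => by
    obtain ⟨y, rfl⟩ := Φ.surjective x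
    show θ (lower 1) (Φ y) = (b : AddMonoid.End M) (Φ y)
    rw [hθ, hbB]
    show _ = Φ y + B (Φ₀ y)
    rw [hbS, hΦ, hΦ]
    simp [lower, Matrix.mulVec, dotProduct, Fin.sum_univ_two, add_smul]
    abel
  set L : Subgroup (SLtwo E) := Subgroup.closure {upper c, lower 1} with hL
  have hLmap : L.map Θ = Subgroup.closure {a, b} := by
    rw [hL, MonoidHom.map_closure, Set.image_pair, hua, hlb]
  have hLnp : ¬ IsPGroup p L := fun h => hnp (hLmap ▸ h.map Θ)
  have hc0 : c ≠ 0 := by
    intro h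
    have hlp : lower (1 : E) ^ p = 1 := by
      rw [lower_pow, CharP.cast_eq_zero E p, zero_mul, lower_zero]
    refine hLnp (IsPGroup.to_le ?_ (?_ : L ≤ Subgroup.zpowers (lower 1)))
    · rintro ⟨y, hy⟩
      obtain ⟨n, rfl⟩ := hy
      refine ⟨1, Subtype.ext ?_⟩
      show (lower (1 : E) ^ n) ^ p ^ 1 = 1
      rw [pow_one, ← zpow_natCast, ← zpow_mul, mul_comm, zpow_mul, zpow_natCast, hlp, one_zpow]
    · rw [hL, Subgroup.closure_le, h, upper_zero]
      exact Set.insert_subset (Subgroup.one_mem _)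
        (Set.singleton_subset_iff.2 (Subgroup.mem_zpowers _))
  have h2 : (2 : E) ≠ 0 := SL2Unipotent.two_ne_zero' (p := p) hp
  have hΘinj : Function.Injective Θ := by
    intro g g' hgg'
    refine Subtype.ext (Matrix.ext_of_mulVec_single fun i => Φ.injective ?_)
    rw [← hθ, ← hθ]
    exact DFunLike.congr_fun (congrArg Units.val hgg') (Φ (Pi.single i 1))
  have hpm : ∀ g : SLtwo E, g = 1 ∨ g = -1 →
      ((Θ g : (AddMonoid.End M)ˣ) : AddMonoid.End M) = 1 ∨
      ((Θ g : (AddMonoid.End M)ˣ) : AddMonoid.End M) = -1 := by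
    rintro g (rfl | rfl)
    · exact Or.inl (by rw [map_one, Units.val_one])
    · refine Or.inr (AddMonoidHom.ext fun x => ?_)
      obtain ⟨y, rfl⟩ := Φ.surjective x
      show θ (-1) (Φ y) = -(Φ y)
      rw [hθ, ← map_neg]
      simp [Matrix.neg_mulVec]
  have hsq : ∀ g : SLtwo E, g * g = 1 → g = 1 ∨ g = -1 := fun g hg => by
    by_cases h : g = 1
    · exact Or.inl h
    · exact Or.inr (eq_neg_one_of_mul_self_eq_one h2 hg h)
  refine ⟨?_, ?_, ?_, ?_⟩
  · intro x hx hxa hxb
    rw [← hLmap] at hx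
    obtain ⟨g, hg, rfl⟩ := hx
    rw [← hua, ← map_mul, ← map_mul] at hxa
    rw [← hlb, ← map_mul, ← map_mul] at hxb
    obtain ⟨h10, h00⟩ := entries_of_commute_upper hc0 (hΘinj hxa)
    have e00 := congrArg (fun y : SLtwo E => y 0 0) (hΘinj hxb)
    simp only [mul_00, lower_00, lower_01, lower_10] at e00
    have h01 : g 0 1 = 0 := by linear_combination e00
    refine hpm g (hsq g ?_)
    have hd := det_entries g
    rw [h01, ← h00, zero_mul, sub_zero] at hd
    apply ext_entries <;>
      simp only [mul_00, mul_01, mul_10, mul_11, h10, h01, ← h00, Matrix.SpecialLinearGroup.coe_one] <;>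
      simp [hd]
  · intro x hx hxx
    rw [← hLmap] at hx
    obtain ⟨g, hg, rfl⟩ := hx
    rw [← map_mul, ← map_one Θ] at hxx
    exact hpm g (hsq g (hΘinj hxx))
  · obtain ⟨ψ, hψ, hψL⟩ := ZJ.exists_embedding_of_not_isPGroup (p := p) hp
      (u := upper c) (v := lower 1)
      (show _ = (0 : Matrix (Fin 2) (Fin 2) E) by ext i j; fin_cases i <;> fin_cases j <;> simp [upper, Matrix.mul_apply, Fin.sum_univ_two])
      (show _ = (0 : Matrix (Fin 2) (Fin 2) E) by ext i j; fin_cases i <;> fin_cases j <;> simp [lower, Matrix.mul_apply, Fin.sum_univ_two])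
      hL hLnp
    obtain ⟨h, hh, he⟩ := exists_conj_four hp hc0
      (hL ▸ Subgroup.subset_closure (Set.mem_insert _ _)) ψ hψ hψL
    refine ⟨Θ h, hLmap ▸ ⟨h, hh, rfl⟩, ?_⟩
    rw [← hua, ← map_inv, ← map_mul, ← map_mul, he, map_pow]
  · intro x hx
    obtain ⟨y, rfl⟩ := Φ.surjective x
    have hAx : A (Φ₀ y) = 0 := by
      have h1 := hx
      rw [haA] at h1
      exact add_eq_left.1 h1
    rw [haS] at hAx
    have hy1 : y 1 * c = 0 := by
      by_contra h
      exact hv (hkerz _ h v hAx)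
    have hy1' : y 1 = 0 := (mul_eq_zero.1 hy1).resolve_right hc0
    refine ⟨Φ ![0, y 0 / c], ?_⟩
    rw [haA, add_sub_cancel_left]
    show A (Φ₀ ![0, y 0 / c]) = Φ y
    rw [haS, hΦ, hy1', zero_smul, add_zero]
    simp [div_mul_cancel₀ _ hc0]

end Cfsg.Agent.Lib.MaxClassEss85.QuadSL
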