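import Mathlib
import Cfsg.Agent.Lib.MaxClassEss85.QuadSL

/-!
Irreducible sections of a linear action of a group generated by two quadratic elements of order `p`.
-/

set_option autoImplicit false

namespace Cfsg.Agent.Lib.MaxClassEss85.QuadSec

open Cfsg.Agent.Lib
open scoped commutatorElement

universe u v

variable {p : ℕ} {L : Type u} [Group L] {V : Type v} [AddCommGroup V] [Module (ZMod p) V]

/-- A submodule invariant under the action. -/
def Inv (σ : L →* Module.End (ZMod p) V) (C : Submodule (ZMod p) V) : Prop :=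
  ∀ l : L, ∀ w ∈ C, σ l w ∈ C

/-- An irreducible section. -/
structure Sec (σ : L →* Module.End (ZMod p) V) where
  A : Submodule (ZMod p) V
  B : Submodule (ZMod p) V
  invA : Inv σ A
  invB : Inv σ B
  le : A ≤ B
  ne : A ≠ B
  min : ∀ C, Inv σ C → A ≤ C → C ≤ B → C = A ∨ C = B

variable {σ : L →* Module.End (ZMod p) V}

/-- The space of a section. -/
abbrev Sec.M (S : Sec σ) : Type v := ↥S.B ⧸ S.A.comap S.B.subtype

/-- The action on the space of a section. -/
def Sec.end' (S : Sec σ) : L →* AddMonoid.End S.M where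
  toFun l := ((Submodule.mapQ (S.A.comap S.B.subtype) (S.A.comap S.B.subtype)
    ((σ l).restrict (S.invB l)) fun w hw => S.invA l _ hw).toAddMonoidHom : AddMonoid.End S.M)
  map_one' := AddMonoidHom.ext fun x => by
    induction x using Submodule.Quotient.induction_on with
    | _ w =>
      show Submodule.Quotient.mk _ = Submodule.Quotient.mk w
      congr 1
      ext
      show σ 1 (w : V) = (w : V)
      rw [map_one]; rfl
  map_mul' l l' := AddMonoidHom.ext fun x => by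
    induction x using Submodule.Quotient.induction_on with
    | _ w =>
      show Submodule.Quotient.mk _ = Submodule.Quotient.mk _
      congr 1
      ext
      show σ (l * l') (w : V) = σ l (σ l' (w : V))
      rw [map_mul]; rfl

/-- The action on the space of a section, in the units. -/
def Sec.hom (S : Sec σ) : L →* (AddMonoid.End S.M)ˣ := S.end'.toHomUnits

theorem Sec.hom_apply (S : Sec σ) (l : L) (w : V) (hw : w ∈ S.B) :
    (S.hom l : AddMonoid.End S.M) (Submodule.Quotient.mk ⟨w, hw⟩) =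
      Submodule.Quotient.mk ⟨σ l w, S.invB l w hw⟩ := rfl

theorem Sec.mk_eq_zero (S : Sec σ) {w : V} (hw : w ∈ S.B) :
    (Submodule.Quotient.mk ⟨w, hw⟩ : S.M) = 0 ↔ w ∈ S.A := by
  rw [Submodule.Quotient.mk_eq_zero, Submodule.mem_comap]
  rfl

theorem Sec.mk_eq (S : Sec σ) {w w' : V} (hw : w ∈ S.B) (hw' : w' ∈ S.B) :
    (Submodule.Quotient.mk ⟨w, hw⟩ : S.M) = Submodule.Quotient.mk ⟨w', hw'⟩ ↔ w - w' ∈ S.A := by
  rw [Submodule.Quotient.eq, Submodule.mem_comap]
  rfl

theorem Sec.nontrivial (S : Sec σ) : Nontrivial S.M := by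
  obtain ⟨w, hwB, hwA⟩ := SetLike.exists_of_lt (lt_of_le_of_ne S.le S.ne)
  exact ⟨⟨Submodule.Quotient.mk ⟨w, hwB⟩, 0, fun h => hwA ((S.mk_eq_zero hwB).1 h)⟩⟩

theorem Sec.sub_mem (S : Sec σ) {l : L} (h : S.hom l = 1) {w : V} (hw : w ∈ S.B) :
    σ l w - w ∈ S.A := by
  have h1 := S.hom_apply l w hw
  rw [h, Units.val_one] at h1
  exact (S.mk_eq _ hw).1 h1.symm

theorem Sec.add_mem (S : Sec σ) {l : L} (h : (S.hom l : AddMonoid.End S.M) = -1) {w : V}
    (hw : w ∈ S.B) : σ l w + w ∈ S.A := by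
  have h1 := S.hom_apply l w hw
  rw [h] at h1
  have h2 : σ l w - -w ∈ S.A := (S.mk_eq _ (S.B.neg_mem hw)).1 h1.symm
  rwa [sub_neg_eq_add] at h2

theorem Sec.p_smul (S : Sec σ) (x : S.M) : p • x = 0 := by
  rw [← Nat.cast_smul_eq_nsmul (ZMod p), ZMod.natCast_self, zero_smul]

theorem inv_of_closure [Finite L] {z z' : L} (hgen : Subgroup.closure ({z, z'} : Set L) = ⊤)
    {C : Submodule (ZMod p) V} (hz : ∀ w ∈ C, σ z w ∈ C) (hz' : ∀ w ∈ C, σ z' w ∈ C) : Inv σ C := by
  intro l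
  have hl : l ∈ Subgroup.closure ({z, z'} : Set L) := hgen ▸ Subgroup.mem_top l
  rw [← Subgroup.mem_toSubmonoid, Subgroup.closure_toSubmonoid_of_finite] at hl
  induction hl using Submonoid.closure_induction with
  | mem x hx => rcases hx with rfl | rfl <;> assumption
  | one => intro w hw; rw [map_one]; exact hw
  | mul x y _ _ hx hy => intro w hw; rw [map_mul]; exact hx _ (hy _ hw)

theorem Sec.irred [Finite L] (S : Sec σ) {z z' : L}
    (hgen : Subgroup.closure ({z, z'} : Set L) = ⊤) (N : AddSubgroup S.M)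
    (h1 : ∀ x ∈ N, (S.hom z : AddMonoid.End S.M) x ∈ N)
    (h2 : ∀ x ∈ N, (S.hom z' : AddMonoid.End S.M) x ∈ N) : N = ⊥ ∨ N = ⊤ := by
  let N' : Submodule (ZMod p) S.M := AddSubgroup.toZModSubmodule p N
  set C : Submodule (ZMod p) V :=
    (N'.comap (S.A.comap S.B.subtype).mkQ).map S.B.subtype with hC
  have hmem : ∀ w, ∀ hw : w ∈ S.B, w ∈ C ↔ (Submodule.Quotient.mk ⟨w, hw⟩ : S.M) ∈ N := by
    intro w hw
    constructor
    · rintro ⟨⟨w', hw'⟩, h, rfl⟩
      exact h
    · exact fun h => ⟨⟨w, hw⟩, h, rfl⟩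
  have hCB : C ≤ S.B := by
    rintro _ ⟨w', -, rfl⟩
    exact w'.2
  have hAC : S.A ≤ C := fun w hw => (hmem w (S.le hw)).2 <| by
    rw [(S.mk_eq_zero _).2 hw]; exact N.zero_mem
  have hinv : Inv σ C := by
    refine inv_of_closure hgen ?_ ?_
    · intro w hw
      exact (hmem _ (S.invB z w (hCB hw))).2
        (by rw [← S.hom_apply z w (hCB hw)]; exact h1 _ ((hmem w (hCB hw)).1 hw))
    · intro w hw
      exact (hmem _ (S.invB z' w (hCB hw))).2
        (by rw [← S.hom_apply z' w (hCB hw)]; exact h2 _ ((hmem w (hCB hw)).1 hw))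
  rcases S.min C hinv hAC hCB with h | h
  · refine Or.inl ((AddSubgroup.eq_bot_iff_forall _).2 fun x hx => ?_)
    induction x using Submodule.Quotient.induction_on with
    | _ w => exact (S.mk_eq_zero w.2).2 (h ▸ (hmem _ w.2).2 hx)
  · refine Or.inr ((AddSubgroup.eq_top_iff' _).2 fun x => ?_)
    induction x using Submodule.Quotient.induction_on with
    | _ w => exact (hmem _ w.2).1 (by rw [h]; exact w.2)

theorem exists_sec [Finite V] {B : Submodule (ZMod p) V} (hB : Inv σ B) (hne : B ≠ ⊥) :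
    ∃ S : Sec σ, S.B = B := by
  have : Finite (Submodule (ZMod p) V) :=
    Finite.of_injective (fun C => (C : Set V)) SetLike.coe_injective
  obtain ⟨A, hA, hmax⟩ := Set.Finite.exists_maximal
    (s := {C : Submodule (ZMod p) V | Inv σ C ∧ C < B}) (Set.toFinite _)
    ⟨⊥, fun l w hw => by rw [Submodule.mem_bot] at hw ⊢; rw [hw, map_zero], bot_lt_iff_ne_bot.2 hne⟩
  refine ⟨⟨A, B, hA.1, hB, hA.2.le, hA.2.ne, fun C hC hAC hCB => ?_⟩, rfl⟩
  rcases hCB.eq_or_lt with h | h
  · exact Or.inr h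
  · exact Or.inl (le_antisymm (hmax ⟨hC, h⟩ hAC) hAC)

/-- An element trivial on all sections inside `B` is unipotent on `B`. -/
theorem exists_pow_fix [Fact p.Prime] [Finite V] [Nontrivial V] {B : Submodule (ZMod p) V}
    (hB : Inv σ B) {x : L} (h : ∀ S : Sec σ, S.B ≤ B → S.hom x = 1) :
    ∃ k : ℕ, ∀ w ∈ B, σ (x ^ p ^ k) w = w := by
  have : Finite (Submodule (ZMod p) V) :=
    Finite.of_injective (fun C => (C : Set V)) SetLike.coe_injective
  have key : ∀ C : Submodule (ZMod p) V, Inv σ C → C ≤ B →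
      ∃ n : ℕ, ∀ w ∈ C, ((σ x - 1) ^ n) w = 0 := by
    intro C
    induction C using WellFoundedLT.induction with
    | _ C ih =>
      intro hC hCB
      by_cases hne : C = ⊥
      · exact ⟨0, fun w hw => by simpa [hne] using hw⟩
      obtain ⟨S, rfl⟩ := exists_sec hC hne
      obtain ⟨n, hn⟩ := ih S.A (lt_of_le_of_ne S.le S.ne) S.invA (S.le.trans hCB)
      refine ⟨n + 1, fun w hw => ?_⟩
      rw [pow_succ, Module.End.mul_apply]
      exact hn _ (S.sub_mem (h S hCB) hw)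
  obtain ⟨n, hn⟩ := key B hB le_rfl
  refine ⟨n, fun w hw => ?_⟩
  have : CharP (Module.End (ZMod p) V) p :=
    charP_of_injective_algebraMap (algebraMap (ZMod p) (Module.End (ZMod p) V)).injective p
  have h1 : σ (x ^ p ^ n) - 1 = (σ x - 1) ^ p ^ n := by
    rw [map_pow, sub_pow_char_pow_of_commute p n (Commute.one_right _), one_pow]
  have h2 : ((σ x - 1) ^ p ^ n) w = 0 := by
    obtain ⟨c, hc⟩ := Nat.exists_eq_add_of_le (Nat.lt_pow_self (Fact.out : p.Prime).one_lt (n := n)).le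
    rw [hc, add_comm, pow_add, Module.End.mul_apply, hn w hw, map_zero]
  rw [← h1] at h2
  exact sub_eq_zero.1 h2

variable [Fact p.Prime] [Finite V]

/-- On a section, either the image is not a `p`-group or the action is trivial. -/
theorem Sec.hom_eq_one [Finite L] (S : Sec σ) {z z' : L}
    (hgen : Subgroup.closure ({z, z'} : Set L) = ⊤) (hR : IsPGroup p S.hom.range) (l : L) :
    S.hom l = 1 := by
  haveI := S.nontrivial
  haveI : Finite S.M := Quotient.finite _
  haveI : Finite S.hom.range := Finite.of_surjective S.hom.rangeRestrict S.hom.rangeRestrict_surjective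
  have hdvd : p ∣ Nat.card S.M := by
    obtain ⟨x, hx⟩ := exists_ne (0 : S.M)
    exact (addOrderOf_eq_prime (S.p_smul x) hx).symm.dvd.trans (addOrderOf_dvd_natCard x)
  obtain ⟨w, hw, hw0⟩ := hR.exists_fixed_point_of_prime_dvd_card_of_fixed_point S.M hdvd
    (a := 0) (fun g => map_zero _)
  let N : AddSubgroup S.M :=
    { carrier := {x | ∀ g : L, (S.hom g : AddMonoid.End S.M) x = x}
      add_mem' := fun {x y} hx hy g => by rw [map_add, hx g, hy g]
      zero_mem' := fun g => map_zero _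
      neg_mem' := fun {x} hx g => by rw [map_neg, hx g] }
  have hN : ∀ g : L, ∀ x ∈ N, (S.hom g : AddMonoid.End S.M) x ∈ N := fun g x hx => by rwa [hx g]
  have hwN : w ∈ N := fun g => hw ⟨S.hom g, g, rfl⟩
  rcases S.irred hgen N (hN z) (hN z') with h | h
  · rw [h] at hwN
    exact absurd (AddSubgroup.mem_bot.1 hwN) hw0.symm
  · refine Units.ext (AddMonoidHom.ext fun x => ?_)
    have hx : x ∈ N := by rw [h]; trivial
    exact hx l

/-- The facts on a section with an image which is not a `p`-group. -/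
structure Facts (S : Sec σ) (z z' : L) : Prop where
  scalar : ∀ x : L, S.hom x * S.hom z = S.hom z * S.hom x → S.hom x * S.hom z' = S.hom z' * S.hom x →
    (S.hom x : AddMonoid.End S.M) = 1 ∨ (S.hom x : AddMonoid.End S.M) = -1
  sq : ∀ x : L, S.hom x * S.hom x = 1 →
    (S.hom x : AddMonoid.End S.M) = 1 ∨ (S.hom x : AddMonoid.End S.M) = -1
  four : ∃ h : L, S.hom (h * z * h⁻¹) = S.hom (z ^ 4)
  fix_im : ∀ w ∈ S.B, σ z w - w ∈ S.A → ∃ u ∈ S.B, σ z u - u - w ∈ S.A
  weyl : ∃ y u : L, (S.hom (y * y) : AddMonoid.End S.M) = -1 ∧ S.hom y * S.hom u ≠ S.hom u * S.hom y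
  comm : ∃ x y : L, S.hom ⁅x, y⁆ ≠ 1 ∧ S.hom ⁅x, y⁆ ^ p = 1

theorem Sec.quad (S : Sec σ) {z : L} (hz : (σ z - 1) * (σ z - 1) = 0) :
    ((S.hom z : AddMonoid.End S.M) - 1) * ((S.hom z : AddMonoid.End S.M) - 1) = 0 := by
  refine AddMonoidHom.ext fun x => ?_
  induction x using Submodule.Quotient.induction_on with
  | _ w =>
    obtain ⟨w, hw⟩ := w
    have h : σ z (σ z w - w) - (σ z w - w) = 0 := LinearMap.congr_fun hz w
    show (S.hom z : AddMonoid.End S.M) ((S.hom z : AddMonoid.End S.M) (Submodule.Quotient.mk ⟨w, hw⟩)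
      - Submodule.Quotient.mk ⟨w, hw⟩) - ((S.hom z : AddMonoid.End S.M)
      (Submodule.Quotient.mk ⟨w, hw⟩) - Submodule.Quotient.mk ⟨w, hw⟩) = 0
    rw [S.hom_apply, ← Submodule.Quotient.mk_sub]
    have e : (⟨σ z w, S.invB z w hw⟩ - ⟨w, hw⟩ : ↥S.B) =
        ⟨σ z w - w, S.B.sub_mem (S.invB z w hw) hw⟩ := rfl
    rw [e, S.hom_apply, ← Submodule.Quotient.mk_sub, Submodule.Quotient.mk_eq_zero,
      Submodule.mem_comap]
    show σ z (σ z w - w) - (σ z w - w) ∈ S.A
    rw [h]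
    exact S.A.zero_mem

theorem Sec.facts [Finite L] (S : Sec σ) {z z' : L}
    (hgen : Subgroup.closure ({z, z'} : Set L) = ⊤) (hp : p ≠ 2) (hp3 : p ≠ 3)
    (hz : (σ z - 1) * (σ z - 1) = 0) (hz' : (σ z' - 1) * (σ z' - 1) = 0)
    (hnp : ¬ IsPGroup p S.hom.range) : Facts S z z' := by
  haveI := S.nontrivial
  haveI : Finite S.M := Quotient.finite _
  have hcl : Subgroup.closure ({S.hom z, S.hom z'} : Set (AddMonoid.End S.M)ˣ) = S.hom.range := by
    rw [← Set.image_pair, ← MonoidHom.map_closure, hgen, ← MonoidHom.range_eq_map]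
  have hnp' : ¬ IsPGroup p (Subgroup.closure ({S.hom z, S.hom z'} : Set (AddMonoid.End S.M)ˣ)) := by
    rwa [hcl]
  obtain ⟨m1, m2, m3, m4⟩ := QuadSL.exists_model hp S.p_smul (S.hom z) (S.hom z') (S.quad hz)
    (S.quad hz') (S.irred hgen) hnp'
  obtain ⟨φ, hφ, hm, -⟩ := QuadStab.exists_sl_two_hom hp S.p_smul (S.hom z) (S.hom z') (S.quad hz)
    (S.quad hz') (S.irred hgen) hnp'
  rw [hcl] at hφ m3
  have hlift : ∀ g, ∃ l : L, S.hom l = φ g := fun g => hφ ⟨g, rfl⟩
  have hne : φ (-1) ≠ 1 := by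
    intro h
    rw [h, Units.val_one] at hm
    obtain ⟨x, hx⟩ := exists_ne (0 : S.M)
    have h2 : x + x = 0 := add_eq_zero_iff_eq_neg.2 (DFunLike.congr_fun hm x)
    refine hx ?_
    obtain ⟨k, hk⟩ := (Fact.out : p.Prime).odd_of_ne_two hp
    calc x = k • (x + x) + x := by rw [h2, smul_zero, zero_add]
      _ = (2 * k + 1) • x := by rw [← two_smul ℕ, smul_smul, add_smul, one_smul, mul_comm]
      _ = 0 := by
        have h3 := S.p_smul x
        exact (congrArg (· • x) hk).symm.trans h3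
  have hup : φ (SL2.upper 1) ≠ 1 := by
    intro h
    refine hne ?_
    have hw : (SL2.weyl : SL2.SLtwo (ZMod p)) =
        SL2.upper 1 * (SL2.lower 1)⁻¹ * SL2.upper 1 := by
      apply SL2.ext_entries <;> simp [SL2.lower_inv, Matrix.mul_apply, Fin.sum_univ_two]
    have hl : φ (SL2.lower 1) = 1 := by
      rw [show (SL2.lower (1 : ZMod p)) = (SL2.weyl * SL2.upper 1 * SL2.weyl⁻¹)⁻¹ by
        rw [SL2.weyl_conj_upper, SL2.lower_inv, neg_neg], map_inv, map_mul, map_mul, h, mul_one,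
        map_inv, mul_inv_cancel, inv_one]
    rw [← SL2.weyl_mul_weyl, map_mul, hw, map_mul, map_mul, map_inv, h, hl]
    simp
  refine ⟨fun x h1 h2 => m1 _ (by rw [hcl]; exact ⟨x, rfl⟩) h1 h2,
    fun x h => m2 _ (by rw [hcl]; exact ⟨x, rfl⟩) h, ?_, ?_, ?_, ?_⟩
  · obtain ⟨_, ⟨h, rfl⟩, he⟩ := m3
    exact ⟨h, by rw [map_mul, map_mul, map_inv, map_pow, he]⟩
  · intro w hw hwA
    obtain ⟨y, hy⟩ := m4 (Submodule.Quotient.mk ⟨w, hw⟩) (by
      rw [S.hom_apply]; exact (S.mk_eq _ hw).2 hwA)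
    induction y using Submodule.Quotient.induction_on with
    | _ u =>
      obtain ⟨u, hu⟩ := u
      refine ⟨u, hu, ?_⟩
      rw [S.hom_apply, ← Submodule.Quotient.mk_sub] at hy
      exact (S.mk_eq (S.B.sub_mem (S.invB z u hu) hu) hw).1 hy
  · obtain ⟨y, hy⟩ := hlift SL2.weyl
    obtain ⟨u, hu⟩ := hlift (SL2.upper 1)
    refine ⟨y, u, by rw [map_mul, hy, ← map_mul, SL2.weyl_mul_weyl]; exact hm, fun h => ?_⟩
    rw [hy, hu] at h
    -- the Weyl element commuting with `upper 1`: then its square is trivial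
    have hw : (SL2.weyl : SL2.SLtwo (ZMod p)) =
        SL2.upper 1 * (SL2.lower 1)⁻¹ * SL2.upper 1 := by
      apply SL2.ext_entries <;> simp [SL2.lower_inv, Matrix.mul_apply, Fin.sum_univ_two]
    have hl : φ (SL2.lower 1) = (φ (SL2.upper 1))⁻¹ := by
      rw [show (SL2.lower (1 : ZMod p)) = (SL2.weyl * SL2.upper 1 * SL2.weyl⁻¹)⁻¹ by
        rw [SL2.weyl_conj_upper, SL2.lower_inv, neg_neg], map_inv, map_mul, map_mul, h, map_inv,
        mul_inv_cancel_right]
    have hy3 : φ SL2.weyl = φ (SL2.upper 1) ^ 3 := by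
      rw [hw, map_mul, map_mul, map_inv, hl, inv_inv, pow_three, mul_assoc]
    have h6 : φ (SL2.upper 1) ^ 6 = φ (-1) := by
      rw [← SL2.weyl_mul_weyl, map_mul, hy3, ← pow_add]
    have hp1 : φ (SL2.upper 1) ^ p = 1 := by
      rw [← map_pow, SL2.upper_pow, ZMod.natCast_self, zero_mul, SL2.upper_zero, map_one]
    refine hne ?_
    have h1 : φ (-1) ^ p = 1 := by
      rw [← h6, ← pow_mul, mul_comm, pow_mul, hp1, one_pow]
    have h2 : φ (-1) ^ 2 = 1 := by
      rw [← map_pow, neg_one_sq, map_one]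
    have hcop : Nat.gcd p 2 = 1 := Nat.Coprime.gcd_eq_one
      ((Nat.coprime_primes Fact.out Nat.prime_two).2 hp)
    simpa [hcop] using pow_gcd_eq_one.2 ⟨h1, h2⟩
  · have h2' : (2 : ZMod p) ≠ 0 := SL2Unipotent.two_ne_zero' (p := p) hp
    obtain ⟨x, hx⟩ := hlift (SL2.diag (Units.mk0 2 h2'))
    obtain ⟨y, hy⟩ := hlift (SL2.upper 1)
    have hc : S.hom ⁅x, y⁆ = φ (SL2.upper 1) ^ 3 := by
      rw [map_commutatorElement, hx, hy, ← map_commutatorElement, ← map_pow, commutatorElement_def,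
        SL2.diag_conj_upper, SL2.upper_inv, SL2.upper_mul, SL2.upper_pow]
      norm_num
    have hp1 : φ (SL2.upper 1) ^ p = 1 := by
      rw [← map_pow, SL2.upper_pow, ZMod.natCast_self, zero_mul, SL2.upper_zero, map_one]
    refine ⟨x, y, fun h => hup ?_, by rw [hc, ← pow_mul, mul_comm, pow_mul, hp1, one_pow]⟩
    rw [hc] at h
    have hcop : Nat.gcd p 3 = 1 := Nat.Coprime.gcd_eq_one
      ((Nat.coprime_primes Fact.out Nat.prime_three).2 hp3)
    simpa [hcop] using pow_gcd_eq_one.2 ⟨hp1, h⟩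

/-- Some section has an image which is not a `p`-group. -/
theorem exists_facts [Finite L] [Nontrivial V] (hσ : Function.Injective σ) {z z' : L}
    (hgen : Subgroup.closure ({z, z'} : Set L) = ⊤) (hp : p ≠ 2) (hp3 : p ≠ 3)
    (hz : (σ z - 1) * (σ z - 1) = 0) (hz' : (σ z' - 1) * (σ z' - 1) = 0)
    (hnp : ¬ IsPGroup p L) : ∃ S : Sec σ, Facts S z z' := by
  by_contra hcon
  refine hnp fun x => ?_
  have h : ∀ S : Sec σ, S.B ≤ ⊤ → S.hom x = 1 := fun S _ => by
    by_cases hS : IsPGroup p S.hom.range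
    · exact S.hom_eq_one hgen hS x
    · exact absurd ⟨S, S.facts hgen hp hp3 hz hz' hS⟩ hcon
  obtain ⟨k, hk⟩ := exists_pow_fix (B := ⊤) (fun _ _ _ => Submodule.mem_top) h
  refine ⟨k, hσ ?_⟩
  rw [map_one]
  exact LinearMap.ext fun w => hk w Submodule.mem_top

/-- A normal `p'`-subgroup is centralised by a quadratic element of order `p`, for `p ≥ 5`. -/
theorem commute_of_normal [Finite L] [Nontrivial V] (hσ : Function.Injective σ) (hp : p ≠ 2)
    (hp3 : p ≠ 3) {z : L} (hz : (σ z - 1) * (σ z - 1) = 0) {K : Subgroup L} [K.Normal]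
    (hK : ¬ p ∣ Nat.card K) {k : L} (hk : k ∈ K) : k * z = z * k := by
  have hpow : ∀ c ∈ K, ∀ n : ℕ, c ^ p ^ n = 1 → c = 1 := fun c hc n hn => by
    have h1 : c ^ Nat.card K = 1 := congrArg Subtype.val (pow_card_eq_one' (x := (⟨c, hc⟩ : K)))
    have hco : Nat.gcd (p ^ n) (Nat.card K) = 1 :=
      Nat.Coprime.gcd_eq_one (((Fact.out : p.Prime).coprime_iff_not_dvd.2 hK).pow_left n)
    simpa [hco] using pow_gcd_eq_one.2 ⟨hn, h1⟩
  set z' := k * z * k⁻¹ with hz'def
  set L₂ : Subgroup L := Subgroup.closure {z, z'} with hL₂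
  have hzm : z ∈ L₂ := Subgroup.subset_closure (Set.mem_insert _ _)
  have hz'm : z' ∈ L₂ := Subgroup.subset_closure (Set.mem_insert_of_mem _ rfl)
  have hcK : z⁻¹ * z' ∈ K := by
    rw [show z⁻¹ * z' = (z⁻¹ * k * z) * k⁻¹ by rw [hz'def]; group]
    refine K.mul_mem ?_ (K.inv_mem hk)
    simpa using Subgroup.Normal.conj_mem ‹K.Normal› k hk z⁻¹
  by_cases hpg : IsPGroup p L₂
  · obtain ⟨n, hn⟩ := hpg ⟨_, L₂.mul_mem (L₂.inv_mem hzm) hz'm⟩
    have h1 := hpow _ hcK n (congrArg Subtype.val hn)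
    rw [inv_mul_eq_one, hz'def, eq_mul_inv_iff_mul_eq] at h1
    exact h1.symm
  exfalso
  have hgen : Subgroup.closure ({⟨z, hzm⟩, ⟨z', hz'm⟩} : Set L₂) = ⊤ := by
    refine (Subgroup.map_injective L₂.subtype_injective) ?_
    rw [MonoidHom.map_closure, Set.image_pair, ← MonoidHom.range_eq_map, Subgroup.range_subtype]
    rfl
  have hq' : (σ z' - 1) * (σ z' - 1) = 0 := by
    have e : σ z' - 1 = σ k * (σ z - 1) * σ k⁻¹ := by
      rw [hz'def, map_mul, map_mul, mul_sub, sub_mul, mul_one, ← map_mul σ k k⁻¹, mul_inv_cancel,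
        map_one]
    have h1 : σ k⁻¹ * σ k = 1 := by rw [← map_mul, inv_mul_cancel, map_one]
    calc (σ z' - 1) * (σ z' - 1) = σ k * (σ z - 1) * (σ k⁻¹ * σ k) * (σ z - 1) * σ k⁻¹ := by
          rw [e]; simp only [mul_assoc]
      _ = σ k * ((σ z - 1) * (σ z - 1)) * σ k⁻¹ := by rw [h1]; simp only [mul_one, mul_assoc]
      _ = 0 := by rw [hz, mul_zero, zero_mul]
  obtain ⟨S, hS⟩ := exists_facts (σ := σ.comp L₂.subtype) (hσ.comp L₂.subtype_injective) hgen hp hp3
    hz hq' hpg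
  obtain ⟨x, y, hne, hpw⟩ := hS.comm
  set c : L₂ := ⁅x, y⁆ with hc
  have hcinK : (c : L) ∈ K := by
    have hab : ∀ w ∈ L₂, (QuotientGroup.mk' K w) ∈ Subgroup.zpowers (QuotientGroup.mk' K z) := by
      intro w hw
      have hle : L₂ ≤ (Subgroup.zpowers (QuotientGroup.mk' K z)).comap (QuotientGroup.mk' K) := by
        refine (Subgroup.closure_le _).2 (Set.insert_subset (Subgroup.mem_zpowers _)
          (Set.singleton_subset_iff.2 ?_))
        show QuotientGroup.mk' K z' ∈ Subgroup.zpowers (QuotientGroup.mk' K z)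
        rw [show QuotientGroup.mk' K z' = QuotientGroup.mk' K z from
          ((QuotientGroup.eq).2 hcK).symm]
        exact Subgroup.mem_zpowers _
      exact hle hw
    rw [← QuotientGroup.eq_one_iff]
    show QuotientGroup.mk' K ((⁅x, y⁆ : L₂) : L) = 1
    rw [show ((⁅x, y⁆ : L₂) : L) = ⁅(x : L), (y : L)⁆ from rfl, map_commutatorElement,
      commutatorElement_eq_one_iff_mul_comm]
    obtain ⟨a, ha⟩ := hab x x.2
    obtain ⟨b, hb⟩ := hab y y.2
    rw [← ha, ← hb]
    exact ((Commute.refl _).zpow_zpow a b).eq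
  have h1 : c ^ Nat.card K = 1 := Subtype.ext (by
    have := congrArg Subtype.val (pow_card_eq_one' (x := (⟨(c : L), hcinK⟩ : K)))
    exact this)
  have h2 : S.hom c ^ Nat.card K = 1 := by rw [← map_pow, h1, map_one]
  have hco : Nat.gcd p (Nat.card K) = 1 :=
    Nat.Coprime.gcd_eq_one ((Fact.out : p.Prime).coprime_iff_not_dvd.2 hK)
  exact hne (by simpa [hco] using pow_gcd_eq_one.2 ⟨hpw, h2⟩)

end Cfsg.Agent.Lib.MaxClassEss85.QuadSec
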