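import Mathlib
import Cfsg.Prelude.Def_EvenType
import Cfsg.Agent.Lib.StronglyP.Basic

/-!
A group with a strongly `p`-embedded subgroup acting on a space of dimension at most `p` in which
one element of a Sylow `p`-subgroup of order at least `p ^ 2` is a single Jordan block:
the data and the three statements to be proved about it.
-/

set_option autoImplicit false

namespace Cfsg.Agent.Lib.MaxClassEss85

universe u v

/-- The data: a faithful representation, a Sylow `p`-subgroup `P`, an element `s` of `P` which is a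
single block, `P` lowering the flag of `s`, and the pattern of the elements of `P` on the layers. -/
structure Datum (p : ℕ) (X : Type u) (V : Type v) [Group X] [AddCommGroup V] [Module (ZMod p) V] where
  rho : X →* Module.End (ZMod p) V
  faithful : Function.Injective rho
  P : Sylow p X
  card_P : p ^ 2 ≤ Nat.card (P : Subgroup X)
  s : X
  s_mem : s ∈ (P : Subgroup X)
  H : Subgroup X
  strong : Cfsg.IsStronglyPEmbedded p H
  d : ℕ
  card_V : Nat.card V = p ^ d
  three_le : 3 ≤ d
  le_p : d ≤ p
  nil : (rho s - 1) ^ d = 0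
  block : (rho s - 1) ^ (d - 1) ≠ 0
  flag : ∀ g ∈ (P : Subgroup X), ∀ (i : ℕ) (w : V),
    rho g (((rho s - 1) ^ i) w) - ((rho s - 1) ^ i) w ∈ LinearMap.range ((rho s - 1) ^ (i + 1))
  pattern : ∀ g ∈ (P : Subgroup X), ∃ a : ZMod p, ∀ i : ℕ, i + 3 ≤ d → ∀ w : V,
    rho g (((rho s - 1) ^ i) w) - ((rho s - 1) ^ i) w - a • ((rho s - 1) ^ (i + 1)) w ∈
      LinearMap.range ((rho s - 1) ^ (i + 2))

variable {p : ℕ} {X : Type u} {V : Type v} [Group X] [AddCommGroup V] [Module (ZMod p) V]

/-- The nilpotent part of the block element. -/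
def Datum.N (D : Datum p X V) : Module.End (ZMod p) V := D.rho D.s - 1

/-- The flag of the block element. -/
def Datum.Fl (D : Datum p X V) (i : ℕ) : Submodule (ZMod p) V := LinearMap.range (D.N ^ i)

/-- The element `g` has coefficient `a` on the top of the flag. -/
def Datum.Coef (D : Datum p X V) (g : X) (a : ZMod p) : Prop :=
  ∀ w : V, D.rho g w - w - a • D.N w ∈ D.Fl 2

/-- The condition on the weights of the automorphisms of `P`, for abelian `P`. -/
def Datum.Weight (D : Datum p X V) : Prop :=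
  ∀ t ∈ Subgroup.normalizer ((D.P : Subgroup X) : Set X), ∀ x ∈ (D.P : Subgroup X), x ≠ 1 →
    D.Coef x 0 → ∀ a b : ℕ, D.Coef (t * D.s * t⁻¹) (a : ZMod p) → t * x * t⁻¹ = x ^ b →
      ∀ w : V, D.rho t w - ((a * b : ℕ) : ZMod p) • w ∈ D.Fl 1

/-- A central element which is quadratic with a nonzero middle leads to a contradiction. -/
def QuadStmt : Prop :=
  ∀ (p : ℕ) [Fact p.Prime] (X : Type u) [Group X] [Finite X] (V : Type v) [AddCommGroup V]
    [Module (ZMod p) V] (_ : 5 ≤ p) (D : Datum p X V) (z : X) (m : ℕ) (q : Module.End (ZMod p) V),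
    4 ≤ D.d → z ∈ (D.P : Subgroup X) → (∀ g ∈ (D.P : Subgroup X), z * g = g * z) → IsUnit q →
    q * D.N = D.N * q → D.rho z - 1 = D.N ^ m * q → 2 ≤ m → m < D.d → D.d < 2 * m → False

/-- An abelian Sylow subgroup without such an element leads to a contradiction. -/
def AbelStmt : Prop :=
  ∀ (p : ℕ) [Fact p.Prime] (X : Type u) [Group X] [Finite X] (V : Type v) [AddCommGroup V]
    [Module (ZMod p) V] (_ : 5 ≤ p) (D : Datum p X V) (x : X) (m : ℕ) (q : Module.End (ZMod p) V),
    4 ≤ D.d → x ∈ (D.P : Subgroup X) →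
    (∀ g ∈ (D.P : Subgroup X), ∀ h ∈ (D.P : Subgroup X), g * h = h * g) → IsUnit q →
    Nat.card (D.P : Subgroup X) = p ^ 2 →
    q * D.N = D.N * q → D.rho x - 1 = D.N ^ m * q → 2 ≤ m → 2 * m ≤ D.d → D.Weight → False

/-- Dimension three leads to a contradiction. -/
def ThreeStmt : Prop :=
  ∀ (p : ℕ) [Fact p.Prime] (X : Type u) [Group X] [Finite X] (V : Type v) [AddCommGroup V]
    [Module (ZMod p) V] (_ : 5 ≤ p) (D : Datum p X V), D.d = 3 → False

end Cfsg.Agent.Lib.MaxClassEss85
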