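import Mathlib
import Cfsg.Agent.Lib.MaxClassEss85.Spec
import Cfsg.Agent.Lib.MaxClassEss85.QuadSec

/-!
A central quadratic element with a nonzero middle in the single block situation with a strongly
`p`-embedded subgroup is impossible.
-/

set_option autoImplicit false

namespace Cfsg.Agent.Lib.MaxClassEss85

universe u v

namespace Quad

open QuadSec
open scoped commutatorElement

section Basic

variable {p : ℕ} [Fact p.Prime] {V : Type v} [AddCommGroup V] [Module (ZMod p) V] {X : Type u}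
  [Group X]

theorem mem_of_two {A : Submodule (ZMod p) V} (hp : p ≠ 2) {w : V} (h : w + w ∈ A) : w ∈ A := by
  have h2 : (2 : ZMod p) ≠ 0 := SL2Unipotent.two_ne_zero' (p := p) hp
  have h1 := A.smul_mem (2 : ZMod p)⁻¹ h
  rwa [← two_smul (ZMod p) w, smul_smul, inv_mul_cancel₀ h2, one_smul] at h1

theorem neg_one_comm {M : Type*} [AddCommGroup M] (f : AddMonoid.End M) : (-1) * f = f * (-1) :=
  AddMonoidHom.ext fun x => (map_neg f x).symm

theorem neg_one_sq' {M : Type*} [AddCommGroup M] : (-1 : AddMonoid.End M) * (-1) = 1 :=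
  AddMonoidHom.ext fun x => neg_neg x

theorem pow_eq_one [Nontrivial V] (ρ : X →* Module.End (ZMod p) V) (hρ : Function.Injective ρ)
    {x : X} {n : ℕ} (hn : n ≤ p) (h : (ρ x - 1) ^ n = 0) : x ^ p = 1 := by
  have : CharP (Module.End (ZMod p) V) p :=
    charP_of_injective_algebraMap (algebraMap (ZMod p) (Module.End (ZMod p) V)).injective p
  refine hρ ?_
  have h1 : (ρ x - 1) ^ p = 0 := pow_eq_zero_of_le hn h
  rw [sub_pow_char_of_commute p (Commute.one_right _), one_pow, sub_eq_zero] at h1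
  rw [map_pow, map_one]
  exact h1

theorem conj_quad (ρ : X →* Module.End (ZMod p) V) {z : X}
    (hz : (ρ z - 1) * (ρ z - 1) = 0) (k : X) :
    (ρ (k * z * k⁻¹) - 1) * (ρ (k * z * k⁻¹) - 1) = 0 := by
  have e : ρ (k * z * k⁻¹) - 1 = ρ k * (ρ z - 1) * ρ k⁻¹ := by
    rw [map_mul, map_mul, mul_sub, sub_mul, mul_one, ← map_mul ρ k k⁻¹, mul_inv_cancel, map_one]
  have h1 : ρ k⁻¹ * ρ k = 1 := by rw [← map_mul, inv_mul_cancel, map_one]
  calc (ρ (k * z * k⁻¹) - 1) * (ρ (k * z * k⁻¹) - 1)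
      = ρ k * (ρ z - 1) * (ρ k⁻¹ * ρ k) * (ρ z - 1) * ρ k⁻¹ := by rw [e]; simp only [mul_assoc]
    _ = ρ k * ((ρ z - 1) * (ρ z - 1)) * ρ k⁻¹ := by rw [h1]; simp only [mul_one, mul_assoc]
    _ = 0 := by rw [hz, mul_zero, zero_mul]

end Basic

section Pair

variable {p : ℕ} [Fact p.Prime] {V : Type v} [AddCommGroup V] [Module (ZMod p) V] [Finite V]
  [Nontrivial V] {L : Type u} [Group L] [Finite L] {σ : L →* Module.End (ZMod p) V}

/-- Kernels on sections are central and of order prime to `p`: the situation of a minimal pair. -/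
structure Setting (σ : L →* Module.End (ZMod p) V) (z z' : L) : Prop where
  five : 5 ≤ p
  inj : Function.Injective σ
  gen : Subgroup.closure ({z, z'} : Set L) = ⊤
  quad : (σ z - 1) * (σ z - 1) = 0
  quad' : (σ z' - 1) * (σ z' - 1) = 0
  core : ∀ R : Subgroup L, R.Normal → IsPGroup p R → R = ⊥
  coprime : ∀ S : Sec σ, Facts S z z' → ¬ p ∣ Nat.card S.hom.ker
  not_pGroup : ¬ IsPGroup p L

variable {z z' : L}

theorem Setting.ne_two (h : Setting σ z z') : p ≠ 2 := by have := h.five; omega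

theorem Setting.ne_three (h : Setting σ z z') : p ≠ 3 := by have := h.five; omega

theorem Setting.central (h : Setting σ z z') {a : L} (h1 : a * z = z * a) (h2 : a * z' = z' * a)
    (l : L) : a * l = l * a := by
  have hl : l ∈ Subgroup.closure ({z, z'} : Set L) := by rw [h.gen]; trivial
  induction hl using Subgroup.closure_induction with
  | mem x hx => rcases hx with rfl | rfl <;> assumption
  | one => rw [mul_one, one_mul]
  | mul x y _ _ hx hy => rw [← mul_assoc, hx, mul_assoc, hy, ← mul_assoc]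
  | inv x _ hx => exact (Commute.inv_right (hx : Commute a x)).eq

theorem Setting.commute_kernel (h : Setting σ z z') {S : Sec σ} (hS : Facts S z z') {k : L}
    (hk : k ∈ S.hom.ker) : k * z = z * k ∧ k * z' = z' * k :=
  ⟨commute_of_normal h.inj h.ne_two h.ne_three h.quad (h.coprime S hS) hk,
    commute_of_normal h.inj h.ne_two h.ne_three h.quad' (h.coprime S hS) hk⟩

theorem Setting.commute_of_image (h : Setting σ z z') {S : Sec σ} (hS : Facts S z z') {a w : L}
    (hw : w = z ∨ w = z') (ha : S.hom a * S.hom w = S.hom w * S.hom a) : a * w = w * a := by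
  have hc : a * w * a⁻¹ * w⁻¹ ∈ S.hom.ker := by
    rw [MonoidHom.mem_ker, map_mul, map_mul, map_mul, ha, map_inv, map_inv, mul_inv_cancel_right,
      mul_inv_cancel]
  have hwq : (σ w - 1) * (σ w - 1) = 0 := by rcases hw with rfl | rfl; exacts [h.quad, h.quad']
  have hcw : Commute (a * w * a⁻¹ * w⁻¹) w := by
    rcases hw with rfl | rfl
    exacts [(h.commute_kernel hS hc).1, (h.commute_kernel hS hc).2]
  have hwp : w ^ p = 1 := pow_eq_one σ h.inj (n := 2) (by have := h.five; omega) (by rw [sq, hwq])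
  have hcp : (a * w * a⁻¹ * w⁻¹) ^ p = 1 := by
    have h1 : (a * w * a⁻¹) ^ p = 1 := by rw [conj_pow, hwp, mul_one, mul_inv_cancel]
    have h2 : a * w * a⁻¹ = (a * w * a⁻¹ * w⁻¹) * w := by group
    rw [h2, hcw.mul_pow, hwp, mul_one] at h1
    exact h1
  have hcard : (a * w * a⁻¹ * w⁻¹) ^ Nat.card S.hom.ker = 1 :=
    congrArg Subtype.val (pow_card_eq_one' (x := (⟨_, hc⟩ : S.hom.ker)))
  have hco : Nat.gcd p (Nat.card S.hom.ker) = 1 :=
    Nat.Coprime.gcd_eq_one ((Fact.out : p.Prime).coprime_iff_not_dvd.2 (h.coprime S hS))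
  have h3 : (a * w * a⁻¹ * w⁻¹) ^ (1 : ℕ) = 1 := hco ▸ pow_gcd_eq_one.2 ⟨hcp, hcard⟩
  rwa [pow_one, mul_inv_eq_one, mul_inv_eq_iff_eq_mul] at h3

/-- The central involution. -/
theorem Setting.exists_inv (h : Setting σ z z') :
    ∃ j : L, j * j = 1 ∧ (∀ l : L, j * l = l * j) ∧
      ∀ S : Sec σ, Facts S z z' → (S.hom j : AddMonoid.End S.M) = -1 := by
  obtain ⟨S₀, hS₀⟩ := exists_facts h.inj h.gen h.ne_two h.ne_three h.quad h.quad' h.not_pGroup
  obtain ⟨a, b, hneg, hne⟩ := hS₀.weyl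
  set j := a * a with hj
  have hjc : ∀ w : L, S₀.hom j * S₀.hom w = S₀.hom w * S₀.hom j := fun w => Units.ext (by
    rw [Units.val_mul, Units.val_mul, hneg]; exact neg_one_comm _)
  have hcent : ∀ l : L, j * l = l * j := h.central
    (h.commute_of_image hS₀ (Or.inl rfl) (hjc z)) (h.commute_of_image hS₀ (Or.inr rfl) (hjc z'))
  have hneg' : ∀ S : Sec σ, Facts S z z' → (S.hom j : AddMonoid.End S.M) = -1 := by
    intro S hS
    rcases hS.scalar j (by rw [← map_mul, hcent, map_mul]) (by rw [← map_mul, hcent, map_mul]) with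
      h1 | h1
    · exfalso
      have haa : S.hom a * S.hom a = 1 := by
        rw [← map_mul, ← hj]
        exact Units.ext h1
      have hac : ∀ w : L, S.hom a * S.hom w = S.hom w * S.hom a := by
        intro w
        rcases hS.sq a haa with h2 | h2
        · exact Units.ext (by rw [Units.val_mul, Units.val_mul, h2, one_mul, mul_one])
        · exact Units.ext (by rw [Units.val_mul, Units.val_mul, h2]; exact neg_one_comm _)
      have ha : a * b = b * a := h.central
        (h.commute_of_image hS (Or.inl rfl) (hac z)) (h.commute_of_image hS (Or.inr rfl) (hac z')) b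
      exact hne (by rw [← map_mul, ha, map_mul])
    · exact h1
  refine ⟨j, ?_, hcent, hneg'⟩
  set U : Subgroup L := ⨅ S : Sec σ, S.hom.ker with hU
  have hUn : U.Normal := Subgroup.normal_iInf_normal fun S => inferInstance
  have hUp : IsPGroup p U := by
    intro x
    obtain ⟨k, hk⟩ := exists_pow_fix (σ := σ) (B := ⊤) (fun _ _ _ => Submodule.mem_top)
      (x := (x : L)) fun S _ => MonoidHom.mem_ker.1 (Subgroup.mem_iInf.1 x.2 S)
    refine ⟨k, Subtype.ext (h.inj ?_)⟩
    rw [SubmonoidClass.coe_pow, OneMemClass.coe_one, map_one σ]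
    exact LinearMap.ext fun w => hk w Submodule.mem_top
  have hjU : j * j ∈ U := by
    refine Subgroup.mem_iInf.2 fun S => MonoidHom.mem_ker.2 ?_
    by_cases hS : IsPGroup p S.hom.range
    · exact S.hom_eq_one h.gen hS _
    · have h1 := hneg' S (S.facts h.gen h.ne_two h.ne_three h.quad h.quad' hS)
      rw [map_mul]
      exact Units.ext (by rw [Units.val_mul, h1, Units.val_one]; exact neg_one_sq')
  rw [h.core U hUn hUp] at hjU
  exact Subgroup.mem_bot.1 hjU

/-- Where the involution is `+1`, the element `z` is trivial. -/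
theorem Setting.fix_plus (h : Setting σ z z') {j : L} (hjc : ∀ l : L, j * l = l * j)
    (hneg : ∀ S : Sec σ, Facts S z z' → (S.hom j : AddMonoid.End S.M) = -1) {w : V}
    (hw : σ j w = w) : σ z w = w := by
  set Bp : Submodule (ZMod p) V := LinearMap.ker (σ j - 1) with hBp
  have hmem : ∀ u : V, u ∈ Bp ↔ σ j u = u := fun u => by
    rw [hBp, LinearMap.mem_ker, LinearMap.sub_apply, Module.End.one_apply, sub_eq_zero]
  have hinv : Inv σ Bp := fun l u hu => by
    rw [hmem] at hu ⊢
    rw [← Module.End.mul_apply, ← map_mul, hjc, map_mul, Module.End.mul_apply, hu]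
  have htriv : ∀ (x : L) (S : Sec σ), S.B ≤ Bp → S.hom x = 1 := by
    intro x S hSB
    by_cases hS : IsPGroup p S.hom.range
    · exact S.hom_eq_one h.gen hS _
    · exfalso
      refine S.ne (le_antisymm S.le fun u hu => mem_of_two h.ne_two ?_)
      have h1 := S.add_mem (hneg S (S.facts h.gen h.ne_two h.ne_three h.quad h.quad' hS)) hu
      rwa [(hmem u).1 (hSB hu)] at h1
  let F : Subgroup L :=
    { carrier := {x | ∀ u ∈ Bp, σ x u = u}
      one_mem' := fun u _ => by rw [map_one]; rfl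
      mul_mem' := fun {x y} hx hy u hu => by rw [map_mul, Module.End.mul_apply, hy u hu, hx u hu]
      inv_mem' := fun {x} hx u hu => by
        conv_lhs => rw [← hx u hu]
        rw [← Module.End.mul_apply, ← map_mul, inv_mul_cancel, map_one, Module.End.one_apply] }
  have hFn : F.Normal := ⟨fun x hx g u hu => by
    rw [map_mul, map_mul, Module.End.mul_apply, Module.End.mul_apply, hx _ (hinv _ u hu),
      ← Module.End.mul_apply, ← map_mul, mul_inv_cancel, map_one, Module.End.one_apply]⟩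
  set π := QuotientGroup.mk' F with hπ
  have hq : ∀ x : L, ∃ k : ℕ, π x ^ p ^ k = 1 := fun x => by
    obtain ⟨k, hk⟩ := exists_pow_fix hinv (htriv x)
    refine ⟨k, ?_⟩
    rw [← map_pow]
    exact (QuotientGroup.eq_one_iff _).2 hk
  obtain ⟨S₀, hS₀⟩ := exists_facts h.inj h.gen h.ne_two h.ne_three h.quad h.quad' h.not_pGroup
  obtain ⟨g, hg⟩ := hS₀.four
  have hκ : (g * z * g⁻¹) * (z ^ 4)⁻¹ ∈ S₀.hom.ker := by
    rw [MonoidHom.mem_ker, map_mul, hg, map_inv, mul_inv_cancel]
  have h4 : π g * π z * (π g)⁻¹ = π z ^ 4 := by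
    obtain ⟨k, hk⟩ := hq ((g * z * g⁻¹) * (z ^ 4)⁻¹)
    have hcard : π ((g * z * g⁻¹) * (z ^ 4)⁻¹) ^ Nat.card S₀.hom.ker = 1 := by
      have hpc : ((g * z * g⁻¹) * (z ^ 4)⁻¹) ^ Nat.card S₀.hom.ker = 1 :=
        congrArg Subtype.val (pow_card_eq_one' (x := (⟨_, hκ⟩ : S₀.hom.ker)))
      rw [← map_pow, hpc, map_one]
    have hco : Nat.gcd (p ^ k) (Nat.card S₀.hom.ker) = 1 := Nat.Coprime.gcd_eq_one
      (((Fact.out : p.Prime).coprime_iff_not_dvd.2 (h.coprime S₀ hS₀)).pow_left k)
    have h1 : π ((g * z * g⁻¹) * (z ^ 4)⁻¹) = 1 := by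
      have := pow_gcd_eq_one.2 ⟨hk, hcard⟩
      rwa [hco, pow_one] at this
    rwa [map_mul, map_mul, map_mul, map_inv, map_inv, map_pow, mul_inv_eq_one] at h1
  have hit : ∀ n : ℕ, π g ^ n * π z * (π g ^ n)⁻¹ = π z ^ 4 ^ n := by
    intro n
    induction n with
    | zero => simp
    | succ n ih =>
      have e : π g ^ (n + 1) * π z * (π g ^ (n + 1))⁻¹ =
          π g * (π g ^ n * π z * (π g ^ n)⁻¹) * (π g)⁻¹ := by rw [pow_succ']; group
      rw [e, ih, ← conj_pow, h4, ← pow_mul, ← pow_succ']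
  obtain ⟨k, hk⟩ := hq g
  have hzp : π z ^ p = 1 := by
    rw [← map_pow, pow_eq_one σ h.inj (n := 2) (by have := h.five; omega) (by rw [sq, h.quad]),
      map_one]
  have hmod : 4 ^ p ^ k % p = 4 % p := by
    have h1 : ((4 ^ p ^ k : ℕ) : ZMod p) = ((4 : ℕ) : ZMod p) := by
      rw [Nat.cast_pow, ZMod.pow_card_pow]
    exact (ZMod.natCast_eq_natCast_iff' _ _ _).1 h1
  have hz4 : π z ^ 4 = π z := by
    have h1 := hit (p ^ k)
    rw [hk, one_mul, inv_one, mul_one, pow_eq_pow_mod (4 ^ p ^ k) hzp, hmod,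
      ← pow_eq_pow_mod 4 hzp] at h1
    exact h1.symm
  have hz3 : π z ^ 3 = 1 := by
    have h1 : π z ^ 3 * π z = 1 * π z := by rw [← pow_succ, hz4, one_mul]
    exact mul_right_cancel h1
  have hco : Nat.gcd p 3 = 1 := Nat.Coprime.gcd_eq_one
    ((Nat.coprime_primes Fact.out Nat.prime_three).2 h.ne_three)
  have hz1 : π z = 1 := by
    have := pow_gcd_eq_one.2 ⟨hzp, hz3⟩
    rwa [hco, pow_one] at this
  exact ((QuotientGroup.eq_one_iff z).1 hz1) w ((hmem w).2 hw)

/-- Where the involution is `-1`, a fixed vector of `z` is in the image of `z - 1`. -/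
theorem Setting.im_minus (h : Setting σ z z') {j : L} (hjc : ∀ l : L, j * l = l * j)
    (hneg : ∀ S : Sec σ, Facts S z z' → (S.hom j : AddMonoid.End S.M) = -1) {w : V}
    (hwj : σ j w = -w) (hwz : σ z w = w) : ∃ u, σ z u - u = w := by
  have : Finite (Submodule (ZMod p) V) :=
    Finite.of_injective (fun C => (C : Set V)) SetLike.coe_injective
  set Bm : Submodule (ZMod p) V := LinearMap.ker (σ j + 1) with hBm
  have hmem : ∀ u : V, u ∈ Bm ↔ σ j u = -u := fun u => by
    rw [hBm, LinearMap.mem_ker, LinearMap.add_apply, Module.End.one_apply, add_eq_zero_iff_eq_neg]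
  have hinv : Inv σ Bm := fun l u hu => by
    rw [hmem] at hu ⊢
    rw [← Module.End.mul_apply, ← map_mul, hjc, map_mul, Module.End.mul_apply, hu, map_neg]
  have key : ∀ C : Submodule (ZMod p) V, Inv σ C → C ≤ Bm → ∀ w ∈ C, σ z w = w →
      ∃ u ∈ C, σ z u - u = w := by
    intro C
    induction C using WellFoundedLT.induction with
    | _ C ih =>
      intro hC hCB w hw hwz
      by_cases hne : C = ⊥
      · rw [hne, Submodule.mem_bot] at hw
        exact ⟨0, C.zero_mem, by rw [hw, map_zero, sub_zero]⟩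
      obtain ⟨S, rfl⟩ := exists_sec hC hne
      by_cases hS : IsPGroup p S.hom.range
      · exfalso
        refine S.ne (le_antisymm S.le fun u hu => mem_of_two h.ne_two ?_)
        have h1 := S.sub_mem (S.hom_eq_one h.gen hS j) hu
        rw [(hmem u).1 (hCB hu)] at h1
        have h2 := S.A.neg_mem h1
        rwa [neg_sub, sub_neg_eq_add] at h2
      obtain ⟨u, hu, hua⟩ := (S.facts h.gen h.ne_two h.ne_three h.quad h.quad' hS).fix_im w hw
        (by rw [hwz, sub_self]; exact S.A.zero_mem)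
      have hzfix : σ z (σ z u - u) = σ z u - u := by
        have h3 : σ z (σ z u - u) - (σ z u - u) = 0 := LinearMap.congr_fun h.quad u
        exact sub_eq_zero.1 h3
      obtain ⟨t, ht, hte⟩ := ih S.A (lt_of_le_of_ne S.le S.ne) S.invA (S.le.trans hCB)
        (σ z u - u - w) hua (by rw [map_sub, hzfix, hwz])
      refine ⟨u - t, S.B.sub_mem hu (S.le ht), ?_⟩
      rw [map_sub]
      calc σ z u - σ z t - (u - t) = (σ z u - u) - (σ z t - t) := by abel
        _ = w := by rw [hte]; abel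
  obtain ⟨u, -, hu⟩ := key Bm hinv le_rfl w ((hmem w).2 hwj) hwz
  exact ⟨u, hu⟩

end Pair

theorem map_commutator_eq_one {L M : Type*} [Group L] [Group M] (f : L →* M) {a w : L}
    (hgen : Subgroup.closure ({a, w * a * w⁻¹} : Set L) = ⊤) (hw : w ∈ f.ker) (x y : L) :
    f ⁅x, y⁆ = 1 := by
  have hall : ∀ x : L, f x ∈ Subgroup.zpowers (f a) := by
    intro x
    have hle : (⊤ : Subgroup L) ≤ (Subgroup.zpowers (f a)).comap f := by
      rw [← hgen, Subgroup.closure_le]
      refine Set.insert_subset (Subgroup.mem_zpowers _) (Set.singleton_subset_iff.2 ?_)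
      show f (w * a * w⁻¹) ∈ Subgroup.zpowers (f a)
      rw [map_mul, map_mul, map_inv, MonoidHom.mem_ker.1 hw, one_mul, inv_one, mul_one]
      exact Subgroup.mem_zpowers _
    exact hle (Subgroup.mem_top x)
  obtain ⟨b, hb⟩ := hall x
  obtain ⟨c, hc⟩ := hall y
  rw [map_commutatorElement, commutatorElement_eq_one_iff_mul_comm, ← hb, ← hc]
  exact ((Commute.refl _).zpow_zpow b c).eq

section Flip

variable {p : ℕ} [Fact p.Prime] {V : Type v} [AddCommGroup V] [Module (ZMod p) V] [Finite V]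
  [Nontrivial V] {X : Type u} [Group X] [Finite X]

theorem le_of_pGroup {H : Subgroup X}
    (hemb : ∀ y g : X, y ∈ H → y ≠ 1 → (∃ k : ℕ, y ^ p ^ k = 1) → g * y * g⁻¹ ∈ H → g ∈ H)
    {z : X} (hzH : z ∈ H) (hz1 : z ≠ 1) {R : Subgroup X} (hR : IsPGroup p R) (hzR : z ∈ R) :
    R ≤ H := by
  haveI : Nontrivial R := ⟨⟨z, hzR⟩, 1, fun h => hz1 (congrArg Subtype.val h)⟩
  have := hR.center_nontrivial
  obtain ⟨⟨w, hwc⟩, hw1⟩ := exists_ne (1 : Subgroup.center R)
  have hw1' : (w : X) ≠ 1 := fun h => hw1 (Subtype.ext (Subtype.ext h))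
  have hcomm : ∀ r ∈ R, r * (w : X) = (w : X) * r := fun r hr =>
    congrArg Subtype.val (Subgroup.mem_center_iff.1 hwc ⟨r, hr⟩)
  have hwH : (w : X) ∈ H := by
    obtain ⟨k, hk⟩ := hR ⟨z, hzR⟩
    refine hemb z w hzH hz1 ⟨k, congrArg Subtype.val hk⟩ ?_
    rw [← hcomm z hzR, mul_inv_cancel_right]
    exact hzH
  intro r hr
  obtain ⟨k, hk⟩ := hR w
  refine hemb w r hwH hw1' ⟨k, congrArg Subtype.val hk⟩ ?_
  rw [hcomm r hr, mul_inv_cancel_right]
  exact hwH

set_option maxHeartbeats 2000000 in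
theorem exists_flip (ρ : X →* Module.End (ZMod p) V) (hρ : Function.Injective ρ) (hp : 5 ≤ p)
    {H : Subgroup X} (hH : H ≠ ⊤)
    (hemb : ∀ y g : X, y ∈ H → y ≠ 1 → (∃ k : ℕ, y ^ p ^ k = 1) → g * y * g⁻¹ ∈ H → g ∈ H)
    {z : X} (hzH : z ∈ H) (hz1 : z ≠ 1) (hz : (ρ z - 1) * (ρ z - 1) = 0) :
    ∃ j : X, j * j = 1 ∧ j * z = z * j ∧
      (∀ w, ρ j w + w ∈ LinearMap.ker (ρ z - 1)) ∧
      (∀ w ∈ LinearMap.range (ρ z - 1), ρ j w = -w) ∧
      ∀ w ∈ LinearMap.ker (ρ z - 1), ρ j w - w ∈ LinearMap.range (ρ z - 1) := by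
  have hp2 : p ≠ 2 := by omega
  have hzp : z ^ p = 1 := pow_eq_one ρ hρ (n := 2) (by omega) (by rw [sq, hz])
  let α := {g : X // g ∉ H}
  haveI : Nonempty α := by
    by_contra h
    exact hH (Subgroup.eq_top_iff' _ |>.2 fun g => by
      by_contra hg
      exact h ⟨⟨g, hg⟩⟩)
  obtain ⟨⟨g, hg⟩, hmin⟩ := Finite.exists_min
    (fun g : α => Nat.card (Subgroup.closure ({z, (g : X) * z * (g : X)⁻¹} : Set X)))
  set L : Subgroup X := Subgroup.closure {z, g * z * g⁻¹} with hL
  have hzm : z ∈ L := Subgroup.subset_closure (Set.mem_insert _ _)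
  have hz'm : g * z * g⁻¹ ∈ L := Subgroup.subset_closure (Set.mem_insert_of_mem _ rfl)
  have hLH : ¬ L ≤ H := fun h => hg (hemb z g hzH hz1 ⟨1, by rw [pow_one, hzp]⟩ (h hz'm))
  have hgen : Subgroup.closure ({⟨z, hzm⟩, ⟨_, hz'm⟩} : Set L) = ⊤ := by
    refine (Subgroup.map_injective L.subtype_injective) ?_
    rw [MonoidHom.map_closure, Set.image_pair, ← MonoidHom.range_eq_map, Subgroup.range_subtype]
    rfl
  set σ : L →* Module.End (ZMod p) V := ρ.comp L.subtype with hσ
  have hinj : Function.Injective σ := hρ.comp L.subtype_injective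
  have hq : (σ ⟨z, hzm⟩ - 1) * (σ ⟨z, hzm⟩ - 1) = 0 := hz
  have hq' : (σ ⟨_, hz'm⟩ - 1) * (σ ⟨_, hz'm⟩ - 1) = 0 := conj_quad ρ hz g
  have hset : Setting σ ⟨z, hzm⟩ ⟨_, hz'm⟩ := by
    refine ⟨hp, hinj, hgen, hq, hq', ?_, ?_, ?_⟩
    · intro R hRn hRp
      by_contra hR
      obtain ⟨r, hrR, hr1⟩ := R.bot_or_exists_ne_one.resolve_left hR
      have hzp' : IsPGroup p (Subgroup.zpowers (⟨z, hzm⟩ : L)) := by
        refine IsPGroup.of_card (n := 1) ?_
        rw [Nat.card_zpowers, ← Subgroup.orderOf_coe, pow_one]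
        exact orderOf_eq_prime hzp hz1
      have hsup : (R ⊔ Subgroup.zpowers (⟨z, hzm⟩ : L)).map L.subtype ≤ H :=
        le_of_pGroup hemb hzH hz1 ((hRp.to_sup_of_normal_left hzp').map _)
          ⟨_, (le_sup_right : _ ≤ R ⊔ _) (Subgroup.mem_zpowers _), rfl⟩
      have hRH : ∀ x ∈ R, (x : X) ∈ H := fun x hx => hsup ⟨x, (le_sup_left : R ≤ _) hx, rfl⟩
      obtain ⟨k, hk⟩ := hRp ⟨r, hrR⟩
      refine hLH fun l hl => hemb (r : X) l (hRH r hrR) (fun h => hr1 (Subtype.ext h))
        ⟨k, congrArg (fun x : R => ((x : L) : X)) hk⟩ (hRH (⟨l, hl⟩ * r * (⟨l, hl⟩ : L)⁻¹) ?_)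
      exact hRn.conj_mem r hrR _
    · intro S hS hdvd
      have hker : ∀ w : L, w ∈ S.hom.ker → (w : X) ∈ H := by
        intro w hw
        by_contra hwH
        set L' := Subgroup.closure ({z, (w : X) * z * (w : X)⁻¹} : Set X) with hL'
        have hle : L' ≤ L := (Subgroup.closure_le _).2 (Set.insert_subset hzm
          (Set.singleton_subset_iff.2 (L.mul_mem (L.mul_mem w.2 hzm) (L.inv_mem w.2))))
        have heq : L' = L := Subgroup.eq_of_le_of_card_ge hle (hmin ⟨w, hwH⟩)
        have hgen' : Subgroup.closure ({⟨z, hzm⟩, w * ⟨z, hzm⟩ * w⁻¹} : Set L) = ⊤ := by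
          refine (Subgroup.map_injective L.subtype_injective) ?_
          rw [MonoidHom.map_closure, Set.image_pair, ← MonoidHom.range_eq_map,
            Subgroup.range_subtype]
          exact heq
        obtain ⟨x, y, hne, -⟩ := hS.comm
        exact hne (map_commutator_eq_one S.hom hgen' hw x y)
      obtain ⟨x, hx⟩ := exists_prime_orderOf_dvd_card' p hdvd
      have hxo : orderOf ((x : L) : X) = p := by
        rw [Subgroup.orderOf_coe, Subgroup.orderOf_coe, hx]
      have hconj : ∀ l : L, l * (x : L) * l⁻¹ ∈ S.hom.ker := fun l => by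
        rw [MonoidHom.mem_ker, map_mul, map_mul, map_inv, MonoidHom.mem_ker.1 x.2, mul_one,
          mul_inv_cancel]
      have hne : ((x : L) : X) ≠ 1 := fun h => by
        rw [h, orderOf_one] at hxo
        exact (Fact.out : p.Prime).one_lt.ne hxo
      have hpow : ((x : L) : X) ^ p ^ 1 = 1 := by
        rw [pow_one]
        exact orderOf_dvd_iff_pow_eq_one.1 hxo.dvd
      refine hLH fun l hl => ?_
      have hml := hconj ⟨l, hl⟩
      have h1 := hker _ hml
      rw [Subgroup.coe_mul, Subgroup.coe_mul, Subgroup.coe_inv] at h1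
      exact hemb ((x : L) : X) l (hker _ x.2) hne ⟨1, hpow⟩ h1
    · intro h
      exact hLH (le_of_pGroup hemb hzH hz1 h hzm)
  obtain ⟨j, hj, hjc, hneg⟩ := hset.exists_inv
  have hjz : ρ (j : X) * ρ z = ρ z * ρ (j : X) := by
    rw [← map_mul, ← map_mul]
    exact congrArg ρ (congrArg Subtype.val (hjc ⟨z, hzm⟩))
  have hjj : ∀ w, ρ (j : X) (ρ (j : X) w) = w := fun w => by
    rw [← Module.End.mul_apply, ← map_mul, show (j : X) * j = 1 from congrArg Subtype.val hj,
      map_one, Module.End.one_apply]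
  have hk : ∀ w, w ∈ LinearMap.ker (ρ z - 1) ↔ ρ z w = w := fun w => by
    rw [LinearMap.mem_ker, LinearMap.sub_apply, Module.End.one_apply, sub_eq_zero]
  have hplus : ∀ w, ρ (j : X) w + w ∈ LinearMap.ker (ρ z - 1) := fun w => by
    rw [hk]
    refine hset.fix_plus hjc hneg (w := ρ (j : X) w + w) ?_
    show ρ (j : X) (ρ (j : X) w + w) = _
    rw [map_add, hjj, add_comm]
  refine ⟨j, congrArg Subtype.val hj, congrArg Subtype.val (hjc ⟨z, hzm⟩), hplus, ?_, ?_⟩
  · rintro _ ⟨u, rfl⟩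
    have h1 := (hk _).1 (hplus u)
    rw [map_add] at h1
    rw [LinearMap.sub_apply, Module.End.one_apply, map_sub, ← Module.End.mul_apply, hjz,
      Module.End.mul_apply]
    have h2 : ρ z (ρ (j : X) u) - ρ (j : X) u + (ρ z u - u) = 0 := by
      rw [sub_add_sub_comm, h1, sub_self]
    exact add_eq_zero_iff_eq_neg.1 h2
  · intro w hw
    rw [hk] at hw
    have hwj : ρ z (ρ (j : X) w) = ρ (j : X) w := by
      rw [← Module.End.mul_apply, ← hjz, Module.End.mul_apply, hw]
    obtain ⟨u, hu⟩ := hset.im_minus hjc hneg (w := ρ (j : X) w - w)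
      (show ρ (j : X) (ρ (j : X) w - w) = -(ρ (j : X) w - w) by rw [map_sub, hjj, neg_sub])
      (show ρ z (ρ (j : X) w - w) = ρ (j : X) w - w by rw [map_sub, hwj, hw])
    exact ⟨u, by rw [LinearMap.sub_apply, Module.End.one_apply]; exact hu⟩

end Flip

section Block

variable {p : ℕ} [Fact p.Prime] {V : Type v} [AddCommGroup V] [Module (ZMod p) V] [Finite V]

theorem block_strict {N : Module.End (ZMod p) V} {d : ℕ} (hnil : N ^ d = 0)
    (hblock : N ^ (d - 1) ≠ 0) {i : ℕ} (hi : i < d) :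
    ∃ w, (N ^ i) w ∉ LinearMap.range (N ^ (i + 1)) := by
  by_contra h
  push Not at h
  refine hblock (LinearMap.ext fun w => ?_)
  obtain ⟨u, hu⟩ := h w
  have e : N ^ (d - 1) = N ^ (d - 1 - i) * N ^ i := by
    rw [← pow_add, show d - 1 - i + i = d - 1 by omega]
  rw [e, Module.End.mul_apply, ← hu, ← Module.End.mul_apply, ← pow_add,
    show d - 1 - i + (i + 1) = d by omega, hnil]
  rfl

theorem finrank_range_pow {N : Module.End (ZMod p) V} {d : ℕ} (hnil : N ^ d = 0)
    (hblock : N ^ (d - 1) ≠ 0) (hV : Module.finrank (ZMod p) V = d) {i : ℕ} (hi : i ≤ d) :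
    Module.finrank (ZMod p) (LinearMap.range (N ^ i)) = d - i := by
  set f : ℕ → ℕ := fun i => Module.finrank (ZMod p) (LinearMap.range (N ^ i)) with hf
  have hstep : ∀ k, k < d → f (k + 1) < f k := fun k hk => by
    refine Submodule.finrank_lt_finrank_of_lt (lt_of_le_of_ne ?_ ?_)
    · rintro _ ⟨u, rfl⟩
      exact ⟨N u, by rw [pow_succ]; rfl⟩
    · intro h
      obtain ⟨w, hw⟩ := block_strict hnil hblock hk
      exact hw (h ▸ LinearMap.mem_range_self _ w)
  have hup : ∀ k, k ≤ d → f k + k ≤ d := by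
    intro k
    induction k with
    | zero =>
      intro _
      have h0 : LinearMap.range (N ^ 0) = ⊤ := by
        rw [pow_zero, Module.End.one_eq_id, LinearMap.range_id]
      show Module.finrank (ZMod p) (LinearMap.range (N ^ 0)) + 0 ≤ d
      rw [h0, finrank_top, hV]
      omega
    | succ k ih => intro hk; have := hstep k (by omega); have := ih (by omega); omega
  have hdown : ∀ k, k ≤ d → k ≤ f (d - k) := by
    intro k
    induction k with
    | zero => intro _; exact Nat.zero_le _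
    | succ k ih =>
      intro hk
      have := hstep (d - (k + 1)) (by omega)
      rw [show d - (k + 1) + 1 = d - k by omega] at this
      have := ih (by omega)
      omega
  have h1 := hup i hi
  have h2 := hdown (d - i) (by omega)
  rw [show d - (d - i) = i by omega] at h2
  show f i = d - i
  omega

theorem ker_pow {N : Module.End (ZMod p) V} {d : ℕ} (hnil : N ^ d = 0) (hblock : N ^ (d - 1) ≠ 0)
    (hV : Module.finrank (ZMod p) V = d) {m : ℕ} (hm : m ≤ d) :
    LinearMap.ker (N ^ m) = LinearMap.range (N ^ (d - m)) := by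
  refine (Submodule.eq_of_le_of_finrank_le ?_ ?_).symm
  · rintro _ ⟨u, rfl⟩
    rw [LinearMap.mem_ker, ← Module.End.mul_apply, ← pow_add, show m + (d - m) = d by omega, hnil]
    rfl
  · have h1 := LinearMap.finrank_range_add_finrank_ker (N ^ m)
    rw [finrank_range_pow hnil hblock hV hm, hV] at h1
    rw [finrank_range_pow hnil hblock hV (show d - m ≤ d by omega)]
    omega

end Block

section Segments

variable {p : ℕ} [Fact p.Prime] {V : Type v} [AddCommGroup V] [Module (ZMod p) V] {X : Type u}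
  [Group X]

/-- The elements of the centraliser of `z` trivial on the three segments. -/
def segKer (ρ : X →* Module.End (ZMod p) V) (z : X) : Subgroup X where
  carrier := {g | g * z = z * g ∧ (∀ w, ρ g w - w ∈ LinearMap.ker (ρ z - 1)) ∧
    (∀ w ∈ LinearMap.ker (ρ z - 1), ρ g w - w ∈ LinearMap.range (ρ z - 1)) ∧
    ∀ w ∈ LinearMap.range (ρ z - 1), ρ g w = w}
  one_mem' := ⟨by rw [one_mul, mul_one], fun w => by simp, fun w _ => by simp, fun w _ => by simp⟩
  mul_mem' := fun {a b} ha hb => by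
    obtain ⟨a0, a1, a2, a3⟩ := ha
    obtain ⟨b0, b1, b2, b3⟩ := hb
    have e : ∀ w, ρ (a * b) w - w = (ρ a (ρ b w) - ρ b w) + (ρ b w - w) := fun w => by
      rw [map_mul, Module.End.mul_apply]; abel
    refine ⟨by rw [mul_assoc, b0, ← mul_assoc, a0, mul_assoc], fun w => ?_, fun w hw => ?_,
      fun w hw => by rw [map_mul, Module.End.mul_apply, b3 w hw, a3 w hw]⟩
    · rw [e]; exact Submodule.add_mem _ (a1 _) (b1 w)
    · rw [e]
      refine Submodule.add_mem _ (a2 _ ?_) (b2 w hw)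
      have h1 := Submodule.add_mem _ (b1 w) hw
      rwa [sub_add_cancel] at h1
  inv_mem' := fun {a} ha => by
    obtain ⟨a0, a1, a2, a3⟩ := ha
    have e : ∀ w, ρ a (ρ a⁻¹ w) = w := fun w => by
      rw [← Module.End.mul_apply, ← map_mul, mul_inv_cancel, map_one, Module.End.one_apply]
    have e' : ∀ w, ρ a⁻¹ w - w = -(ρ a (ρ a⁻¹ w) - ρ a⁻¹ w) := fun w => by rw [e, neg_sub]
    refine ⟨(Commute.inv_left (a0 : Commute a z)).eq, fun w => ?_, fun w hw => ?_, fun w hw => ?_⟩
    · rw [e']; exact Submodule.neg_mem _ (a1 _)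
    · rw [e']
      refine Submodule.neg_mem _ (a2 _ ?_)
      have h1 := Submodule.sub_mem _ hw (a1 (ρ a⁻¹ w))
      rwa [e, sub_sub_cancel] at h1
    · conv_lhs => rw [← a3 w hw]
      rw [← Module.End.mul_apply, ← map_mul, inv_mul_cancel, map_one, Module.End.one_apply]

theorem range_mem_of_commute (ρ : X →* Module.End (ZMod p) V) {z a : X} (h : a * z = z * a) {w : V}
    (hw : w ∈ LinearMap.range (ρ z - 1)) : ρ a w ∈ LinearMap.range (ρ z - 1) := by
  obtain ⟨u, rfl⟩ := hw
  refine ⟨ρ a u, ?_⟩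
  rw [LinearMap.sub_apply, Module.End.one_apply, LinearMap.sub_apply, Module.End.one_apply, map_sub,
    ← Module.End.mul_apply, ← map_mul, ← h, map_mul, Module.End.mul_apply]

theorem ker_mem_of_commute (ρ : X →* Module.End (ZMod p) V) {z a : X} (h : a * z = z * a) {w : V}
    (hw : w ∈ LinearMap.ker (ρ z - 1)) : ρ a w ∈ LinearMap.ker (ρ z - 1) := by
  rw [LinearMap.mem_ker, LinearMap.sub_apply, Module.End.one_apply, sub_eq_zero] at hw ⊢
  rw [← Module.End.mul_apply, ← map_mul, ← h, map_mul, Module.End.mul_apply, hw]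

theorem segKer_isPGroup [Nontrivial V] (ρ : X →* Module.End (ZMod p) V)
    (hρ : Function.Injective ρ) (hp : 3 ≤ p) (z : X) : IsPGroup p (segKer ρ z) := by
  rintro ⟨g, h0, h1, h2, h3⟩
  refine ⟨1, Subtype.ext ?_⟩
  show g ^ p ^ 1 = 1
  rw [pow_one]
  refine pow_eq_one ρ hρ hp (LinearMap.ext fun w => ?_)
  rw [pow_three]
  show ρ g (ρ g (ρ g w - w) - (ρ g w - w)) - (ρ g (ρ g w - w) - (ρ g w - w)) = 0
  rw [h3 _ (h2 _ (h1 w)), sub_self]

theorem le_normalizer_segKer (ρ : X →* Module.End (ZMod p) V) {z : X} {T : Subgroup X}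
    (hT : ∀ a ∈ T, a * z = z * a) : T ≤ Subgroup.normalizer (segKer ρ z : Set X) := by
  have key : ∀ a ∈ T, ∀ g ∈ segKer ρ z, a * g * a⁻¹ ∈ segKer ρ z := by
    rintro a ha g ⟨h0, h1, h2, h3⟩
    have ha' : a⁻¹ * z = z * a⁻¹ := hT _ (T.inv_mem ha)
    have hi : ∀ w, ρ a (ρ a⁻¹ w) = w := fun w => by
      rw [← Module.End.mul_apply, ← map_mul, mul_inv_cancel, map_one, Module.End.one_apply]
    have e : ∀ w, ρ (a * g * a⁻¹) w - w = ρ a (ρ g (ρ a⁻¹ w) - ρ a⁻¹ w) := fun w => by
      rw [map_sub, hi, map_mul, map_mul, Module.End.mul_apply, Module.End.mul_apply]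
    refine ⟨?_, fun w => ?_, fun w hw => ?_, fun w hw => ?_⟩
    · exact ((Commute.mul_left (hT a ha : Commute a z) (h0 : Commute g z)).mul_left
        (ha' : Commute a⁻¹ z)).eq
    · rw [e]; exact ker_mem_of_commute ρ (hT a ha) (h1 _)
    · rw [e]; exact range_mem_of_commute ρ (hT a ha) (h2 _ (ker_mem_of_commute ρ ha' hw))
    · rw [← sub_eq_zero, e, h3 _ (range_mem_of_commute ρ ha' hw), sub_self, map_zero]
  intro a ha
  rw [Subgroup.mem_normalizer_iff]
  intro g
  refine ⟨key a ha g, fun hg => ?_⟩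
  have := key a⁻¹ (T.inv_mem ha) _ hg
  rwa [show a⁻¹ * (a * g * a⁻¹) * a⁻¹⁻¹ = g by group] at this

end Segments

end Quad

open Quad in
/-- A central quadratic element with a nonzero middle gives a contradiction. -/
theorem quadStmt : QuadStmt.{u, v} := by
  intro p _ X _ _ V _ _ hp5 D z m q hd hzP hzc hq hqN hzq hm hmd hdm
  set N := D.rho D.s - 1 with hN
  have hDN : D.N = N := rfl
  rw [hDN] at hqN hzq
  haveI : Finite V := Nat.finite_of_card_ne_zero (by
    rw [D.card_V]; exact pow_ne_zero _ (Fact.out : p.Prime).ne_zero)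
  have hV : Module.finrank (ZMod p) V = D.d := by
    have h := Module.natCard_eq_pow_finrank (K := ZMod p) (V := V)
    rw [D.card_V, Nat.card_zmod] at h
    exact (Nat.pow_right_injective (Fact.out : p.Prime).two_le h).symm
  haveI : Nontrivial V := Module.nontrivial_of_finrank_pos (R := ZMod p) (by omega)
  have hzq' : D.rho z - 1 = q * N ^ m := by
    rw [hzq, ((Commute.pow_right (hqN : Commute q N) m).eq)]
  obtain ⟨q, rfl⟩ := hq
  have hker : LinearMap.ker (D.rho z - 1) = LinearMap.range (N ^ (D.d - m)) := by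
    rw [← ker_pow D.nil D.block hV hmd.le]
    ext w
    rw [LinearMap.mem_ker, LinearMap.mem_ker, hzq', Module.End.mul_apply]
    refine ⟨fun h => ?_, fun h => by rw [h, map_zero]⟩
    have := congrArg (↑q⁻¹ : Module.End (ZMod p) V) h
    rwa [← Module.End.mul_apply, Units.inv_mul, Module.End.one_apply, map_zero] at this
  have hran : LinearMap.range (D.rho z - 1) = LinearMap.range (N ^ m) := by
    apply le_antisymm
    · rintro _ ⟨u, rfl⟩
      exact ⟨(↑q : Module.End (ZMod p) V) u, by rw [hzq]; rfl⟩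
    · rintro _ ⟨u, rfl⟩
      refine ⟨(↑q⁻¹ : Module.End (ZMod p) V) u, ?_⟩
      rw [hzq, Module.End.mul_apply, ← Module.End.mul_apply (↑q : Module.End (ZMod p) V),
        Units.mul_inv, Module.End.one_apply]
  have hz2 : (D.rho z - 1) * (D.rho z - 1) = 0 := by
    refine LinearMap.ext fun w => ?_
    have h1 : (D.rho z - 1) w ∈ LinearMap.ker (D.rho z - 1) := by
      have h2 : (D.rho z - 1) w ∈ LinearMap.range (N ^ m) := hran ▸ LinearMap.mem_range_self _ w
      obtain ⟨u, hu⟩ := h2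
      rw [hker, ← hu]
      refine ⟨(N ^ (m - (D.d - m))) u, ?_⟩
      rw [← Module.End.mul_apply, ← pow_add, show D.d - m + (m - (D.d - m)) = m by omega]
    exact LinearMap.mem_ker.1 h1
  have hz1 : z ≠ 1 := by
    intro h
    obtain ⟨w, hw⟩ := block_strict D.nil D.block hmd
    refine hw ?_
    have h1 : (N ^ m) w ∈ LinearMap.range (D.rho z - 1) := hran ▸ LinearMap.mem_range_self _ w
    obtain ⟨u, hu⟩ := h1
    rw [h, map_one, sub_self] at hu
    rw [← hu]
    exact Submodule.zero_mem _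
  -- move the strongly embedded subgroup over `z`
  obtain ⟨P₀, hP₀⟩ := Cfsg.Agent.Lib.StronglyP.exists_sylow_le D.strong
  obtain ⟨x, hx⟩ := MulAction.exists_smul_eq X P₀ D.P
  set H' := D.H.map (MulAut.conj x).toMonoidHom with hH'
  have hmemH' : ∀ y, y ∈ H' ↔ x⁻¹ * y * x ∈ D.H := fun y => by
    constructor
    · rintro ⟨a, ha, rfl⟩
      show x⁻¹ * (x * a * x⁻¹) * x ∈ D.H
      rwa [show x⁻¹ * (x * a * x⁻¹) * x = a by group]
    · exact fun h => ⟨_, h, show x * (x⁻¹ * y * x) * x⁻¹ = y by group⟩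
  have hzH : z ∈ H' := by
    have h1 : z ∈ ((x • P₀ : Sylow p X) : Subgroup X) := hx.symm ▸ hzP
    rw [Sylow.coe_subgroup_smul, Subgroup.mem_pointwise_smul_iff_inv_smul_mem] at h1
    refine (hmemH' z).2 (hP₀ ?_)
    simpa [← map_inv] using h1
  have hH'ne : H' ≠ ⊤ := by
    intro h
    refine D.strong.2.1 ((Subgroup.eq_top_iff' _).2 fun a => ?_)
    have h1 := (hmemH' (x * a * x⁻¹)).1 (h ▸ Subgroup.mem_top _)
    rwa [show x⁻¹ * (x * a * x⁻¹) * x = a by group] at h1
  have hemb : ∀ y g : X, y ∈ H' → y ≠ 1 → (∃ k : ℕ, y ^ p ^ k = 1) → g * y * g⁻¹ ∈ H' → g ∈ H' := by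
    intro y g hy hy1 ⟨k, hk⟩ hgy
    rw [hmemH'] at hy hgy ⊢
    refine Cfsg.Agent.Lib.StronglyP.mem_of_conj_mem D.strong hy (fun h => hy1 ?_) ⟨k, ?_⟩ ?_
    · calc y = x * (x⁻¹ * y * x) * x⁻¹ := by group
        _ = 1 := by rw [h, mul_one, mul_inv_cancel]
    · have h1 : (x⁻¹ * y * x) ^ p ^ k = x⁻¹ * y ^ p ^ k * x := by
        simpa using (conj_pow (a := x⁻¹) (b := y) (i := p ^ k))
      rw [h1, hk, mul_one, inv_mul_cancel]
    · convert hgy using 1
      group
  obtain ⟨j, hjj, hjz, hj1, hj2, hj3⟩ := exists_flip D.rho D.faithful hp5 hH'ne hemb hzH hz1 hz2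
  -- the commutator of the involution and the block element
  set κ := j * D.s * j * D.s⁻¹ with hκ
  have hsz : D.s * z = z * D.s := (hzc _ D.s_mem).symm
  have hsz' : D.s⁻¹ * z = z * D.s⁻¹ := (Commute.inv_left (hsz : Commute D.s z)).eq
  have hκz : κ * z = z * κ :=
    (((Commute.mul_left (hjz : Commute j z) (hsz : Commute D.s z)).mul_left
      (hjz : Commute j z)).mul_left (hsz' : Commute D.s⁻¹ z)).eq
  have hsi : ∀ w, D.rho D.s (D.rho D.s⁻¹ w) = w := fun w => by
    rw [← Module.End.mul_apply, ← map_mul, mul_inv_cancel, map_one, Module.End.one_apply]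
  have hκw : ∀ w, D.rho κ w = D.rho j (D.rho D.s (D.rho j (D.rho D.s⁻¹ w))) := fun w => by
    rw [hκ, map_mul, map_mul, map_mul]; rfl
  have hκmem : κ ∈ Quad.segKer D.rho z := by
    refine ⟨hκz, fun w => ?_, fun w hw => ?_, fun w hw => ?_⟩
    · have e : D.rho κ w - w = D.rho j (D.rho D.s (D.rho j (D.rho D.s⁻¹ w) + D.rho D.s⁻¹ w)) -
          (D.rho j w + w) := by
        rw [hκw, map_add (D.rho D.s), hsi, map_add (D.rho j)]; abel
      rw [e]
      exact Submodule.sub_mem _ (ker_mem_of_commute _ hjz (ker_mem_of_commute _ hsz (hj1 _))) (hj1 w)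
    · have hw' : D.rho D.s⁻¹ w ∈ LinearMap.ker (D.rho z - 1) := ker_mem_of_commute _ hsz' hw
      have e : D.rho κ w - w = D.rho j (D.rho D.s (D.rho j (D.rho D.s⁻¹ w) - D.rho D.s⁻¹ w)) +
          (D.rho j w - w) := by
        rw [hκw, map_sub (D.rho D.s), hsi, map_sub (D.rho j)]; abel
      rw [e]
      exact Submodule.add_mem _ (range_mem_of_commute _ hjz (range_mem_of_commute _ hsz
        (hj3 _ hw'))) (hj3 w hw)
    · rw [hκw, hj2 _ (range_mem_of_commute _ hsz' hw), map_neg, hsi, map_neg, hj2 w hw, neg_neg]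
  -- it lies in the Sylow subgroup
  have hκP : κ ∈ (D.P : Subgroup X) := by
    have hnorm : (D.P : Subgroup X) ≤ Subgroup.normalizer (Quad.segKer D.rho z : Set X) :=
      le_normalizer_segKer D.rho fun a ha => (hzc a ha).symm
    have hsup : IsPGroup p (Quad.segKer D.rho z ⊔ (D.P : Subgroup X) : Subgroup X) :=
      IsPGroup.to_sup_of_normal_left' (Quad.segKer_isPGroup D.rho D.faithful (by omega) z) D.P.2 hnorm
    rw [← D.P.3 hsup le_sup_right]
    exact (le_sup_left : Quad.segKer D.rho z ≤ _) hκmem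
  obtain ⟨a, ha⟩ := D.pattern κ hκP
  obtain ⟨-, hκ1, hκ2, -⟩ := hκmem
  have hmono : ∀ i k, i ≤ k → LinearMap.range (N ^ k) ≤ LinearMap.range (N ^ i) := by
    rintro i k hik _ ⟨u, rfl⟩
    exact ⟨(N ^ (k - i)) u, by rw [← Module.End.mul_apply, ← pow_add, Nat.add_sub_cancel' hik]⟩
  have ha0 : a = 0 := by
    by_contra hane
    rcases Nat.lt_or_ge (D.d - m) 2 with hr | hr
    · obtain ⟨w, hw⟩ := block_strict D.nil D.block (show 2 < D.d by omega)
      refine hw ?_
      have h1 := ha 1 (by omega) w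
      have h2 : D.rho κ ((N ^ 1) w) - (N ^ 1) w ∈ LinearMap.range (N ^ (1 + 2)) := by
        refine hmono (1 + 2) m (by omega) (hran ▸ hκ2 _ ?_)
        rw [hker, show D.d - m = 1 by omega]
        exact LinearMap.mem_range_self _ w
      have h3 : a • (N ^ (1 + 1)) w ∈ LinearMap.range (N ^ (1 + 2)) := by
        have := Submodule.sub_mem _ h2 h1
        rwa [sub_sub_cancel] at this
      have h4 := Submodule.smul_mem _ a⁻¹ h3
      rwa [smul_smul, inv_mul_cancel₀ hane, one_smul] at h4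
    · obtain ⟨w, hw⟩ := block_strict D.nil D.block (show 1 < D.d by omega)
      refine hw ?_
      have h1 := ha 0 (by omega) w
      have h2 : D.rho κ ((N ^ 0) w) - (N ^ 0) w ∈ LinearMap.range (N ^ (0 + 2)) :=
        hmono (0 + 2) (D.d - m) (by omega) (hker ▸ hκ1 _)
      have h3 : a • (N ^ (0 + 1)) w ∈ LinearMap.range (N ^ (0 + 2)) := by
        have := Submodule.sub_mem _ h2 h1
        rwa [sub_sub_cancel] at this
      have h4 := Submodule.smul_mem _ a⁻¹ h3
      rwa [smul_smul, inv_mul_cancel₀ hane, one_smul] at h4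
  -- the boundary layer
  obtain ⟨i, hi⟩ : ∃ i, D.d - m = i + 1 := ⟨D.d - m - 1, by omega⟩
  rw [hi] at hker
  obtain ⟨v₀, hv₀⟩ := block_strict D.nil D.block (show i + 1 < D.d by omega)
  refine hv₀ ?_
  set F := LinearMap.range (N ^ (i + 1 + 1)) with hF
  set w := (N ^ i) v₀ with hw
  have hNw : N w = (N ^ (i + 1)) v₀ := by rw [hw, pow_succ']; rfl
  rw [← hNw]
  have hs : ∀ u, D.rho D.s u = u + N u := fun u => by
    rw [hN, LinearMap.sub_apply, Module.End.one_apply]; abel
  have hpat : ∀ u ∈ LinearMap.range (N ^ i), D.rho κ u - u ∈ F := by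
    rintro _ ⟨u, rfl⟩
    have h1 := ha i (by omega) u
    rw [ha0, zero_smul, sub_zero] at h1
    exact h1
  have hNrange : ∀ k, ∀ u ∈ LinearMap.range (N ^ k), N u ∈ LinearMap.range (N ^ (k + 1)) := by
    rintro k _ ⟨u, rfl⟩
    exact ⟨u, by rw [pow_succ']; rfl⟩
  -- `j w = -w + k`
  set k := D.rho j w + w with hk
  have hk' : k ∈ LinearMap.range (N ^ (i + 1)) := hker ▸ hj1 w
  have hjw : D.rho j w ∈ LinearMap.range (N ^ i) := by
    rw [show D.rho j w = k - w by rw [hk, add_sub_cancel_right]]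
    exact Submodule.sub_mem _ (hmono i (i + 1) (by omega) hk') (LinearMap.mem_range_self _ _)
  have hsjw : D.rho D.s (D.rho j w) ∈ LinearMap.range (N ^ i) := by
    rw [hs]
    exact Submodule.add_mem _ hjw (hmono i (i + 1) (by omega) (hNrange i _ hjw))
  have hNwk : N w ∈ LinearMap.ker (D.rho z - 1) := by
    rw [hker, hNw]; exact LinearMap.mem_range_self _ _
  have h1 : D.rho j (N w) - N w ∈ F := hmono _ m (by omega) (hran ▸ hj3 _ hNwk)
  have h2 : N k ∈ F := hNrange _ _ hk'
  have h3 : D.rho j (D.rho D.s w) - D.rho D.s (D.rho j w) ∈ F := by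
    have := hpat _ hsjw
    rwa [show D.rho κ (D.rho D.s (D.rho j w)) = D.rho j (D.rho D.s w) by
      rw [← Module.End.mul_apply, ← Module.End.mul_apply, ← map_mul, ← map_mul,
        show κ * D.s * j = j * D.s * (j * j) by rw [hκ]; group, hjj, mul_one, map_mul,
        Module.End.mul_apply]] at this
  refine mem_of_two (p := p) (by omega) ?_
  have e : N w + N w = (D.rho j (D.rho D.s w) - D.rho D.s (D.rho j w))
      - (D.rho j (N w) - N w) + N k := by
    rw [hs w, map_add, hs (D.rho j w), hk, map_add N]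
    abel
  rw [e]
  exact Submodule.add_mem _ (Submodule.sub_mem _ h3 h1) h2

end Cfsg.Agent.Lib.MaxClassEss85
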