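import Cfsg.Agent.Lib.MaxClassEss85.Reduction
import Cfsg.Agent.Lib.MaxClassEss85.Quad
import Cfsg.Agent.Lib.MaxClassEss85.Abel

/-!
A normal essential subgroup of a `p`-group of maximal class has index `p`.
-/

set_option autoImplicit false

namespace Cfsg.Agent.Lib.MaxClassEss85

open Cfsg

universe u

theorem main {Ω : Type u} [Group Ω] {S : Subgroup Ω} [Finite S] (p : ℕ) [Fact p.Prime]
    (hS : IsPGroup p ↥S) (n : ℕ) (hn : Nat.card S = p ^ n) (h4 : 4 ≤ n)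
    (hmax : Subgroup.lowerCentralSeries S (n - 2) ≠ ⊥) (F : Cfsg.FusionSystem S)
    (hF : F.IsSaturated p) (hp : 5 ≤ p) (Γ₁ : Subgroup Ω)
    (hΓ₁ : ∀ x : Ω, x ∈ Γ₁ ↔ x ∈ S ∧ ∀ y ∈ Subgroup.lowerCentralSeries S 1,
      x * y * x⁻¹ * y⁻¹ ∈ Subgroup.lowerCentralSeries S 3)
    (E : Subgroup Ω) (hE : F.IsEssential p E) (hEn : (E.subgroupOf S).Normal) :
    (E.subgroupOf S).index = p ∧ (E = Γ₁ ∨
      E = (S ⊓ Subgroup.centralizer (((Subgroup.upperCentralSeries ↥S 2).map S.subtype) : Set Ω)) ∨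
      (n = 4 ∧ Nat.card ↥E = p ^ 3 ∧ Cfsg.IsExtraspecial p ↥E ∧ Monoid.exponent ↥E = p)) :=
  main_of quadStmt.{u, u} Abel.abelStmt.{u, u} p hS n hn h4 hmax F hF hp Γ₁ hΓ₁ E hE hEn

end Cfsg.Agent.Lib.MaxClassEss85
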