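import Cfsg.Agent.Lib.MaxClassEss85.Series
import Cfsg.Agent.Lib.Fusion87.LayerSign
import Cfsg.Agent.Lib.FusionOrderFive.Tools

/-!
A maximal essential subgroup of a `p`-group of maximal class other than the two exceptional
centralisers has order `p ^ 3`.
-/

set_option autoImplicit false
set_option linter.unusedSectionVars false

namespace Cfsg.Agent.Lib.MaxClassEss85

open Subgroup Cfsg.Agent.Lib.H66.MaxClass Cfsg.Agent.Lib.Fusion87
open scoped commutatorElement

universe u

section

variable {p n : ℕ} [hp : Fact p.Prime] {P : Type u} [Group P] [Finite P] (h : IsMax p P n)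
include h

theorem exists_outside (hp2 : p ≠ 2) (hn : 4 ≤ n) (A : Subgroup P) [A.Normal] (hA : A.index = p)
    (h1 : A ≠ C P 1) (h3 : A ≠ C P (n - 3)) :
    L P 1 ≤ A ∧ ∃ g ∈ A, g ∉ L P 1 ∧ (∀ k, 1 ≤ k → k + 3 ≤ n → g ∉ C P k) ∧ A = zpowers g ⊔ L P 1 := by
  have hcA : Nat.card A = p ^ (n - 1) := by
    have := A.card_mul_index
    rw [hA, h.card, show n = n - 1 + 1 by omega, pow_succ] at this
    exact Nat.eq_of_mul_eq_mul_right hp.out.pos this
  have hne : ¬ A ≤ L P 1 := fun hle => by
    have := card_le_of_le hle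
    rw [hcA, h.card_L le_rfl (by omega), Nat.pow_le_pow_iff_right hp.out.one_lt] at this
    omega
  have hL := L_one_le_of_not_le h hn A hne
  refine ⟨hL, ?_⟩
  obtain ⟨g, hgA, hg⟩ := SetLike.not_le_iff_exists.1 hne
  have heq : A = zpowers g ⊔ L P 1 := by
    refine (eq_of_le_of_card_ge (sup_le (zpowers_le.2 hgA) hL) ?_).symm
    have := h.card_lt_card_mul (lt_of_le_of_ne (le_sup_right : L P 1 ≤ zpowers g ⊔ L P 1)
      fun e => hg (by rw [e]; exact mem_sup_left (mem_zpowers g)))
    rw [h.card_L le_rfl (by omega), ← pow_succ, show n - 1 - 1 + 1 = n - 1 by omega] at this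
    rwa [hcA]
  have hC : ∀ k, 1 ≤ k → k + 3 ≤ n → A ≠ C P k → g ∉ C P k := fun k hk1 hk hne' hgC => by
    refine hne' (eq_of_le_of_card_ge (heq ▸ sup_le (zpowers_le.2 hgC) (L_one_le_C k)) ?_)
    rw [hcA, card_C h hk1 hk]
  exact ⟨g, hgA, hg, fun k hk1 hk => notMem_C_all h hp2 hn (hC 1 le_rfl (by omega) h1)
    (hC (n - 3) (by omega) (by omega) h3) hk1 hk, heq⟩

/-- The lower central series of such a subgroup. -/
theorem lcs_eq (hn : 4 ≤ n) (A : Subgroup P) (hL : L P 1 ≤ A) {g : P} (hgA : g ∈ A)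
    (hgC : ∀ k, 1 ≤ k → k + 3 ≤ n → g ∉ C P k) (hA : A = zpowers g ⊔ L P 1) :
    ∀ j, A.lowerCentralSeries (j + 1) = L P (j + 2) := by
  have hle : ∀ j, A.lowerCentralSeries (j + 1) ≤ L P (j + 2) := by
    intro j
    induction j with
    | zero =>
      rw [Subgroup.lowerCentralSeries_succ, Subgroup.lowerCentralSeries_zero]
      refine commutator_le.2 fun a ha b hb => ?_
      have hga : ∀ a ∈ A, ⁅a, g⁆ ∈ L P 2 := by
        intro a ha
        refine (?_ : A ≤ commPre g (L P 2)) ha
        rw [hA]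
        exact sup_le (zpowers_le.2 (by rw [mem_commPre, commutatorElement_self]; exact one_mem _))
          fun x hx => mem_commPre.2 (comm_top_mem hx g)
      refine (?_ : A ≤ commPre b (L P 2)) ha
      rw [hA]
      refine sup_le (zpowers_le.2 (mem_commPre.2 ?_)) fun x hx => mem_commPre.2 (comm_top_mem hx b)
      rw [← commutatorElement_inv b g]
      exact inv_mem (hga b hb)
    | succ j ih =>
      rw [Subgroup.lowerCentralSeries_succ]
      exact commutator_le.2 fun a ha b _ => comm_top_mem (ih ha) b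
  have hge : ∀ j, j + 1 ≤ n - 2 → ∃ w, w ∈ A.lowerCentralSeries j ∧ w ∈ L P (j + 1) ∧ w ∉ L P (j + 2) := by
    intro j
    induction j with
    | zero =>
      intro _
      obtain ⟨v, hv, hv'⟩ := SetLike.exists_of_lt (h.L_lt (k := 1) (by omega))
      exact ⟨v, hL hv, hv, hv'⟩
    | succ j ih =>
      intro hj
      obtain ⟨w, hw, hwL, hwL'⟩ := ih (by omega)
      refine ⟨⁅w, g⁆, ?_, comm_top_mem hwL g,
        h.comm_notMem (by omega) (by omega) hwL hwL' (hgC _ (by omega) (by omega))⟩
      rw [Subgroup.lowerCentralSeries_succ]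
      exact commutator_mem_commutator hw hgA
  have hanti : ∀ i j, i ≤ j → A.lowerCentralSeries j ≤ A.lowerCentralSeries i :=
    fun i j hij => Subgroup.lowerCentralSeries_antitone A hij
  suffices ∀ i j, j + 2 + i ≥ n - 1 → L P (j + 2) ≤ A.lowerCentralSeries (j + 1) from
    fun j => le_antisymm (hle j) (this n j (by omega))
  intro i
  induction i with
  | zero => intro j hj; rw [h.L_eq_bot (by omega)]; exact bot_le
  | succ i ih =>
    intro j hj u hu
    rcases Nat.lt_or_ge (j + 2) (n - 1) with hlt | hge'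
    · obtain ⟨w, hw, hwL, hwL'⟩ := hge (j + 1) (by omega)
      obtain ⟨e, he⟩ := h.exists_pow_mul_mem (by omega) (by omega) hwL hwL' hu
      have := mul_mem (zpow_mem hw e) (hanti (j + 1) (j + 2) (by omega) (ih (j + 1) (by omega) he))
      rwa [mul_inv_cancel_left] at this
    · rw [h.L_eq_bot hge', mem_bot] at hu
      rw [hu]; exact one_mem _

/-- The terms of the series are kept by all automorphisms of such a subgroup. -/
theorem invariant (hn : 5 ≤ n) (A : Subgroup P) (hL : L P 1 ≤ A) {g : P} (hgA : g ∈ A)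
    (hgC : ∀ k, 1 ≤ k → k + 3 ≤ n → g ∉ C P k) (hA : A = zpowers g ⊔ L P 1) (α : MulAut A)
    {j : ℕ} (hj : 1 ≤ j) {x : A} (hx : (x : P) ∈ L P j) : ((α x : A) : P) ∈ L P j := by
  have key : ∀ i, ((⊤ : Subgroup A).lowerCentralSeries (i + 1)) = (L P (i + 2)).subgroupOf A := by
    intro i
    have h1 := Subgroup.map_lowerCentralSeries (⊤ : Subgroup A) A.subtype (i + 1)
    rw [← MonoidHom.range_eq_map, Subgroup.range_subtype, lcs_eq h (by omega) A hL hgA hgC hA i] at h1
    ext u
    rw [mem_subgroupOf, ← h1]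
    exact (Subgroup.mem_map_iff_mem A.subtype_injective).symm
  rcases Nat.lt_or_ge j 2 with hj2 | hj2
  · obtain rfl : j = 1 := by omega
    have hmem : ∀ y : A, y ∈ C A 1 ↔ (y : P) ∈ L P 1 := by
      intro y
      have hu2 : ∀ u : A, u ∈ L A 1 ↔ (u : P) ∈ L P 2 := fun u =>
        (SetLike.ext_iff.1 (key 0) u).trans mem_subgroupOf
      have hu4 : ∀ u : A, u ∈ L A (1 + 2) ↔ (u : P) ∈ L P 4 := fun u =>
        (SetLike.ext_iff.1 (key 2) u).trans mem_subgroupOf
      have hdef : y ∈ C A 1 ↔ ∀ u ∈ A, u ∈ L P 2 → ⁅u, (y : P)⁆ ∈ L P 4 := by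
        constructor
        · intro hy u huA hu
          exact (hu4 ⁅(⟨u, huA⟩ : A), y⁆).1 (hy ⟨u, huA⟩ ((hu2 ⟨u, huA⟩).2 hu))
        · intro hy u hu
          exact (hu4 ⁅u, y⁆).2 (hy u u.2 ((hu2 u).1 hu))
      rw [hdef]
      refine ⟨fun hy => ?_, fun hy u _ hu => by
        have h4 := comm_mem (a := 2) (b := 1) hu hy
        exact h4⟩
      by_contra hy1
      have hC2 : ∀ u ∈ A, u ∈ L P 2 → ⁅u, g⁆ ∈ L P 4 := by
        intro u huA hu
        have hsup : A ≤ zpowers (y : P) ⊔ L P 1 := by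
          refine (eq_of_le_of_card_ge (sup_le (zpowers_le.2 y.2) hL) ?_).ge
          have := h.card_lt_card_mul (lt_of_le_of_ne (le_sup_right : L P 1 ≤ zpowers (y : P) ⊔ L P 1)
            fun e => hy1 (by rw [e]; exact mem_sup_left (mem_zpowers _)))
          refine le_trans ?_ this
          rw [hA]
          refine (card_le_of_le (le_refl _)).trans ?_
          have hsmall : zpowers g ⊔ L P 1 ≠ ⊤ := h.pow_mem_L_one_aux g (by omega)
          have h2 := h.card_lt_card_mul (lt_top_iff_ne_top.2 hsmall)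
          rw [Subgroup.card_top, h.card] at h2
          rw [h.card_L le_rfl (by omega), ← pow_succ, show n - 1 - 1 + 1 = n - 1 by omega]
          refine Nat.le_of_mul_le_mul_right (h2.trans (le_of_eq ?_)) hp.out.pos
          rw [← pow_succ]; congr 1; omega
        have hyC : zpowers (y : P) ⊔ L P 1 ≤ C P 2 := by
          refine sup_le (zpowers_le.2 fun v hv => hy v (hL (L_anti (by omega) hv)) hv) (L_one_le_C 2)
        exact hyC (hsup hgA) u hu
      exact hgC 2 (by omega) (by omega) fun u hu => hC2 u (hL (L_anti (by omega) hu)) hu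
    rw [← hmem] at hx ⊢
    exact apply_mem_C α hx
  · obtain ⟨i, rfl⟩ : ∃ i, j = i + 2 := ⟨j - 2, by omega⟩
    have hmem' : ∀ u : A, u ∈ L A (i + 1) ↔ (u : P) ∈ L P (i + 2) := fun u =>
      (SetLike.ext_iff.1 (key i) u).trans mem_subgroupOf
    exact (hmem' _).1 (apply_mem_L α ((hmem' _).2 hx))

end

variable {Ω : Type u} [Group Ω] {S : Subgroup Ω} [Finite S] {F : FusionSystem S} {p n : ℕ}
  [hp : Fact p.Prime]

open Cfsg Cfsg.FusionSystem Cfsg.Agent.Lib.Fusion

theorem maximal_case (hS : IsPGroup p S) (hF : F.IsSaturated p) (hp2 : p ≠ 2) (h : IsMax p ↥S n)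
    (hn : 4 ≤ n) {E : Subgroup Ω} (hE : F.IsEssential p E) [(E.subgroupOf S).Normal]
    (hi : (E.subgroupOf S).index = p) (h1 : E.subgroupOf S ≠ C ↥S 1)
    (h3 : E.subgroupOf S ≠ C ↥S (n - 3)) :
    n = 4 ∧ Nat.card E = p ^ 3 ∧ Cfsg.IsExtraspecial p ↥E ∧ Monoid.exponent ↥E = p := by
  set A := E.subgroupOf S with hAdef
  have hES := hE.1.1
  haveI := finite_of_le hES
  obtain ⟨hL, g, hgA, hg1, hgC, hAeq⟩ := exists_outside h hp2 hn A hi h1 h3
  let e : A ≃* E := Subgroup.subgroupOfEquivOfLe hES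
  have hcA : Nat.card E = p ^ (n - 1) := by
    have := A.card_mul_index
    rw [hi, h.card, show n = n - 1 + 1 by omega, pow_succ] at this
    rw [← Nat.card_congr e.toEquiv]
    exact Nat.eq_of_mul_eq_mul_right hp.out.pos this
  rcases Nat.lt_or_ge n 5 with hn5 | hn5
  · obtain rfl : n = 4 := by omega
    have hna : ¬ IsMulCommutative E := by
      intro hab
      obtain ⟨v, hv, hv'⟩ := SetLike.exists_of_lt (h.L_lt (k := 1) (by omega))
      refine h.comm_notMem le_rfl (by omega) hv hv' (hgC 1 le_rfl le_rfl) ?_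
      rw [commutatorElement_eq_one_iff_mul_comm.2]
      · exact one_mem _
      · have := hab.is_comm.comm (e ⟨v, hL hv⟩) (e ⟨g, hgA⟩)
        rw [← map_mul, ← map_mul] at this
        exact congrArg Subtype.val (e.injective this)
    have hex := Fusion87.pow_eq_one_of_isEssential hS hp2 hE hcA.le
    refine ⟨rfl, hcA, isExtraspecial_of_card_cube hcA hna, ?_⟩
    rcases (Nat.dvd_prime hp.out).1 (Monoid.exponent_dvd_of_forall_pow_eq_one hex) with h0 | h0
    · exact absurd (Monoid.exp_eq_one_iff.1 h0) fun hs => hna ⟨⟨fun a b => Subsingleton.elim _ _⟩⟩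
    · exact h0
  exfalso
  let K : ℕ → Subgroup E := fun i =>
    if i + 2 ≤ n then ((L ↥S (n - 1 - i)).subgroupOf A).map e.toMonoidHom else ⊤
  have hKn : ∀ i, (K i).Normal := by
    intro i
    by_cases hi' : i + 2 ≤ n
    · simp only [K, if_pos hi']
      exact Subgroup.Normal.map inferInstance _ e.surjective
    · simp only [K, if_neg hi']
      infer_instance
  let Ch : CyclicChain E :=
    { n := n
      K := K
      bot := by
        simp only [K, if_pos (show 0 + 2 ≤ n by omega), h.L_eq_bot (k := n - 1 - 0) (by omega),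
          Subgroup.bot_subgroupOf, Subgroup.map_bot]
      top := by simp only [K, if_neg (show ¬ n + 2 ≤ n by omega)]
      le := fun i => by
        by_cases hi' : i + 1 + 2 ≤ n
        · simp only [K, if_pos hi', if_pos (show i + 2 ≤ n by omega)]
          exact Subgroup.map_mono fun x hx => L_anti (by omega) hx
        · simp only [K, if_neg hi']
          exact le_top
      normal := hKn
      step := fun i => by
        by_cases hi' : i + 1 + 2 ≤ n
        · obtain ⟨v, hv, hv'⟩ := SetLike.exists_of_lt (h.L_lt (k := n - 1 - (i + 1)) (by omega))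
          refine ⟨e ⟨v, hL (L_anti (by omega) hv)⟩, by
            simp only [K, if_pos hi']; exact ⟨_, hv, rfl⟩, fun y hy => ?_⟩
          simp only [K, if_pos hi', if_pos (show i + 2 ≤ n by omega)] at hy ⊢
          obtain ⟨y, hy, rfl⟩ := hy
          obtain ⟨k, hk⟩ := h.exists_pow_mul_mem (by omega) (by omega) hv hv' hy
          rw [show n - 1 - (i + 1) + 1 = n - 1 - i by omega] at hk
          refine ⟨k, ⟨(⟨v, hL (L_anti (by omega) hv)⟩ ^ k)⁻¹ * y, hk, ?_⟩⟩
          simp
        · simp only [K, if_neg hi']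
          by_cases hi2 : i + 2 ≤ n
          · simp only [if_pos hi2]
            refine ⟨e ⟨g, hgA⟩, mem_top _, fun y _ => ?_⟩
            obtain ⟨y, rfl⟩ := e.surjective y
            obtain ⟨a, ha, b, hb, hab⟩ := mem_sup_of_normal_right.mp (hAeq ▸ y.2 : (y : S) ∈ zpowers g ⊔ L ↥S 1)
            obtain ⟨k, rfl⟩ := mem_zpowers_iff.mp ha
            refine ⟨k, ⟨(⟨g, hgA⟩ ^ k)⁻¹ * y, ?_, by simp⟩⟩
            show (g ^ k)⁻¹ * (y : S) ∈ L ↥S (n - 1 - i)
            rw [← hab, inv_mul_cancel_left, show n - 1 - i = 1 by omega]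
            exact hb
          · simp only [if_neg hi2]
            exact ⟨1, mem_top _, fun y _ => ⟨0, mem_top _⟩⟩ }
  have hinv : ∀ a ∈ F.autGroup E, ∀ i, ∀ y ∈ Ch.K i, a y ∈ Ch.K i := by
    intro a _ i y hy
    show a y ∈ K i
    change y ∈ K i at hy
    by_cases hi' : i + 2 ≤ n
    · simp only [K, if_pos hi'] at hy ⊢
      obtain ⟨x, hx, rfl⟩ := hy
      exact ⟨(MulAut.congr e.symm a) x,
        invariant h hn5 A hL hgA hgC hAeq (MulAut.congr e.symm a) (by omega) hx, by
          show e (e.symm (a (e.symm.symm x))) = a (e x)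
          rw [MulEquiv.apply_symm_apply]; rfl⟩
    · simp only [K, if_neg hi']
      exact mem_top _
  haveI := finite_autGroup (F := F) hES
  obtain ⟨T, hT⟩ := Ch.exists_normal_sylow (hS.to_le hES) hinv
  exact false_of_normal_sylow hE T hT

end Cfsg.Agent.Lib.MaxClassEss85
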