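import Cfsg.Agent.Lib.MaxClassEss85.Spec

/-!
From the three statements on a single Jordan block to a contradiction: the elements commuting with
the block are polynomials in its nilpotent part, and a nontrivial commutator with the block which
is central in the Sylow subgroup is quadratic, by a first order comparison of the coefficients.
-/

set_option autoImplicit false

open Polynomial

namespace Cfsg.Agent.Lib.MaxClassEss85.Pure

universe u v

section End

variable {k : Type*} [Field k] {V : Type*} [AddCommGroup V] [Module k V] {N : Module.End k V}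

/-- A polynomial in a nilpotent endomorphism with nonzero constant term is a unit. -/
theorem isUnit_aeval (hN : IsNilpotent N) {R : k[X]} (hR : R.coeff 0 ≠ 0) :
    IsUnit (aeval N R) := by
  have h : aeval N R = algebraMap k _ (R.coeff 0) + N * aeval N R.divX := by
    conv_lhs => rw [← X_mul_divX_add R]
    rw [map_add, map_mul, aeval_X, aeval_C, add_comm]
  have hc : Commute N (aeval N R.divX) := by
    simpa using (Commute.all (X : k[X]) R.divX).map (aeval N)
  have hnil : IsNilpotent (N * aeval N R.divX) := hc.isNilpotent_mul_right hN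
  rw [h]
  refine hnil.isUnit_add_left_of_commute ((Ne.isUnit hR).map (algebraMap k _)) ?_
  exact (Algebra.commutes _ _).symm

theorem exists_eq_X_pow_mul {P : k[X]} (hP : P ≠ 0) :
    ∃ R : k[X], P = X ^ P.natTrailingDegree * R ∧ R.coeff 0 ≠ 0 := by
  obtain ⟨R, hR⟩ : X ^ P.natTrailingDegree ∣ P :=
    X_pow_dvd_iff.2 fun i hi => coeff_eq_zero_of_lt_natTrailingDegree hi
  refine ⟨R, hR, fun h => ?_⟩
  have h1 := congrArg (fun Q : k[X] => Q.coeff P.natTrailingDegree) hR
  simp only [coeff_X_pow_mul', le_refl, if_true, Nat.sub_self, h] at h1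
  exact trailingCoeff_nonzero_iff_nonzero.2 hP h1

/-- A polynomial killing a block of length `d` at a vector is divisible by `X ^ d`. -/
theorem dvd_of_aeval_apply {d : ℕ} (hN : N ^ d = 0) {v0 : V} (hv0 : (N ^ (d - 1)) v0 ≠ 0)
    {P : k[X]} (h : aeval N P v0 = 0) : X ^ d ∣ P := by
  rcases eq_or_ne P 0 with rfl | hP
  · exact dvd_zero _
  obtain ⟨R, hR, hR0⟩ := exists_eq_X_pow_mul hP
  rcases Nat.lt_or_ge P.natTrailingDegree d with hlt | hge
  · exfalso
    obtain ⟨u, hu⟩ := isUnit_aeval ⟨d, hN⟩ hR0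
    rw [hR, mul_comm, map_mul, map_pow, aeval_X, Module.End.mul_apply, ← hu] at h
    have h1 := congrArg (fun w => (↑u⁻¹ : Module.End k V) w) h
    simp only [map_zero] at h1
    rw [← Module.End.mul_apply, Units.inv_mul, Module.End.one_apply] at h1
    obtain ⟨j, hj⟩ := Nat.exists_eq_add_of_le (Nat.le_sub_one_of_lt hlt)
    rw [hj, add_comm, pow_add, Module.End.mul_apply, h1, map_zero] at hv0
    exact hv0 rfl
  · exact dvd_trans (pow_dvd_pow X hge) ⟨R, hR⟩

/-- Endomorphisms commuting with a polynomial's variable commute with the polynomial. -/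
theorem commute_aeval {φ : Module.End k V} (h : φ * N = N * φ) (Q : k[X]) :
    φ * aeval N Q = aeval N Q * φ := by
  induction Q using Polynomial.induction_on' with
  | add a b ha hb => rw [map_add, mul_add, add_mul, ha, hb]
  | monomial n c =>
    rw [aeval_monomial, ← mul_assoc, ← Algebra.commutes, mul_assoc, mul_assoc,
      (Commute.pow_right h n).eq]

/-- Conjugation commutes with polynomials. -/
theorem conj_aeval {Y Y' A B : Module.End k V} (hY : Y * A = B * Y) (hY' : Y * Y' = 1) (Q : k[X]) :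
    Y * aeval A Q * Y' = aeval B Q := by
  have h : Y * aeval A Q = aeval B Q * Y := by
    induction Q using Polynomial.induction_on' with
    | add a b ha hb => rw [map_add, map_add, mul_add, add_mul, ha, hb]
    | monomial n c =>
      have hn : Y * A ^ n = B ^ n * Y := by
        induction n with
        | zero => simp
        | succ n ih => rw [pow_succ, pow_succ, ← mul_assoc, ih, mul_assoc, hY, mul_assoc]
      rw [aeval_monomial, aeval_monomial, ← mul_assoc, ← Algebra.commutes, mul_assoc, hn, mul_assoc]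
  rw [h, mul_assoc, hY', mul_one]

end End

variable {p : ℕ} [hp : Fact p.Prime] {X₀ : Type u} [Group X₀] [Finite X₀] {V : Type v}
  [AddCommGroup V] [Module (ZMod p) V]

theorem exists_vector (D : Datum p X₀ V) : ∃ v0, (D.N ^ (D.d - 1)) v0 ≠ 0 := by
  by_contra! h
  exact D.block (LinearMap.ext h)

/-- An endomorphism commuting with a single block is a polynomial in it. -/
theorem exists_aeval (D : Datum p X₀ V) {φ : Module.End (ZMod p) V} (hφ : φ * D.N = D.N * φ) :
    ∃ P : (ZMod p)[X], φ = aeval D.N P := by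
  obtain ⟨v0, hv0⟩ := exists_vector D
  let f : Polynomial.degreeLT (ZMod p) D.d → V := fun P => aeval D.N (P : (ZMod p)[X]) v0
  have hinj : Function.Injective f := by
    intro P Q h
    refine Subtype.ext (sub_eq_zero.1 ?_)
    have h0 : aeval D.N ((P : (ZMod p)[X]) - (Q : (ZMod p)[X])) v0 = 0 := by
      rw [map_sub, LinearMap.sub_apply]
      exact sub_eq_zero.2 h
    have hdeg : ((P : (ZMod p)[X]) - (Q : (ZMod p)[X])).degree < D.d :=
      lt_of_le_of_lt (degree_sub_le _ _)
        (max_lt (mem_degreeLT.1 P.2) (mem_degreeLT.1 Q.2))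
    refine eq_zero_of_dvd_of_degree_lt (dvd_of_aeval_apply (N := D.N) D.nil hv0 h0) ?_
    rwa [degree_X_pow]
  haveI : Finite V := Nat.finite_of_card_ne_zero (by
    rw [D.card_V]; exact pow_ne_zero _ hp.out.ne_zero)
  have hcard : Nat.card (Polynomial.degreeLT (ZMod p) D.d) = Nat.card V := by
    rw [Nat.card_congr (degreeLTEquiv (ZMod p) D.d).toEquiv, Nat.card_fun, D.card_V]
    simp
  have hbij : Function.Bijective f := (Nat.bijective_iff_injective_and_card f).2 ⟨hinj, hcard⟩
  obtain ⟨P, hP⟩ := hbij.2 (φ v0)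
  refine ⟨(P : (ZMod p)[X]), LinearMap.ext fun w => ?_⟩
  obtain ⟨Q, rfl⟩ := hbij.2 w
  show φ (aeval D.N (Q : (ZMod p)[X]) v0) = aeval D.N (P : (ZMod p)[X]) (aeval D.N (Q : (ZMod p)[X]) v0)
  rw [← Module.End.mul_apply, commute_aeval hφ, Module.End.mul_apply, ← hP,
    ← Module.End.mul_apply (aeval D.N (P : (ZMod p)[X])), ← map_mul, mul_comm, map_mul,
    Module.End.mul_apply]

/-- A nontrivial element commuting with the block with coefficient zero. -/
theorem exists_form (D : Datum p X₀ V) {x : X₀} (hx : x * D.s = D.s * x) (hx1 : x ≠ 1)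
    (hc : D.Coef x 0) :
    ∃ (m : ℕ) (R : (ZMod p)[X]), 2 ≤ m ∧ m < D.d ∧ R.coeff 0 ≠ 0 ∧
      IsUnit (aeval D.N R) ∧ D.rho x - 1 = D.N ^ m * aeval D.N R := by
  have hc' : (D.rho x - 1) * D.N = D.N * (D.rho x - 1) := by
    have h := congrArg D.rho hx
    rw [map_mul, map_mul] at h
    simp only [Datum.N, sub_mul, mul_sub, one_mul, mul_one, h]
    abel
  obtain ⟨P, hP⟩ := exists_aeval D hc'
  have hP0 : P ≠ 0 := by
    rintro rfl
    rw [map_zero, sub_eq_zero] at hP
    exact hx1 (D.faithful (by rw [hP, map_one]))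
  obtain ⟨R, hR, hR0⟩ := exists_eq_X_pow_mul hP0
  have hu : IsUnit (aeval D.N R) := isUnit_aeval ⟨D.d, D.nil⟩ hR0
  have heq : D.rho x - 1 = D.N ^ P.natTrailingDegree * aeval D.N R := by
    rw [hP, hR, map_mul, map_pow, aeval_X, ← hR]
  refine ⟨_, R, ?_, ?_, hR0, hu, heq⟩
  · by_contra hlt
    obtain ⟨v0, hv0⟩ := exists_vector D
    obtain ⟨w, hw⟩ := hc v0
    have h3 := D.three_le
    have h1 : (D.rho x - 1) v0 = (D.N ^ 2) w := by
      rw [hw]; simp
    rw [heq] at h1
    have h2 := congrArg (D.N ^ (D.d - 2)) h1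
    rw [← Module.End.mul_apply, ← Module.End.mul_apply, ← mul_assoc, ← pow_add, ← pow_add,
      show D.d - 2 + 2 = D.d by omega, show D.N ^ D.d = 0 from D.nil, LinearMap.zero_apply] at h2
    have h4 : X ^ D.d ∣ X ^ (D.d - 2 + P.natTrailingDegree) * R :=
      dvd_of_aeval_apply (N := D.N) D.nil hv0 (by rw [map_mul, map_pow, aeval_X]; exact h2)
    have h5 := X_pow_dvd_iff.1 h4 (D.d - 2 + P.natTrailingDegree) (by omega)
    simp [coeff_X_pow_mul', hR0] at h5
  · by_contra hge
    rw [not_lt] at hge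
    obtain ⟨j, hj⟩ := Nat.exists_eq_add_of_le hge
    rw [hj, pow_add, show D.N ^ D.d = 0 from D.nil, zero_mul, zero_mul, sub_eq_zero] at heq
    exact hx1 (D.faithful (by rw [heq, map_one]))

/-- Existence of the coefficient. -/
theorem exists_coef (D : Datum p X₀ V) {g : X₀} (hg : g ∈ (D.P : Subgroup X₀)) :
    ∃ a, D.Coef g a := by
  obtain ⟨a, ha⟩ := D.pattern g hg
  refine ⟨a, fun w => ?_⟩
  have h := ha 0 (by have := D.three_le; omega) w
  simpa [Datum.Fl, Datum.N] using h

theorem coef_unique (D : Datum p X₀ V) {g : X₀} {a b : ZMod p} (ha : D.Coef g a)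
    (hb : D.Coef g b) : a = b := by
  obtain ⟨v0, hv0⟩ := exists_vector D
  obtain ⟨w, hw⟩ := Submodule.sub_mem _ (hb v0) (ha v0)
  have h3 := D.three_le
  have h : (D.N ^ (D.d - 2)) ((a - b) • D.N v0) = 0 := by
    rw [show (a - b) • D.N v0 = (D.N ^ 2) w by rw [hw, sub_smul]; abel,
      ← Module.End.mul_apply, ← pow_add, show D.d - 2 + 2 = D.d by omega,
      show D.N ^ D.d = 0 from D.nil, LinearMap.zero_apply]
  rw [map_smul, ← Module.End.mul_apply, ← pow_succ, show D.d - 2 + 1 = D.d - 1 by omega] at h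
  exact sub_eq_zero.1 ((smul_eq_zero.1 h).resolve_right hv0)

theorem coef_mul (D : Datum p X₀ V) {g h : X₀} {a b : ZMod p} (ha : D.Coef g a) (hb : D.Coef h b) :
    D.Coef (g * h) (a + b) := by
  intro w
  have h1 := ha (D.rho h w)
  have h2 := hb w
  have h3 : D.N (D.rho h w - w) ∈ D.Fl 2 := by
    obtain ⟨v, hv⟩ := h2
    refine ⟨b • w + D.N v, ?_⟩
    rw [show D.rho h w - w = (D.N ^ 2) v + b • D.N w by rw [hv]; abel]
    simp only [map_add, map_smul, pow_two, Module.End.mul_apply]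
    abel
  have h4 : D.rho (g * h) w - w - (a + b) • D.N w = (D.rho g (D.rho h w) - D.rho h w - a • D.N (D.rho h w))
      + (D.rho h w - w - b • D.N w) + a • D.N (D.rho h w - w) := by
    rw [map_mul, Module.End.mul_apply, map_sub]
    module
  rw [h4]
  exact add_mem (add_mem h1 h2) (Submodule.smul_mem _ _ h3)

theorem coef_one (D : Datum p X₀ V) : D.Coef 1 0 := fun w => by simp

theorem coef_s (D : Datum p X₀ V) : D.Coef D.s 1 := fun w => by simp [Datum.N]

theorem coef_s_pow (D : Datum p X₀ V) : ∀ n : ℕ, D.Coef (D.s ^ n) (n : ZMod p)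
  | 0 => by simpa using coef_one D
  | n + 1 => by
    rw [pow_succ, Nat.cast_succ]
    exact coef_mul D (coef_s_pow D n) (coef_s D)

/-- The block element has order `p`. -/
theorem pow_s (D : Datum p X₀ V) : D.s ^ p = 1 := by
  refine D.faithful ?_
  have h : D.rho D.s = D.N + 1 := by simp [Datum.N]
  have hC : CharP (Module.End (ZMod p) V) p := by
    haveI : Nontrivial (Module.End (ZMod p) V) := nontrivial_of_ne _ _ D.block
    exact charP_of_injective_algebraMap (algebraMap (ZMod p) (Module.End (ZMod p) V)).injective p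
  rw [map_pow, map_one, h, add_pow_char_of_commute (p := p) (h := Commute.one_right _), one_pow,
    pow_eq_zero_of_le D.le_p (show D.N ^ D.d = 0 from D.nil), zero_add]

/-- A single block in a group with a strongly `p`-embedded subgroup: the combination. -/
theorem false_of_datum (hp5 : 5 ≤ p) (hQ : QuadStmt.{u, v}) (hA : AbelStmt.{u, v})
    (hT : ThreeStmt.{u, v}) (D : Datum p X₀ V)
    (hab : (∀ g ∈ (D.P : Subgroup X₀), ∀ h ∈ (D.P : Subgroup X₀), g * h = h * g) →
      Nat.card (D.P : Subgroup X₀) = p ^ 2 ∧ D.Weight)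
    (hna : ¬ (∀ g ∈ (D.P : Subgroup X₀), ∀ h ∈ (D.P : Subgroup X₀), g * h = h * g) →
      ∃ y ∈ (D.P : Subgroup X₀), y * D.s * y⁻¹ * D.s⁻¹ ≠ 1 ∧
        ∀ g ∈ (D.P : Subgroup X₀), y * D.s * y⁻¹ * D.s⁻¹ * g = g * (y * D.s * y⁻¹ * D.s⁻¹)) :
    False := by
  by_cases hd : D.d = 3
  · exact hT p X₀ V hp5 D hd
  have hd4 : 4 ≤ D.d := by have := D.three_le; omega
  have hqN : ∀ R : (ZMod p)[X], aeval D.N R * D.N = D.N * aeval D.N R := fun R =>
    (commute_aeval (N := D.N) rfl R).symm
  by_cases hcomm : ∀ g ∈ (D.P : Subgroup X₀), ∀ h ∈ (D.P : Subgroup X₀), g * h = h * g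
  · obtain ⟨hcard, hW⟩ := hab hcomm
    obtain ⟨g, hgP, hgs⟩ : ∃ g ∈ (D.P : Subgroup X₀), g ∉ Subgroup.zpowers D.s := by
      by_contra! h
      have h1 := Subgroup.card_le_of_le h
      rw [hcard, Nat.card_zpowers] at h1
      have h2 := Nat.le_of_dvd hp.out.pos (orderOf_dvd_of_pow_eq_one (pow_s D))
      nlinarith [hp.out.two_le]
    obtain ⟨a, ha⟩ := exists_coef D hgP
    obtain ⟨n, hn⟩ : ∃ n : ℕ, (n : ZMod p) = -a := ⟨(-a).val, ZMod.natCast_zmod_val _⟩
    have hxP : g * D.s ^ n ∈ (D.P : Subgroup X₀) := mul_mem hgP (Subgroup.pow_mem _ D.s_mem _)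
    have hx1 : g * D.s ^ n ≠ 1 := fun h => hgs (by
      rw [mul_eq_one_iff_eq_inv] at h
      exact h ▸ inv_mem (Subgroup.pow_mem _ (Subgroup.mem_zpowers _) _))
    have hxc : D.Coef (g * D.s ^ n) 0 := by
      have := coef_mul D ha (coef_s_pow D n)
      rwa [hn, add_neg_cancel] at this
    obtain ⟨m, R, hm2, hmd, -, hu, heq⟩ := exists_form D (hcomm _ hxP _ D.s_mem) hx1 hxc
    rcases Nat.lt_or_ge D.d (2 * m) with hlt | hge
    · exact hQ p X₀ V hp5 D _ m _ hd4 hxP (hcomm _ hxP) hu (hqN R) heq hm2 hmd hlt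
    · exact hA p X₀ V hp5 D _ m _ hd4 hxP hcomm hu hcard (hqN R) heq hm2 hge hW
  obtain ⟨y, hy, hz1, hzc⟩ := hna hcomm
  obtain ⟨z, hz⟩ : ∃ z, z = y * D.s * y⁻¹ * D.s⁻¹ := ⟨_, rfl⟩
  rw [← hz] at hz1 hzc
  have hzP : z ∈ (D.P : Subgroup X₀) := hz ▸ mul_mem (mul_mem (mul_mem hy D.s_mem) (inv_mem hy))
    (inv_mem D.s_mem)
  have hc0 : D.Coef z 0 := by
    obtain ⟨a, ha⟩ := exists_coef D hy
    obtain ⟨a', ha'⟩ := exists_coef D (inv_mem hy)
    obtain ⟨b, hb⟩ := exists_coef D (inv_mem D.s_mem)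
    have h1 : a + a' = 0 := coef_unique D (by simpa using coef_mul D ha ha') (coef_one D)
    have h2 : 1 + b = 0 := coef_unique D (by simpa using coef_mul D (coef_s D) hb) (coef_one D)
    have h := coef_mul D (coef_mul D (coef_mul D ha (coef_s D)) ha') hb
    rw [← hz, show a + 1 + a' + b = (a + a') + (1 + b) by ring, h1, h2, add_zero] at h
    exact h
  obtain ⟨m, R, hm2, hmd, hR0, hu, heq⟩ := exists_form D (hzc _ D.s_mem) hz1 hc0
  refine hQ p X₀ V hp5 D z m _ hd4 hzP hzc hu (hqN R) heq hm2 hmd ?_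
  by_contra hge
  rw [not_lt] at hge
  -- conjugation by `y` changes `N` into a polynomial in `N`
  obtain ⟨P, hP⟩ : ∃ P : (ZMod p)[X], P = X ^ m * R := ⟨_, rfl⟩
  have hzP' : D.rho z - 1 = aeval D.N P := by rw [heq, hP, map_mul, map_pow, aeval_X]
  have hY : D.rho y * D.N = aeval D.N (X + P * (1 + X)) * D.rho y := by
    have h1 : y * D.s = z * D.s * y := by rw [hz]; group
    have h2 := congrArg D.rho h1
    rw [map_mul, map_mul, map_mul] at h2
    simp only [map_add, map_mul, aeval_X, map_one, ← hzP']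
    simp only [Datum.N, mul_sub, sub_mul, mul_add, add_mul, mul_one, one_mul, mul_assoc] at h2 ⊢
    rw [h2]
    abel
  have hY' : D.rho y * D.rho y⁻¹ = 1 := by rw [← map_mul, mul_inv_cancel, map_one]
  have hfix : D.rho y * aeval D.N P * D.rho y⁻¹ = aeval D.N P := by
    rw [← hzP', mul_sub, sub_mul, ← map_mul, ← map_mul, ← hzc y hy, mul_inv_cancel_right, mul_one,
      hY']
  rw [conj_aeval hY hY' P, ← aeval_comp] at hfix
  obtain ⟨v0, hv0⟩ := exists_vector D
  have hdvd : X ^ D.d ∣ P.comp (X + P * (1 + X)) - P :=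
    dvd_of_aeval_apply (N := D.N) D.nil hv0 (by rw [map_sub, hfix, sub_self, LinearMap.zero_apply])
  obtain ⟨q, hq⟩ := binomExpansion (P.map C) X (P * (1 + X))
  have hcomp : P.comp (X + P * (1 + X)) = P + derivative P * (P * (1 + X))
      + q * (P * (1 + X)) ^ 2 := by
    simp only [eval_map, derivative_map, eval₂_C_X] at hq
    exact hq
  have h2m : X ^ (2 * m) ∣ derivative P * P * (1 + X) := by
    have h1 : X ^ (2 * m) ∣ q * (P * (1 + X)) ^ 2 := by
      rw [hP, two_mul, pow_add]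
      exact ⟨q * (R * (1 + X)) ^ 2, by ring⟩
    have h2 := dvd_sub (dvd_trans (pow_dvd_pow X hge) hdvd) h1
    rw [hcomp, show P + derivative P * (P * (1 + X)) + q * (P * (1 + X)) ^ 2 - P
      - q * (P * (1 + X)) ^ 2 = derivative P * P * (1 + X) by ring] at h2
    exact h2
  obtain ⟨j, hj⟩ := Nat.exists_eq_add_of_le (show 1 ≤ m by omega)
  have hdP : derivative P = X ^ j * (C (m : ZMod p) * R + X * derivative R) := by
    rw [hP, derivative_mul, derivative_X_pow, show m - 1 = j by omega, hj, add_comm 1 j, pow_succ]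
    ring
  rw [hdP, hP, show X ^ j * (C (m : ZMod p) * R + X * derivative R) * (X ^ m * R) * (1 + X)
    = X ^ (j + m) * ((C (m : ZMod p) * R + X * derivative R) * R * (1 + X)) by ring,
    show 2 * m = j + m + 1 by omega, pow_succ, mul_dvd_mul_iff_left (pow_ne_zero _ X_ne_zero),
    X_dvd_iff] at h2m
  have hm0 : (m : ZMod p) ≠ 0 := by
    rw [Ne, ZMod.natCast_eq_zero_iff]
    intro h
    have := Nat.le_of_dvd (by omega) h
    have := D.le_p
    omega
  simp [mul_coeff_zero, coeff_X_zero, hm0, hR0] at h2m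

end Cfsg.Agent.Lib.MaxClassEss85.Pure

namespace Cfsg.Agent.Lib.MaxClassEss85

universe u' v'

/-- A single block in a group with a strongly `p`-embedded subgroup. -/
theorem false_of_datum {p : ℕ} [Fact p.Prime] (hp5 : 5 ≤ p) (hQ : QuadStmt.{u', v'})
    (hA : AbelStmt.{u', v'}) (hT : ThreeStmt.{u', v'}) {X : Type u'} [Group X] [Finite X]
    {V : Type v'} [AddCommGroup V] [Module (ZMod p) V] (D : Datum p X V)
    (hab : (∀ g ∈ (D.P : Subgroup X), ∀ h ∈ (D.P : Subgroup X), g * h = h * g) →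
      Nat.card (D.P : Subgroup X) = p ^ 2 ∧ D.Weight)
    (hna : ¬ (∀ g ∈ (D.P : Subgroup X), ∀ h ∈ (D.P : Subgroup X), g * h = h * g) →
      ∃ y ∈ (D.P : Subgroup X), y * D.s * y⁻¹ * D.s⁻¹ ≠ 1 ∧
        ∀ g ∈ (D.P : Subgroup X), y * D.s * y⁻¹ * D.s⁻¹ * g = g * (y * D.s * y⁻¹ * D.s⁻¹)) :
    False :=
  Pure.false_of_datum hp5 hQ hA hT D hab hna

end Cfsg.Agent.Lib.MaxClassEss85
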