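import Cfsg.Agent.Lib.Fusion87.MaxClassDegree
import Cfsg.Agent.Lib.Fusion87.MaxClassThree

/-!
Facts about a `p`-group of maximal class: normal subgroups, the second centre, an element outside
all two-step centralisers.
-/

set_option autoImplicit false
set_option linter.unusedSectionVars false

namespace Cfsg.Agent.Lib.MaxClassEss85

open Subgroup Cfsg.Agent.Lib.H66.MaxClass Cfsg.Agent.Lib.Fusion87
open scoped commutatorElement

universe u

variable {p n : ℕ} [hp : Fact p.Prime] {P : Type u} [Group P] [Finite P] (h : IsMax p P n)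
include h

theorem exists_notMem_C (hn : 4 ≤ n) :
    ∃ s : P, s ∉ L P 1 ∧ ∀ k, 1 ≤ k → k + 3 ≤ n → s ∉ C P k := by
  obtain ⟨x, -, hx⟩ := h.exists_small_centralizer n ⊥ (fun hb => by
    have := h.card
    rw [← Subgroup.card_top, ← hb, card_bot] at this
    exact absurd this (Nat.one_lt_pow (by omega) hp.out.one_lt).ne)
  exact ⟨x, h.notMem_L_one_of_card (by omega) hx, fun k hk1 hk => h.notMem_C_of_card hx hk1 hk⟩

/-- An element outside `C P 1` and `C P (n - 3)` is outside all two-step centralisers. -/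
theorem notMem_C_all (hp2 : p ≠ 2) (hn : 4 ≤ n) {g : P} (h1 : g ∉ C P 1) (h2 : g ∉ C P (n - 3))
    {k : ℕ} (hk1 : 1 ≤ k) (hk : k + 3 ≤ n) : g ∉ C P k := by
  rcases Nat.lt_or_ge (k + 3) n with hlt | hge
  · rwa [C_eq_C_one h hp2 hk1 (by omega)]
  · rwa [show k = n - 3 by omega]

theorem mem_C_of_lt (hp2 : p ≠ 2) {g : P} (hg : g ∈ C P 1) {k : ℕ} (hk1 : 1 ≤ k) (hk : k + 4 ≤ n) :
    g ∈ C P k := by
  rwa [C_eq_C_one h hp2 hk1 hk]

/-- Elements in successive layers in a normal subgroup. -/
theorem exists_mem_layer (hn : 4 ≤ n) (N : Subgroup P) [hN : N.Normal] {k : ℕ} (hk1 : 1 ≤ k)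
    {v : P} (hvN : v ∈ N) (hv : v ∈ L P k) (hv' : v ∉ L P (k + 1)) :
    ∀ j, k ≤ j → j ≤ n - 2 → ∃ w ∈ N, w ∈ L P j ∧ w ∉ L P (j + 1) := by
  intro j hj hjn
  induction j, hj using Nat.le_induction with
  | base => exact ⟨v, hvN, hv, hv'⟩
  | succ j hj ih =>
    obtain ⟨w, hwN, hw, hw'⟩ := ih (by omega)
    obtain ⟨s, -, hs⟩ := exists_notMem_C h hn
    refine ⟨⁅w, s⁆, ?_, comm_top_mem hw s,
      h.comm_notMem (by omega) (by omega) hw hw' (hs j (by omega) (by omega))⟩
    rw [commutatorElement_def, show w * s * w⁻¹ * s⁻¹ = w * (s * w⁻¹ * s⁻¹) by group]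
    exact mul_mem hwN (hN.conj_mem _ (inv_mem hwN) s)

/-- A normal subgroup containing an element of a layer contains the term of the series. -/
theorem L_le_of_mem (hn : 4 ≤ n) (N : Subgroup P) [hN : N.Normal] {k : ℕ} (hk1 : 1 ≤ k) {v : P}
    (hvN : v ∈ N) (hv : v ∈ L P k) (hv' : v ∉ L P (k + 1)) : L P k ≤ N := by
  suffices ∀ i j, k ≤ j → j + i = n - 1 → L P j ≤ N by
    refine this (n - 1 - k) k le_rfl ?_
    have : k < n - 1 := by
      by_contra hc
      rw [h.L_eq_bot (by omega), mem_bot] at hv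
      exact hv' (hv ▸ one_mem _)
    omega
  intro i
  induction i with
  | zero => intro j _ hj; rw [h.L_eq_bot (by omega)]; exact bot_le
  | succ i ih =>
    intro j hjk hj u hu
    obtain ⟨w, hwN, hw, hw'⟩ := exists_mem_layer h hn N hk1 hvN hv hv' j hjk (by omega)
    obtain ⟨e, he⟩ := h.exists_pow_mul_mem (by omega) (by omega) hw hw' hu
    have := mul_mem (zpow_mem hwN e) (ih (j + 1) (by omega) (by omega) he)
    rwa [mul_inv_cancel_left] at this

/-- A normal subgroup not inside the derived group contains it. -/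
theorem L_one_le_of_not_le (hn : 4 ≤ n) (N : Subgroup P) [hN : N.Normal] (hne : ¬ N ≤ L P 1) :
    L P 1 ≤ N := by
  obtain ⟨g, hgN, hg⟩ := SetLike.not_le_iff_exists.1 hne
  have h0 : g ∉ C P 0 := fun hc => hg (h.C_zero_le (by omega) hc)
  obtain ⟨u, -, hu⟩ : ∃ u ∈ L P 0, ⁅u, g⁆ ∉ L P 2 := by
    by_contra hcon
    exact h0 fun u hu => not_not.1 fun hc => hcon ⟨u, hu, hc⟩
  refine L_le_of_mem h hn N le_rfl (v := ⁅u, g⁆) ?_ (top_comm_mem (show g ∈ L P 0 from mem_top g) u) hu
  rw [commutatorElement_def]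
  exact mul_mem (hN.conj_mem g hgN u) (inv_mem hgN)

/-- A normal subgroup of index at least `p ^ 2` is a term of the series. -/
theorem exists_eq_L (hn : 4 ≤ n) (N : Subgroup P) [N.Normal] (hi : p < N.index) (hb : N ≠ ⊥) :
    ∃ k, 1 ≤ k ∧ k ≤ n - 2 ∧ N = L P k := by
  classical
  have hle : N ≤ L P 1 := by
    by_contra hne
    have h1 := L_one_le_of_not_le h hn N hne
    have hlt : L P 1 < N := lt_of_le_of_ne h1 fun e => hne e.ge
    have h2 := h.card_lt_card_mul hlt
    rw [h.card_L le_rfl (by omega)] at h2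
    have hm := N.card_mul_index
    rw [h.card] at hm
    have h3 : p ^ (n - 1 - 1) * p * N.index ≤ p ^ (n - 1 - 1) * p * p := by
      calc p ^ (n - 1 - 1) * p * N.index ≤ Nat.card N * N.index := Nat.mul_le_mul_right _ h2
        _ = p ^ (n - 1 - 1) * p * p := by
          rw [hm, ← pow_succ, ← pow_succ]; congr 1; omega
    exact absurd (Nat.le_of_mul_le_mul_left h3 (Nat.mul_pos (pow_pos hp.out.pos _) hp.out.pos))
      (not_le.2 hi)
  have hex : ∃ k, ¬ N ≤ L P (k + 1) := ⟨n, fun hc => hb (eq_bot_iff.2 (by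
    rwa [h.L_eq_bot (by omega)] at hc))⟩
  refine ⟨Nat.find hex, ?_, ?_, ?_⟩
  · by_contra hc
    exact Nat.find_spec hex (by rwa [show Nat.find hex = 0 by omega])
  · refine (Nat.find_min' hex fun hc => hb (eq_bot_iff.2 ?_))
    rwa [h.L_eq_bot (by omega)] at hc
  · have h1 : 1 ≤ Nat.find hex := by
      by_contra hc
      exact Nat.find_spec hex (by rwa [show Nat.find hex = 0 by omega])
    have hk : N ≤ L P (Nat.find hex) := by
      have := Nat.find_min hex (m := Nat.find hex - 1) (by omega)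
      rw [not_not, show Nat.find hex - 1 + 1 = Nat.find hex by omega] at this
      exact this
    obtain ⟨v, hvN, hv⟩ := SetLike.not_le_iff_exists.1 (Nat.find_spec hex)
    exact le_antisymm hk (L_le_of_mem h hn N h1 hvN (hk hvN) hv)

/-- The second centre. -/
theorem upperCentralSeries_two (hn : 4 ≤ n) :
    Subgroup.upperCentralSeries P 2 = L P (n - 3) := by
  ext g
  rw [Subgroup.mem_upperCentralSeries_succ_iff, Subgroup.upperCentralSeries_one, h.center_eq (by omega)]
  constructor
  · intro hg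
    suffices ∀ k, 1 ≤ k → k ≤ n - 3 → g ∈ L P k from this _ (by omega) le_rfl
    intro k hk1 hk
    induction k, hk1 using Nat.le_induction with
    | base =>
      refine h.C_zero_le (by omega) fun u _ => ?_
      rw [← commutatorElement_inv g u]
      exact inv_mem (L_anti (by omega) (hg u))
    | succ k hk1 ih =>
      by_contra hgk
      obtain ⟨s, -, hs⟩ := exists_notMem_C h hn
      exact h.comm_notMem hk1 (by omega) (ih (by omega)) hgk (hs k hk1 (by omega))
        (L_anti (by omega) (hg s))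
  · intro hg y
    have := comm_top_mem hg y
    rwa [show n - 3 + 1 = n - 2 by omega] at this

/-- The centraliser of the second centre. -/
theorem centralizer_L_eq (hn : 4 ≤ n) :
    centralizer (L P (n - 3) : Set P) = C P (n - 3) := by
  ext g
  rw [mem_centralizer_iff, mem_C, h.L_eq_bot (k := n - 3 + 2) (by omega)]
  simp only [mem_bot, commutatorElement_eq_one_iff_mul_comm]
  rfl

end Cfsg.Agent.Lib.MaxClassEss85
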