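import Cfsg.Agent.Lib.MaxClassEss85.Spec
import Cfsg.Agent.Lib.MaxClassEss85.Series
import Cfsg.Agent.Lib.Fusion87.LayerSign
import Cfsg.Agent.Lib.FusionOrderFive.Tools

/-!
The action of the automizer of a deep normal essential subgroup on its Frattini quotient.
-/

set_option autoImplicit false
set_option linter.unusedSectionVars false

namespace Cfsg.Agent.Lib.MaxClassEss85

open Cfsg Cfsg.FusionSystem Cfsg.Agent.Lib.Fusion Cfsg.Agent.Lib.Fusion87
  Cfsg.Agent.Lib.FusionOrderFive Cfsg.Agent.Lib.H66.MaxClass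
open Subgroup
open scoped commutatorElement

universe u

variable {p n : ℕ} [hp : Fact p.Prime]

/-- Bilinearity of the commutator into the first layer. -/
theorem comm_bilinear {P : Type u} [Group P] [Finite P] (h : IsMax p P n) (hn : 4 ≤ n)
    {g g' s s' : P} (hg : g ∈ C P 1) (hg1 : g ∉ L P 1) {a b : ℤ}
    (hs : (s ^ a)⁻¹ * s' ∈ C P 1) (hg' : (g ^ b)⁻¹ * g' ∈ L P 1) :
    ((⁅g', s'⁆ : P) : P ⧸ L P 2) = ((⁅g, s⁆ : P) : P ⧸ L P 2) ^ (a * b) := by
  have hc : ∀ x y w : P, Commute ((⁅x, y⁆ : P) : P ⧸ L P 2) (w : P ⧸ L P 2) := fun x y w => by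
    rw [← commutatorElement_eq_one_iff_commute, ← QuotientGroup.mk'_apply, ← QuotientGroup.mk'_apply,
      ← map_commutatorElement]
    exact (QuotientGroup.eq_one_iff _).2 (comm_top_mem (top_comm_mem (show y ∈ L P 0 from mem_top y) x) w)
  let ψ : P → P →* P ⧸ L P 2 := fun x => MonoidHom.mk' (fun y => (⁅x, y⁆ : P)) fun y z => by
    rw [show ⁅x, y * z⁆ = ⁅x, y⁆ * (y * ⁅x, z⁆ * y⁻¹) by simp only [commutatorElement_def]; group,
      QuotientGroup.mk_mul, QuotientGroup.mk_mul, QuotientGroup.mk_mul, QuotientGroup.mk_inv,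
      ← (hc x z y).eq, mul_inv_cancel_right]
  let φ : P → P →* P ⧸ L P 2 := fun y => MonoidHom.mk' (fun x => (⁅x, y⁆ : P)) fun x z => by
    rw [show ⁅x * z, y⁆ = x * ⁅z, y⁆ * x⁻¹ * ⁅x, y⁆ by simp only [commutatorElement_def]; group,
      QuotientGroup.mk_mul, QuotientGroup.mk_mul, QuotientGroup.mk_mul, QuotientGroup.mk_inv,
      ← (hc z y x).eq, mul_inv_cancel_right, (hc z y ⁅x, y⁆).eq]
  have hC : C P 1 = zpowers g ⊔ L P 1 := by
    refine (eq_of_le_of_card_ge (sup_le (zpowers_le.2 hg) (L_one_le_C 1)) ?_).symm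
    rw [C_one_index h hn]
    have := h.card_lt_card_mul (lt_of_le_of_ne (le_sup_right : L P 1 ≤ zpowers g ⊔ L P 1)
      fun e => hg1 (by rw [e]; exact mem_sup_left (mem_zpowers g)))
    rw [h.card_L le_rfl (by omega), ← pow_succ] at this
    exact le_trans (Nat.pow_le_pow_right hp.out.pos (by omega)) this
  have hker : ∀ y ∈ C P 1, ψ g y = 1 := by
    intro y hy
    rw [hC, mem_sup_of_normal_right] at hy
    obtain ⟨q, hq, r, hr, rfl⟩ := hy
    obtain ⟨i, rfl⟩ := mem_zpowers_iff.1 hq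
    rw [map_mul, MonoidHom.map_zpow, show ψ g g = 1 from (QuotientGroup.eq_one_iff _).2
      (by rw [commutatorElement_self]; exact one_mem _), one_zpow, one_mul]
    exact (QuotientGroup.eq_one_iff _).2 (top_comm_mem hr g)
  have h1 : ((⁅g', s'⁆ : P) : P ⧸ L P 2) = ((⁅g, s'⁆ : P) : P ⧸ L P 2) ^ b := by
    show φ s' g' = φ s' g ^ b
    rw [← MonoidHom.map_zpow, eq_comm, ← inv_mul_eq_one, ← map_inv, ← map_mul]
    exact (QuotientGroup.eq_one_iff _).2 (comm_top_mem hg' s')
  have h2 : ((⁅g, s'⁆ : P) : P ⧸ L P 2) = ((⁅g, s⁆ : P) : P ⧸ L P 2) ^ a := by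
    show ψ g s' = ψ g s ^ a
    rw [← MonoidHom.map_zpow, eq_comm, ← inv_mul_eq_one, ← map_inv, ← map_mul]
    exact hker _ hs
  rw [h1, h2, ← zpow_mul]

/-- Automorphisms of an elementary abelian group as linear maps. -/
def autLinear (Q : Type u) [CommGroup Q] [Module (ZMod p) (Additive Q)] :
    MulAut Q →* Module.End (ZMod p) (Additive Q) where
  toFun a := (MonoidHom.toAdditive (a : Q →* Q)).toZModLinearMap p
  map_one' := LinearMap.ext fun _ => rfl
  map_mul' _ _ := LinearMap.ext fun _ => rfl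

variable {Ω : Type u} [Group Ω] {S : Subgroup Ω} [Finite S] {F : FusionSystem S}

set_option maxHeartbeats 1600000 in
theorem exists_datum (hS : IsPGroup p S) (hF : F.IsSaturated p) (hp2 : p ≠ 2) (h : IsMax p ↥S n)
    (hn : 4 ≤ n) {E : Subgroup Ω} (hE : F.IsEssential p E) [(E.subgroupOf S).Normal] {k : ℕ}
    (hk1 : 1 ≤ k) (hkn : k ≤ n - 2) (hA : E.subgroupOf S = L ↥S k) :
    ∃ (X : Type u) (_ : Group X) (_ : Finite X) (V : Type u) (_ : AddCommGroup V)
      (_ : Module (ZMod p) V) (D : Datum p X V),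
      ((∀ g ∈ (D.P : Subgroup X), ∀ h ∈ (D.P : Subgroup X), g * h = h * g) →
        Nat.card (D.P : Subgroup X) = p ^ 2 ∧ D.Weight) ∧
      (¬ (∀ g ∈ (D.P : Subgroup X), ∀ h ∈ (D.P : Subgroup X), g * h = h * g) →
        ∃ y ∈ (D.P : Subgroup X), ⁅y, D.s⁆ ≠ 1 ∧
          ∀ g ∈ (D.P : Subgroup X), ⁅y, D.s⁆ * g = g * ⁅y, D.s⁆) := by
  classical
  have hES := hE.1.1
  haveI := finite_of_le hES
  have hEp : IsPGroup p E := hS.to_le hES
  letI : CommGroup (E ⧸ frattini E) := quotCommGroup hEp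
  let V := Additive (E ⧸ frattini E)
  have hexp : ∀ x : V, p • x = 0 := fun x => by
    apply Additive.toMul.injective
    rw [toMul_nsmul, toMul_zero]
    exact pow_quot hEp _
  letI : Module (ZMod p) V := AddCommGroup.zmodModule hexp
  have tst0 : Module (ZMod p) V := inferInstance
  -- the elements of `E` inside `S`
  have hmemA : ∀ x : S, (x : Ω) ∈ E ↔ x ∈ L ↥S k := fun x => by rw [← hA, mem_subgroupOf]
  let cl : ∀ x : S, x ∈ L ↥S k → V := fun x hx =>
    Additive.ofMul (((⟨(x : Ω), (hmemA x).2 hx⟩ : E)) : E ⧸ frattini E)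
  have cl_mul : ∀ x hx y hy, cl (x * y) (mul_mem hx hy) = cl x hx + cl y hy := fun x hx y hy => rfl
  have cl_inv : ∀ x hx, cl x⁻¹ (inv_mem hx) = -cl x hx := fun x hx => rfl
  have cl_congr : ∀ x hx y hy, x = y → cl x hx = cl y hy := by
    rintro x hx y hy rfl; rfl
  have cl_surj : ∀ w : V, ∃ x hx, w = cl x hx := by
    intro w
    obtain ⟨y, hy⟩ := QuotientGroup.mk_surjective (Additive.toMul w)
    exact ⟨⟨(y : Ω), hES y.2⟩, (hmemA _).1 y.2, congrArg Additive.ofMul hy.symm⟩
  have cl_zpow : ∀ x hx (j : ℤ), cl (x ^ j) (zpow_mem hx j) = j • cl x hx := fun x hx j => by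
    show Additive.ofMul _ = j • Additive.ofMul _
    rw [← ofMul_zpow, ← QuotientGroup.mk_zpow]
    exact congrArg Additive.ofMul (congrArg _ (Subtype.ext (by simp)))
  -- the Frattini subgroup is a term of the series
  obtain ⟨m, hkm, hmn, hker⟩ : ∃ m, k < m ∧ m ≤ n - 1 ∧
      ∀ x hx, cl x hx = 0 ↔ x ∈ L ↥S m := by
    let Ψ : Subgroup S := (frattini E).map (Subgroup.inclusion hES)
    have hΨ : ∀ x hx, cl x hx = 0 ↔ x ∈ Ψ := fun x hx => by
      show Additive.ofMul _ = Additive.ofMul (1 : E ⧸ frattini E) ↔ _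
      rw [Additive.ofMul.injective.eq_iff, QuotientGroup.eq_one_iff]
      exact (Subgroup.mem_map_iff_mem (Subgroup.inclusion_injective hES)
        (x := ⟨(x : Ω), (hmemA x).2 hx⟩)).symm
    have hle : Ψ ≤ L ↥S k := by
      rintro _ ⟨y, -, rfl⟩
      exact (hmemA _).1 y.2
    haveI hΨn : Ψ.Normal := ⟨fun z hz g => by
      obtain ⟨y, hy, rfl⟩ := hz
      have hgn : (g : Ω) ∈ Subgroup.normalizer (E : Set Ω) :=
        (normal_subgroupOf_iff_le_normalizer hES).1 inferInstance g.2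
      refine ⟨conjAut E (g : Ω) hgn y, ?_, Subtype.ext rfl⟩
      exact (Subgroup.characteristic_iff_le_comap.1 frattini_characteristic (conjAut E (g : Ω) hgn)) hy⟩
    have hne : Ψ ≠ L ↥S k := fun e => by
      have htop : frattini E = ⊤ := eq_top_iff.2 fun y _ => by
        obtain ⟨y', hy', he⟩ := e.ge ((hmemA (Subgroup.inclusion hES y)).1 y.2)
        exact Subgroup.inclusion_injective hES he ▸ hy'
      haveI : Nontrivial E := by
        by_contra hE1
        rw [not_nontrivial_iff_subsingleton] at hE1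
        have := h.L_lt (k := k) (by omega)
        refine this.not_ge fun z hz => ?_
        have : (⟨(z : Ω), (hmemA z).2 hz⟩ : E) = 1 := Subsingleton.elim _ _
        have hz1 : z = 1 := Subtype.ext (congrArg (Subtype.val : E → Ω) this)
        exact hz1 ▸ one_mem _
      obtain ⟨M₀, hM₀, -⟩ := (eq_top_or_exists_le_coatom (⊥ : Subgroup E)).resolve_left bot_ne_top
      exact hM₀.1 (top_le_iff.1 (htop ▸ frattini_le_coatom hM₀))
    by_cases hb : Ψ = ⊥
    · exact ⟨n - 1, by omega, le_rfl, fun x hx => (hΨ x hx).trans (by rw [hb, h.L_eq_bot le_rfl])⟩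
    · have hi : p < Ψ.index := by
        have hlt : Ψ < L ↥S k := lt_of_le_of_ne hle hne
        have h1 := h.card_lt_card_mul hlt
        rw [h.card_L hk1 (by omega)] at h1
        by_contra hc
        have h2 := Ψ.card_mul_index
        rw [h.card] at h2
        have h3 : p ^ n * p ≤ p ^ (n - 1 - k) * p := by
          rw [← h2]
          calc Nat.card Ψ * Ψ.index * p ≤ Nat.card Ψ * p * p := by
                rw [mul_right_comm]; exact Nat.mul_le_mul_left _ (not_lt.1 hc)
            _ ≤ p ^ (n - 1 - k) * p := Nat.mul_le_mul_right _ h1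
        rw [← pow_succ, ← pow_succ, Nat.pow_le_pow_iff_right hp.out.one_lt] at h3
        omega
      obtain ⟨m, hm1, hm2, hm⟩ := exists_eq_L h hn Ψ hi hb
      refine ⟨m, ?_, by omega, fun x hx => (hΨ x hx).trans (by rw [hm])⟩
      by_contra hc
      exact hne (le_antisymm hle (hm ▸ L_anti (not_lt.1 hc)))
  -- the representation of `S`
  haveI := finite_autGroup (F := F) hES
  let f : F.autGroup E →* (F.autGroup E).map (quotHom E) := (quotHom E).subgroupMap (F.autGroup E)
  have hf : Function.Surjective f := (quotHom E).subgroupMap_surjective _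
  let X := ↥((F.autGroup E).map (quotHom E))
  haveI : Finite X := Finite.of_surjective f hf
  have hnorm : ∀ g : S, (g : Ω) ∈ Subgroup.normalizer (E : Set Ω) := fun g =>
    (normal_subgroupOf_iff_le_normalizer hES).1 inferInstance g.2
  have hauto : ∀ g : S, conjAut E (g : Ω) (hnorm g) ∈ F.autGroup E := fun g =>
    autInducedBy_le_autGroup hES (mem_autInducedBy_normalizer.2 ⟨g, hnorm g, g.2, rfl⟩)
  let c : S →* X := MonoidHom.mk' (fun g => f ⟨conjAut E (g : Ω) (hnorm g), hauto g⟩) fun g g' => by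
    rw [← map_mul]
    exact congrArg f (Subtype.ext (MulEquiv.ext fun y => Subtype.ext (by
      simp [conjAut_apply, mul_assoc])))
  let rho : X →* Module.End (ZMod p) V :=
    (autLinear (p := p) (E ⧸ frattini E)).comp ((F.autGroup E).map (quotHom E)).subtype
  have hfaith : Function.Injective rho := fun a b hab => Subtype.ext (MulEquiv.ext fun x =>
    Additive.ofMul.injective (LinearMap.congr_fun hab (Additive.ofMul x)))
  have rho_f : ∀ (α : F.autGroup E) (x : S) (hx : x ∈ L ↥S k),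
      rho (f α) (cl x hx) = Additive.ofMul ((((α : MulAut E) ⟨(x : Ω), (hmemA x).2 hx⟩ : E)) : E ⧸ frattini E) :=
    fun α x hx => rfl
  have hLn : ∀ {i : ℕ} {x : S}, x ∈ L ↥S i → ∀ g : S, g * x * g⁻¹ ∈ L ↥S i := fun hx g =>
    (inferInstance : (L ↥S _).Normal).conj_mem _ hx g
  have rho_c : ∀ (g x : S) (hx : x ∈ L ↥S k), rho (c g) (cl x hx) = cl (g * x * g⁻¹) (hLn hx g) :=
    fun g x hx => rfl
  -- the block element
  obtain ⟨s, hs1, hsC⟩ := exists_notMem_C h hn
  set N : Module.End (ZMod p) V := rho (c s) - 1 with hNdef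
  have hN : ∀ x hx, N (cl x hx) = cl ⁅s, x⁆ (L_anti (Nat.le_succ k) (top_comm_mem hx s)) := by
    intro x hx
    rw [hNdef, LinearMap.sub_apply, Module.End.one_apply, rho_c s x hx, sub_eq_iff_eq_add, ← cl_mul ⁅s, x⁆ (L_anti (Nat.le_succ k) (top_comm_mem hx s)) x hx]
    exact cl_congr _ (hLn hx s) _ (mul_mem (L_anti (Nat.le_succ k) (top_comm_mem hx s)) hx) (by
      simp only [commutatorElement_def]; group)
  -- the flag
  let W : ℕ → Set V := fun i => {w | ∃ x hx, x ∈ L ↥S (k + i) ∧ w = cl x hx}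
  have hW0 : ∀ i, m ≤ k + i → ∀ w ∈ W i, w = 0 := by
    rintro i hi w ⟨x, hx, hxi, rfl⟩
    exact (hker x hx).2 (L_anti hi hxi)
  have hNW : ∀ i, ∀ w : V, (N ^ i) w ∈ W i := by
    intro i
    induction i with
    | zero =>
      intro w
      obtain ⟨x, hx, rfl⟩ := cl_surj w
      exact ⟨x, hx, hx, rfl⟩
    | succ i ih =>
      intro w
      obtain ⟨x, hx, hxi, he⟩ := ih w
      rw [pow_succ', Module.End.mul_apply, he, hN _ hx]
      exact ⟨_, L_anti (Nat.le_succ k) (top_comm_mem hx s), top_comm_mem hxi s, rfl⟩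
  obtain ⟨v, hv, hv'⟩ := SetLike.exists_of_lt (h.L_lt (k := k) (by omega))
  have hrep : ∀ i, k + i ≤ n - 2 → ∃ x hx, x ∈ L ↥S (k + i) ∧ x ∉ L ↥S (k + i + 1) ∧
      (N ^ i) (cl v hv) = cl x hx := by
    intro i
    induction i with
    | zero => intro _; exact ⟨v, hv, hv, hv', rfl⟩
    | succ i ih =>
      intro hi
      obtain ⟨x, hx, hxi, hxi', he⟩ := ih (by omega)
      refine ⟨⁅s, x⁆, L_anti (Nat.le_succ k) (top_comm_mem hx s), top_comm_mem hxi s, fun hc => ?_, ?_⟩
      · refine h.comm_notMem (by omega) (by omega) hxi hxi' (hsC _ (by omega) (by omega)) ?_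
        rw [← commutatorElement_inv s x]
        exact inv_mem hc
      · rw [pow_succ', Module.End.mul_apply, he, hN _ hx]
  have hanti : ∀ i j, i ≤ j → LinearMap.range (N ^ j) ≤ LinearMap.range (N ^ i) := by
    rintro i j hij w ⟨w', rfl⟩
    exact ⟨(N ^ (j - i)) w', by rw [← Module.End.mul_apply, ← pow_add, Nat.add_sub_cancel' hij]⟩
  have hWN : ∀ i x hx, x ∈ L ↥S (k + i) → cl x hx ∈ LinearMap.range (N ^ i) := by
    suffices ∀ j i, m ≤ k + i + j → ∀ x hx, x ∈ L ↥S (k + i) → cl x hx ∈ LinearMap.range (N ^ i) from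
      fun i => this m i (by omega)
    intro j
    induction j with
    | zero =>
      intro i hi x hx hxi
      rw [(hker x hx).2 (L_anti (by omega) hxi)]
      exact zero_mem _
    | succ j ih =>
      intro i hi x hx hxi
      by_cases hbig : n - 1 ≤ k + i
      · rw [(hker x hx).2 (L_anti (by omega) hxi)]
        exact zero_mem _
      obtain ⟨w, hw, hwi, hwi', he⟩ := hrep i (by omega)
      obtain ⟨q, hq⟩ := h.exists_pow_mul_mem (by omega) (by omega) hwi hwi' hxi
      have hq' : (w ^ q)⁻¹ * x ∈ L ↥S k := mul_mem (inv_mem (zpow_mem hw q)) hx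
      have := add_mem (zsmul_mem (show cl w hw ∈ LinearMap.range (N ^ i) from ⟨_, he⟩) q)
        (hanti i (i + 1) (Nat.le_succ i) (ih (i + 1) (by omega) _ hq' hq))
      rw [← cl_zpow w hw, ← cl_mul _ (zpow_mem hw q) _ hq'] at this
      rwa [cl_congr x hx _ (mul_mem (zpow_mem hw q) hq') (mul_inv_cancel_left _ _).symm]
  set d := m - k with hd
  have hNd : N ^ d = 0 := LinearMap.ext fun w => hW0 d (by omega) _ (hNW d w)
  have hblock : N ^ (d - 1) ≠ 0 := by
    intro h0
    obtain ⟨x, hx, hxi, hxi', he⟩ := hrep (d - 1) (by omega)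
    rw [h0, LinearMap.zero_apply] at he
    exact hxi' (L_anti (by omega) ((hker x hx).1 he.symm))
  -- the Sylow subgroup
  obtain ⟨-, R, hR⟩ := isFullyAutomized_of_isFullyNormalized hS hF hE.2.1
  let P : Sylow p X := R.mapSurjective hf
  have hP : ∀ x : X, x ∈ (P : Subgroup X) ↔ ∃ g, c g = x := by
    intro x
    show x ∈ (R : Subgroup (F.autGroup E)).map f ↔ _
    rw [hR]
    constructor
    · rintro ⟨α, hα, rfl⟩
      obtain ⟨g, hg, hgS, he⟩ := mem_autInducedBy_normalizer.1 hα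
      exact ⟨⟨g, hgS⟩, congrArg f (Subtype.ext he.symm)⟩
    · rintro ⟨g, rfl⟩
      exact ⟨_, mem_autInducedBy_normalizer.2 ⟨g, hnorm g, g.2, rfl⟩, rfl⟩
  have hcker : ∀ g : S, c g = 1 ↔ g ∈ L ↥S k := by
    intro g
    rw [← hmemA]
    refine ⟨fun hg => ?_, fun hg => Subtype.ext ?_⟩
    · refine mem_of_conjAut_mem_inn hE.1 g.2 (hgN := hnorm g) ?_
      exact mem_inn_of_quot_trivial hS hF hE (hauto g) (congrArg Subtype.val hg)
    · show quotHom E (conjAut E (g : Ω) (hnorm g)) = 1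
      rw [show conjAut E (g : Ω) (hnorm g) = MulAut.conj (⟨g, hg⟩ : E) from MulEquiv.ext fun y => Subtype.ext rfl]
      exact quotHom_inn hEp _
  have hcardP : Nat.card (P : Subgroup X) = p ^ (k + 1) := by
    have e1 : (P : Subgroup X) = c.range := SetLike.ext fun x => hP x
    have hk' : c.ker = L ↥S k := SetLike.ext hcker
    have := (c.ker).card_mul_index
    rw [index_ker, hk', h.card_L hk1 (by omega), h.card, show n = n - 1 - k + (k + 1) by omega,
      pow_add, show n - 1 - k + (k + 1) - 1 - k = n - 1 - k by omega] at this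
    rw [e1]
    exact Nat.eq_of_mul_eq_mul_left (pow_pos hp.out.pos _) this
  have hflag : ∀ g : S, ∀ i (w : V),
      rho (c g) ((N ^ i) w) - (N ^ i) w ∈ LinearMap.range (N ^ (i + 1)) := by
    intro g i w
    obtain ⟨x, hx, hxi, he⟩ := hNW i w
    rw [he, rho_c g x hx]
    have h1 := hWN (i + 1) ⁅g, x⁆ (L_anti (Nat.le_succ k) (top_comm_mem hx g)) (top_comm_mem hxi g)
    convert h1 using 1
    rw [sub_eq_iff_eq_add, ← cl_mul ⁅g, x⁆ (L_anti (Nat.le_succ k) (top_comm_mem hx g)) x hx]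
    exact cl_congr _ (hLn hx g) _ (mul_mem (L_anti (Nat.le_succ k) (top_comm_mem hx g)) hx) (by
      simp only [commutatorElement_def]; group)
  have hd3 : 3 ≤ d := by
    by_contra hd3
    have hcs : ∀ g g' : S, rho (c g) (cl v hv) = rho (c g') (cl v hv) → rho (c g) = rho (c g') := by
      intro g g' he
      refine LinearMap.ext fun w => ?_
      obtain ⟨x, hx, rfl⟩ := cl_surj w
      obtain ⟨q, hq⟩ := h.exists_pow_mul_mem hk1 hkn hv hv' hx
      have hq' : (v ^ q)⁻¹ * x ∈ L ↥S k := L_anti (Nat.le_succ k) hq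
      have hfix : ∀ g : S, rho (c g) (cl _ hq') = cl _ hq' := by
        intro g
        obtain ⟨w, hw⟩ := hWN 1 _ hq' hq
        have := hflag g 1 w
        rw [hw] at this
        have h2 : ∀ u, (N ^ (1 + 1)) u = 0 := fun u => hW0 2 (by omega) _ (hNW 2 u)
        obtain ⟨u, hu⟩ := this
        rw [h2] at hu
        exact sub_eq_zero.1 hu.symm
      rw [cl_congr x hx _ (mul_mem (zpow_mem hv q) hq') (mul_inv_cancel_left _ _).symm, cl_mul _ (zpow_mem hv q) _ hq', cl_zpow v hv,
        map_add, map_add, map_zsmul, map_zsmul, he, hfix, hfix]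
    have hle : Nat.card (P : Subgroup X) ≤ p := by
      obtain ⟨u, hu, hu', hu''⟩ : ∃ u, ∃ _ : u ∈ L ↥S k, True ∧ ∀ g : S, ∃ q : Fin p,
          rho (c g) (cl v hv) = cl v hv + (q : ℕ) • N (cl v hv) := by
        refine ⟨v, hv, trivial, fun g => ?_⟩
        obtain ⟨w, hw⟩ := hflag g 0 (cl v hv)
        rw [pow_zero, Module.End.one_apply] at hw
        obtain ⟨x, hx, rfl⟩ := cl_surj w
        obtain ⟨q, hq⟩ := h.exists_pow_mul_mem hk1 hkn hv hv' hx
        have hq' : (v ^ q)⁻¹ * x ∈ L ↥S k := L_anti (Nat.le_succ k) hq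
        have hN0 : N (cl _ hq') = 0 := by
          obtain ⟨w, hw⟩ := hWN 1 _ hq' hq
          rw [← hw, ← Module.End.mul_apply, ← pow_succ']
          exact hW0 2 (by omega) _ (hNW 2 w)
        rw [zero_add, pow_one, cl_congr x hx _ (mul_mem (zpow_mem hv q) hq')
          (mul_inv_cancel_left _ _).symm, cl_mul _ (zpow_mem hv q) _ hq', cl_zpow v hv, map_add, map_zsmul, hN0, add_zero] at hw
        haveI : NeZero p := ⟨hp.out.ne_zero⟩
        refine ⟨⟨((q : ℤ) : ZMod p).val, ZMod.val_lt _⟩, ?_⟩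
        rw [← sub_eq_iff_eq_add', ← hw, ← Int.cast_smul_eq_zsmul (ZMod p),
          ← Nat.cast_smul_eq_nsmul (ZMod p), ZMod.natCast_zmod_val]
      choose q hq using hu''
      have hP' : ∀ x : (P : Subgroup X), ∃ g, c g = (x : X) := fun x => (hP x).1 x.2
      choose g hg using hP'
      refine (Nat.card_le_card_of_injective (fun x => q (g x)) fun x y hxy => ?_).trans
        (Nat.card_fin p).le
      refine Subtype.ext (hfaith ?_)
      rw [← hg x, ← hg y]
      exact hcs _ _ (by rw [hq, hq]; simp only at hxy; rw [hxy])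
    rw [hcardP] at hle
    have := (Nat.pow_le_pow_iff_right hp.out.one_lt).1 (hle.trans_eq (pow_one p).symm)
    omega
  -- the bound on the dimension
  haveI : Nontrivial V := ⟨(N ^ (d - 1)) (cl v hv), 0, fun h0 => by
    obtain ⟨x, hx, hxi, hxi', he⟩ := hrep (d - 1) (by omega)
    rw [h0] at he
    exact hxi' (L_anti (by omega) ((hker x hx).1 he.symm))⟩
  have hdp : d ≤ p := by
    haveI : CharP (Module.End (ZMod p) V) p :=
      charP_of_injective_algebraMap (algebraMap (ZMod p) (Module.End (ZMod p) V)).injective p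
    have hcs : c s ^ p = 1 := by
      rw [← map_pow, hcker]
      refine L_anti hkn (h.mem_L_of_centralizes hsC (h.pow_mem_L_one (by omega) s) ?_)
      exact (Commute.pow_self s p).eq
    have h0 : N ^ p = 0 := by
      rw [hNdef, sub_pow_char_of_commute p (Commute.one_right _), one_pow, ← map_pow, hcs,
        map_one, sub_self]
    by_contra hc
    exact hblock (pow_eq_zero_of_le (by omega) h0)
  -- the pattern
  haveI hC1n : (C ↥S 1).Normal := ⟨fun y hy g => apply_mem_C (MulAut.conj g) hy⟩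
  have hC1i : (C ↥S 1).index = p := by
    have := (C ↥S 1).card_mul_index
    rw [C_one_index h hn, h.card, show n = n - 1 + 1 by omega, pow_succ] at this
    exact Nat.eq_of_mul_eq_mul_left (pow_pos hp.out.pos _) this
  have hcoset : ∀ g : S, ∃ a : ℕ, (s ^ a)⁻¹ * g ∈ C ↥S 1 := by
    intro g
    have htop : zpowers s ⊔ C ↥S 1 = ⊤ := by
      refine eq_top_of_le_card _ ?_
      have := h.card_lt_card_mul (lt_of_le_of_ne (le_sup_right : C ↥S 1 ≤ zpowers s ⊔ C ↥S 1)
        fun e => hsC 1 le_rfl (by omega) (by rw [e]; exact mem_sup_left (mem_zpowers s)))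
      rwa [C_one_index h hn, ← pow_succ, show n - 1 + 1 = n by omega, ← h.card] at this
    obtain ⟨x, hx, y, hy, rfl⟩ := mem_sup_of_normal_right.1 (htop.ge (mem_top g))
    obtain ⟨z, rfl⟩ := mem_zpowers_iff.1 hx
    refine ⟨(z % (p : ℤ)).toNat, ?_⟩
    have hr : (((z % (p : ℤ)).toNat : ℕ) : ℤ) = z % (p : ℤ) :=
      Int.toNat_of_nonneg (Int.emod_nonneg _ (by exact_mod_cast hp.out.ne_zero))
    rw [← zpow_natCast, hr, ← mul_assoc, ← zpow_neg, ← zpow_add,
      show -(z % (p : ℤ)) + z = (p : ℤ) * (z / p) by have := Int.emod_add_mul_ediv z p; linarith,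
      zpow_mul, zpow_natCast]
    refine mul_mem (zpow_mem ?_ _) hy
    have := Subgroup.pow_index_mem (C ↥S 1) s
    rwa [hC1i] at this
  have hpat : ∀ g : S, ∀ a : ℕ, (s ^ a)⁻¹ * g ∈ C ↥S 1 → ∀ i, i + 3 ≤ d → ∀ w,
      rho (c g) ((N ^ i) w) - (N ^ i) w - (a : ZMod p) • (N ^ (i + 1)) w ∈
        LinearMap.range (N ^ (i + 2)) := by
    intro g a hga i hi w
    set y := (s ^ a)⁻¹ * g with hy
    obtain ⟨x, hx, hxi, he⟩ := hNW i w
    have hy' : rho (c y) ((N ^ i) w) - (N ^ i) w ∈ LinearMap.range (N ^ (i + 2)) := by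
      rw [he, rho_c y x hx]
      have h2 : ⁅y, x⁆ ∈ L ↥S (k + (i + 2)) := by
        have := mem_C_of_lt h hp2 hga (k := k + i) (by omega) (by omega) x hxi
        rw [← commutatorElement_inv x y]
        exact inv_mem this
      have h1 := hWN (i + 2) ⁅y, x⁆ (L_anti (by omega) h2) h2
      convert h1 using 1
      rw [sub_eq_iff_eq_add, ← cl_mul ⁅y, x⁆ (L_anti (by omega) h2) x hx]
      exact cl_congr _ (hLn hx y) _ (mul_mem (L_anti (by omega) h2) hx) (by
        simp only [commutatorElement_def]; group)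
    have hpow : ∀ (b : ℕ) (u : V), rho (c (s ^ b)) u - u - (b : ZMod p) • N u ∈
        LinearMap.range (N ^ 2) ∧ rho (c (s ^ b)) ((N ^ i) u) - (N ^ i) u -
          (b : ZMod p) • (N ^ (i + 1)) u ∈ LinearMap.range (N ^ (i + 2)) := by
      intro b
      have hcomm : Commute (rho (c (s ^ b))) (N ^ i) := by
        refine Commute.pow_right ?_ i
        rw [hNdef, map_pow, map_pow]
        exact ((Commute.refl _).sub_right (Commute.one_right _)).pow_left b
      have hexp : ∀ u : V, ∃ r, rho (c (s ^ b)) u = u + (b : ZMod p) • N u + (N ^ 2) r := by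
        induction b with
        | zero => exact fun u => ⟨0, by simp⟩
        | succ b ih =>
          intro u
          obtain ⟨r, hr⟩ := ih (by
            refine Commute.pow_right ?_ i
            rw [hNdef, map_pow, map_pow]
            exact ((Commute.refl _).sub_right (Commute.one_right _)).pow_left b) u
          refine ⟨r + N r + (b : ZMod p) • u, ?_⟩
          rw [pow_succ', map_mul, map_mul, Module.End.mul_apply, hr,
            show rho (c s) = 1 + N by rw [hNdef]; abel]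
          simp only [LinearMap.add_apply, Module.End.one_apply, map_add, map_smul, Nat.cast_succ,
            add_smul, smul_add, one_smul, pow_two, Module.End.mul_apply]
          abel
      intro u
      obtain ⟨r, hr⟩ := hexp u
      refine ⟨⟨r, by rw [hr]; abel⟩, ⟨r, ?_⟩⟩
      rw [← Module.End.mul_apply, hcomm.eq, Module.End.mul_apply, hr, map_add, map_add, map_smul,
        ← Module.End.mul_apply, ← Module.End.mul_apply (N ^ i) (N ^ 2), ← pow_succ, ← pow_add]
      abel
    rw [show g = s ^ a * y by rw [hy, mul_inv_cancel_left], map_mul, map_mul, Module.End.mul_apply]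
    obtain ⟨r, hr⟩ := hy'
    obtain ⟨r', hr'⟩ := (hpow a w).2
    have hcomm2 : Commute (rho (c (s ^ a))) (N ^ (i + 2)) := by
      refine Commute.pow_right ?_ _
      rw [hNdef, map_pow, map_pow]
      exact ((Commute.refl _).sub_right (Commute.one_right _)).pow_left a
    refine ⟨r' + rho (c (s ^ a)) r, ?_⟩
    rw [map_add, ← Module.End.mul_apply, ← hcomm2.eq, Module.End.mul_apply, hr, map_sub, hr']
    abel
  obtain ⟨H, hH⟩ := exists_stronglyP_quot hS hF hE
  have hcardV : Nat.card V = p ^ d := by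
    have hle : frattini E = ((L ↥S m).map S.subtype).subgroupOf E := by
      ext y
      have h0 := hker ⟨(y : Ω), hES y.2⟩ ((hmemA _).1 y.2)
      rw [show cl ⟨(y : Ω), hES y.2⟩ ((hmemA _).1 y.2) = Additive.ofMul ((y : E ⧸ frattini E)) from rfl,
        show (0 : V) = Additive.ofMul (1 : E ⧸ frattini E) from rfl, Additive.ofMul.injective.eq_iff,
        QuotientGroup.eq_one_iff] at h0
      rw [h0, mem_subgroupOf]
      exact ⟨fun hy => ⟨_, hy, rfl⟩, fun ⟨z, hz, he⟩ => by
        have : z = ⟨(y : Ω), hES y.2⟩ := Subtype.ext he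
        exact this ▸ hz⟩
    have hcE : Nat.card E = p ^ (n - 1 - k) := by
      rw [← Nat.card_congr (Subgroup.subgroupOfEquivOfLe hES).toEquiv, hA, h.card_L hk1 (by omega)]
    have h1 := (frattini E).card_mul_index
    have h2 : Nat.card (frattini E) = p ^ (n - 1 - m) := by
      rw [hle, Nat.card_congr (Subgroup.subgroupOfEquivOfLe ?_).toEquiv,
        card_map_of_injective S.subtype_injective, h.card_L (by omega) hmn]
      rintro _ ⟨z, hz, rfl⟩
      exact (hmemA z).2 (L_anti hkm.le hz)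
    rw [h2, hcE, show n - 1 - k = n - 1 - m + d by omega, pow_add] at h1
    show Nat.card (E ⧸ frattini E) = p ^ d
    rw [← index_eq_card]
    exact Nat.eq_of_mul_eq_mul_left (pow_pos hp.out.pos _) h1
  let D : Datum p X V :=
    { rho := rho
      faithful := hfaith
      P := P
      card_P := hcardP ▸ Nat.pow_le_pow_right hp.out.pos (by omega)
      s := c s
      s_mem := (hP _).2 ⟨s, rfl⟩
      H := H
      strong := hH
      d := d
      card_V := hcardV
      three_le := hd3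
      le_p := hdp
      nil := hNd
      block := hblock
      flag := fun x hx => by
        obtain ⟨g, rfl⟩ := (hP x).1 hx
        exact hflag g
      pattern := fun x hx => by
        obtain ⟨g, rfl⟩ := (hP x).1 hx
        obtain ⟨a, ha⟩ := hcoset g
        exact ⟨(a : ZMod p), hpat g a ha⟩ }
  refine ⟨X, inferInstance, inferInstance, V, inferInstance, inferInstance, D, ?_⟩
  rcases Nat.lt_or_ge k 2 with hk2 | hk2
  · obtain rfl : k = 1 := by omega
    have hcomm : ∀ g ∈ (P : Subgroup X), ∀ g' ∈ (P : Subgroup X), g * g' = g' * g := by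
      intro x hx x' hx'
      obtain ⟨g, rfl⟩ := (hP x).1 hx
      obtain ⟨g', rfl⟩ := (hP x').1 hx'
      rw [← commutatorElement_eq_one_iff_mul_comm, ← map_commutatorElement, hcker]
      exact comm_top_mem (show g ∈ L ↥S 0 from mem_top g) g'
    refine ⟨fun _ => ⟨by rw [hcardP], ?_⟩, fun hc => absurd hcomm hc⟩
    intro t ht x hx hx1 hx0 a b hta htx w
    obtain ⟨α, rfl⟩ := hf t
    -- `α` normalises the automorphisms induced by `S`
    have hconj : ∀ β ∈ autInducedBy S E, (α : MulAut E) * β * (α : MulAut E)⁻¹ ∈ autInducedBy S E := by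
      intro β hβ
      have hβF := autInducedBy_le_autGroup (F := F) hES hβ
      have h1 : f (α * ⟨β, hβF⟩ * α⁻¹) ∈ (P : Subgroup X) := by
        rw [map_mul, map_mul, map_inv]
        exact (Subgroup.mem_normalizer_iff.1 ht _).1 ⟨⟨β, hβF⟩, by rw [hR]; exact hβ, rfl⟩
      obtain ⟨g, hg⟩ := (hP _).1 h1
      obtain ⟨δ, hδ⟩ : ∃ δ : F.autGroup E, δ = (⟨conjAut E (g : Ω) (hnorm g), hauto g⟩ : F.autGroup E)⁻¹ *
          (α * ⟨β, hβF⟩ * α⁻¹) := ⟨_, rfl⟩
      have hδ1 : quotHom E (δ : MulAut E) = 1 := by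
        have : f δ = 1 := by
          rw [hδ, map_mul, map_inv, inv_mul_eq_one]; exact hg
        exact congrArg Subtype.val this
      have hδm := inn_le_autInducedBy hES (mem_inn_of_quot_trivial hS hF hE δ.2 hδ1)
      have := mul_mem (mem_autInducedBy_normalizer.2 ⟨g, hnorm g, g.2, rfl⟩ :
        conjAut E (g : Ω) (hnorm g) ∈ autInducedBy S E) hδm
      rw [hδ] at this
      simpa [mul_assoc] using this
    obtain ⟨γ₀, -, hγ₀⟩ := exists_extend hS hF hE.2.1 α.2 hconj
    have hNS : normalizerIn S E = S := le_antisymm inf_le_left (le_inf le_rfl fun g hg => hnorm ⟨g, hg⟩)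
    let γ : MulAut S := MulAut.congr (MulEquiv.subgroupCongr hNS) γ₀
    have hγ : ∀ (y : S) (hy : (y : Ω) ∈ E), (γ y : Ω) = (α : MulAut E) ⟨(y : Ω), hy⟩ := fun y hy => by
      show ((γ₀ ((MulEquiv.subgroupCongr hNS).symm y)) : Ω) = _
      exact hγ₀ ⟨(y : Ω), hy⟩ ((MulEquiv.subgroupCongr hNS).symm y).2
    have hEq : ∀ g : S, f α * c g * (f α)⁻¹ = c (γ g) := by
      intro g
      show f α * f _ * (f α)⁻¹ = f _
      rw [← map_inv, ← map_mul, ← map_mul]
      refine congrArg f (Subtype.ext (MulEquiv.ext fun y => Subtype.ext ?_))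
      show ((α : MulAut E) (conjAut E (g : Ω) (hnorm g) ((α : MulAut E)⁻¹ y)) : Ω) = _
      set z := (α : MulAut E)⁻¹ y with hz
      have h3 : ((α : MulAut E) z : Ω) = y := by rw [hz, MulAut.apply_inv_self]
      rw [conjAut_apply, ← h3]
      have h1 := hγ (g * ⟨(z : Ω), hES z.2⟩ * g⁻¹) (conjAut E (g : Ω) (hnorm g) z).2
      rw [map_mul, map_mul, map_inv, coe_mul, coe_mul, coe_inv, hγ ⟨(z : Ω), hES z.2⟩ z.2] at h1
      exact h1.symm
    obtain ⟨g, rfl⟩ := (hP x).1 hx
    -- coefficients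
    have hcoef : ∀ (y : S) (a' : ℕ), (s ^ a')⁻¹ * y ∈ C ↥S 1 → ∀ a'' : ZMod p,
        D.Coef (c y) a'' → (a' : ZMod p) = a'' := by
      intro y a' hy a'' hc
      have h1 := hpat y a' hy 0 (by omega) (cl v hv)
      simp only [pow_zero, Module.End.one_apply, zero_add, pow_one] at h1
      have h2 : rho (c y) (cl v hv) - cl v hv - a'' • N (cl v hv) ∈ LinearMap.range (N ^ 2) :=
        hc (cl v hv)
      have h3 := sub_mem h2 h1
      rw [sub_sub_sub_cancel_left, ← sub_smul] at h3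
      by_contra hne
      obtain ⟨x, hx, hxi, hxi', he⟩ := hrep 1 (by omega)
      rw [pow_one] at he
      have h4 : cl x hx ∈ LinearMap.range (N ^ 2) := by
        rw [← he]
        have := Submodule.smul_mem _ ((a' : ZMod p) - a'')⁻¹ h3
        rwa [inv_smul_smul₀ (sub_ne_zero.2 hne)] at this
      obtain ⟨r, hr⟩ := h4
      obtain ⟨z, hz, hzi, hze⟩ := hNW 2 r
      rw [hr] at hze
      refine hxi' ?_
      have hm : x * z⁻¹ ∈ L ↥S m := (hker _ (mul_mem hx (inv_mem hz))).1 (by
        rw [cl_mul x hx _ (inv_mem hz), cl_inv z hz, hze, add_neg_cancel])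
      have := mul_mem (L_anti (show 1 + 1 + 1 ≤ m by omega) hm) hzi
      rwa [inv_mul_cancel_right] at this
    obtain ⟨a', ha'⟩ := hcoset (γ s)
    have haa : (a' : ZMod p) = (a : ZMod p) := hcoef _ a' ha' _ (by rw [← hEq]; exact hta)
    obtain ⟨g0, hg0⟩ := hcoset g
    have hg0' : (g0 : ZMod p) = 0 := hcoef g g0 hg0 0 hx0
    have hgC : g ∈ C ↥S 1 := by
      have hp' : (p : ℕ) ∣ g0 := (ZMod.natCast_eq_zero_iff _ _).1 hg0'
      obtain ⟨q, rfl⟩ := hp'
      have hsp : s ^ p ∈ C ↥S 1 := by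
        have := Subgroup.pow_index_mem (C ↥S 1) s
        rwa [hC1i] at this
      have := mul_mem (pow_mem hsp q) hg0
      rwa [← pow_mul, mul_inv_cancel_left] at this
    have hg1 : g ∉ L ↥S 1 := fun hc => hx1 ((hcker g).2 hc)
    have hgb : (g ^ (b : ℤ))⁻¹ * γ g ∈ L ↥S 1 := by
      rw [← hcker, map_mul, map_inv, zpow_natCast, map_pow, ← hEq, inv_mul_eq_one]
      exact htx.symm
    have hsa : (s ^ (a' : ℤ))⁻¹ * γ s ∈ C ↥S 1 := by rwa [zpow_natCast]
    have hbil := comm_bilinear h hn hgC hg1 hsa hgb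
    -- the top layer
    have hv0 : ⁅g, s⁆ ∈ L ↥S 1 := comm_top_mem (show g ∈ L ↥S 0 from mem_top g) s
    have hv0' : ⁅g, s⁆ ∉ L ↥S 2 := comm_notMem_two h hn hgC hg1 (hsC 1 le_rfl (by omega))
    obtain ⟨y, hy, rfl⟩ := cl_surj w
    obtain ⟨q, hq⟩ := h.exists_pow_mul_mem le_rfl hkn hv0 hv0' hy
    have hr : (⁅g, s⁆ ^ q)⁻¹ * y ∈ L ↥S 1 := L_anti (Nat.le_succ 1) hq
    have key : ∀ z (hz : z ∈ L ↥S 1), rho (f α) (cl z hz) = cl (γ z) (apply_mem_L γ hz) := by
      intro z hz
      rw [rho_f _ _ hz]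
      exact congrArg Additive.ofMul (congrArg _ (Subtype.ext (hγ z ((hmemA z).2 hz)).symm))
    have h2sub : ∀ z hz, z ∈ L ↥S 2 → cl z hz ∈ D.Fl 1 := fun z hz h2 => hWN 1 z hz h2
    rw [cl_congr y hy _ (mul_mem (zpow_mem hv0 q) hr) (mul_inv_cancel_left _ _).symm]
    show rho (f α) _ - ((a * b : ℕ) : ZMod p) • _ ∈ D.Fl 1
    rw [cl_mul _ (zpow_mem hv0 q) _ hr, cl_zpow _ hv0, map_add, map_zsmul, key _ hr, key _ hv0, smul_add, smul_comm]
    have e1 : cl (γ ⁅g, s⁆) (apply_mem_L γ hv0) - ((a * b : ℕ) : ZMod p) • cl ⁅g, s⁆ hv0 ∈ D.Fl 1 := by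
      have hd2 : (⁅g, s⁆ ^ ((a' : ℤ) * b))⁻¹ * γ ⁅g, s⁆ ∈ L ↥S 2 := by
        rw [← QuotientGroup.eq_one_iff, QuotientGroup.mk_mul, QuotientGroup.mk_inv,
          QuotientGroup.mk_zpow, map_commutatorElement, hbil, inv_mul_cancel]
      have hm1 : (⁅g, s⁆ ^ ((a' : ℤ) * b))⁻¹ ∈ L ↥S 1 := inv_mem (zpow_mem hv0 _)
      have hmm := h2sub _ (mul_mem hm1 (apply_mem_L γ hv0)) hd2
      rw [cl_mul _ hm1 _ (apply_mem_L γ hv0), cl_inv _ (zpow_mem hv0 _), cl_zpow _ hv0] at hmm
      rw [show ((a * b : ℕ) : ZMod p) = (((a' : ℤ) * b : ℤ) : ZMod p) by push_cast; rw [haa],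
        Int.cast_smul_eq_zsmul, sub_eq_neg_add]
      exact hmm
    have e2 := h2sub _ (apply_mem_L γ hr) (apply_mem_L γ hq)
    have e3 := Submodule.smul_mem (D.Fl 1) (((a * b : ℕ) : ZMod p)) (h2sub _ hr hq)
    convert sub_mem (add_mem (zsmul_mem e1 q) e2) e3 using 1
    rw [zsmul_sub, smul_comm q]
    abel
  · obtain ⟨y, hy1, hy2⟩ : ∃ y : S, ⁅y, s⁆ ∈ L ↥S (k - 1) ∧ ⁅y, s⁆ ∉ L ↥S k := by
      rcases Nat.lt_or_ge k 3 with hk3 | hk3
      · obtain rfl : k = 2 := by omega
        have hlt : L ↥S 1 < C ↥S 1 := lt_of_le_of_ne (L_one_le_C 1) fun e => by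
          have := C_one_index h hn
          rw [← e, h.card_L le_rfl (by omega)] at this
          have := Nat.pow_right_injective hp.out.two_le this
          omega
        obtain ⟨g, hg, hg1⟩ := SetLike.exists_of_lt hlt
        exact ⟨g, comm_top_mem (show g ∈ L ↥S 0 from mem_top g) s,
          comm_notMem_two h hn hg hg1 (hsC 1 le_rfl (by omega))⟩
      · obtain ⟨g, hg, hg'⟩ := SetLike.exists_of_lt (h.L_lt (k := k - 2) (by omega))
        have h1 := comm_top_mem hg s
        have h2 := h.comm_notMem (by omega) (by omega) hg hg' (hsC _ (by omega) (by omega))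
        rw [show k - 2 + 1 = k - 1 by omega] at h1
        rw [show k - 2 + 2 = k by omega] at h2
        exact ⟨g, h1, h2⟩
    have hne : ⁅c y, c s⁆ ≠ 1 := by
      rw [← map_commutatorElement, Ne, hcker]; exact hy2
    have hcent : ∀ x ∈ (P : Subgroup X), ⁅c y, c s⁆ * x = x * ⁅c y, c s⁆ := by
      intro x hx
      obtain ⟨g, rfl⟩ := (hP x).1 hx
      rw [← commutatorElement_eq_one_iff_mul_comm, ← map_commutatorElement, ← map_commutatorElement,
        hcker]
      have := comm_top_mem hy1 g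
      rwa [show k - 1 + 1 = k by omega] at this
    exact ⟨fun hc => absurd (commutatorElement_eq_one_iff_mul_comm.2
      (hc _ ((hP _).2 ⟨y, rfl⟩) _ ((hP _).2 ⟨s, rfl⟩))) hne,
      fun _ => ⟨c y, (hP _).2 ⟨y, rfl⟩, hne, hcent⟩⟩

end Cfsg.Agent.Lib.MaxClassEss85
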