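import Cfsg.Agent.Lib.MaxClassEss85.Spec

/-!
Dimension three: a group with a strongly `p`-embedded subgroup has no Sylow `p`-subgroup of order at
least `p ^ 2` lowering the flag of a single Jordan block of size three.  The Sylow subgroup contains
a transvection `x` with centre the bottom of the flag; two conjugates of `x`, one having its centre
on the axis of the other, lie in conjugates of the strongly embedded subgroup that coincide, and
the Sylow subgroup moves centres and axes around too freely for this.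
-/

set_option autoImplicit false

namespace Cfsg.Agent.Lib.MaxClassEss85.Three

universe u v

variable {p : ℕ} [hp : Fact p.Prime] {X : Type u} [Group X] [Finite X] {V : Type v}
  [AddCommGroup V] [Module (ZMod p) V]

/-- A subgroup containing `P` with the properties of a strongly embedded one. -/
theorem exists_local (D : Datum p X V) : ∃ K : Subgroup X, K ≠ ⊤ ∧ (D.P : Subgroup X) ≤ K ∧
    (∀ e ∈ K, e ≠ 1 → e ^ p = 1 → ∀ y : X, y * e = e * y → y ∈ K) ∧
    (∀ e ∈ K, e ≠ 1 → e ^ p = 1 → ∀ k : X, k * e * k⁻¹ ∈ K → k ∈ K) := by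
  obtain ⟨P', hP'⟩ := StronglyP.exists_sylow_le D.strong
  obtain ⟨g, hg⟩ := MulAction.exists_smul_eq X D.P P'
  refine ⟨D.H.comap (MulAut.conj g).toMonoidHom, fun h => D.strong.2.1 ?_, fun x hx => ?_, ?_, ?_⟩
  · refine eq_top_iff.2 fun y _ => ?_
    have h1 : g⁻¹ * y * g ∈ D.H.comap (MulAut.conj g).toMonoidHom := h ▸ Subgroup.mem_top _
    simpa [mul_assoc] using h1
  · refine Subgroup.mem_comap.2 (hP' ?_)
    rw [← hg, Sylow.coe_subgroup_smul]
    exact Subgroup.smul_mem_pointwise_smul x (MulAut.conj g) _ hx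
  · intro e he he1 hep y hy
    refine Subgroup.mem_comap.2 (StronglyP.centralizer_le D.strong (Subgroup.mem_comap.1 he)
      (by simpa using he1) ⟨1, by simp [← map_pow, pow_one, hep]⟩ ?_)
    rw [Subgroup.mem_centralizer_singleton_iff, ← map_mul, ← map_mul, hy]
  · intro e he he1 hep k hk
    refine Subgroup.mem_comap.2 (StronglyP.mem_of_conj_mem D.strong (Subgroup.mem_comap.1 he)
      (by simpa using he1) ⟨1, by simp [← map_pow, pow_one, hep]⟩ ?_)
    rw [← map_inv, ← map_mul, ← map_mul]
    exact Subgroup.mem_comap.1 hk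

/-- Powers of a transvection. -/
theorem pow_one_add {A : Module.End (ZMod p) V} (hA : A * A = 0) :
    ∀ n : ℕ, (1 + A) ^ n = 1 + n • A
  | 0 => by simp
  | n + 1 => by
    rw [pow_succ, pow_one_add hA n, add_mul, one_mul, smul_mul_assoc, mul_add, mul_one, hA,
      add_zero, succ_nsmul]
    abel

theorem pow_p_eq_one (D : Datum p X V) {e : X} {A : Module.End (ZMod p) V}
    (he : D.rho e = 1 + A) (hA : A * A = 0) : e ^ p = 1 := by
  refine D.faithful ?_
  have hz : (p • A : Module.End (ZMod p) V) = 0 := by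
    rw [← Nat.cast_smul_eq_nsmul (ZMod p), ZMod.natCast_self, zero_smul]
  rw [map_pow, map_one, he, pow_one_add hA, hz, add_zero]

/-- Coordinates with respect to a cyclic vector. -/
theorem exists_coords (D : Datum p X V) (hd : D.d = 3) :
    ∃ v0 : V, (∀ a b c : ZMod p, a • v0 + b • D.N v0 + c • D.N (D.N v0) = 0 → a = 0 ∧ b = 0 ∧ c = 0) ∧
      ∀ v : V, ∃ a b c : ZMod p, v = a • v0 + b • D.N v0 + c • D.N (D.N v0) := by
  have hN3 : ∀ v, D.N (D.N (D.N v)) = 0 := fun v => by
    have h := D.nil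
    rw [hd] at h
    exact congrArg (fun f : Module.End (ZMod p) V => f v) h
  obtain ⟨v0, hv0⟩ : ∃ v0, D.N (D.N v0) ≠ 0 := by
    by_contra! h
    refine D.block (LinearMap.ext fun v => ?_)
    rw [hd]
    exact h v
  have hli : ∀ a b c : ZMod p, a • v0 + b • D.N v0 + c • D.N (D.N v0) = 0 →
      a = 0 ∧ b = 0 ∧ c = 0 := by
    intro a b c h
    have h1 := congrArg (fun v => D.N (D.N v)) h
    simp [hN3, hv0] at h1
    have ha : a = 0 := h1
    have h2 := congrArg (fun v => D.N v) h
    simp [hN3, hv0, ha] at h2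
    have hb : b = 0 := h2
    simp [ha, hb, hv0] at h
    exact ⟨ha, hb, h⟩
  refine ⟨v0, hli, ?_⟩
  haveI : Finite V := Nat.finite_of_card_ne_zero (by
    rw [D.card_V]; exact pow_ne_zero _ hp.out.ne_zero)
  let f : ZMod p × ZMod p × ZMod p → V :=
    fun q => q.1 • v0 + q.2.1 • D.N v0 + q.2.2 • D.N (D.N v0)
  have hinj : Function.Injective f := by
    rintro ⟨a, b, c⟩ ⟨a', b', c'⟩ h
    obtain ⟨ha, hb, hc⟩ := hli (a - a') (b - b') (c - c') (by
      simp only [f] at h
      linear_combination (norm := module) h)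
    rw [sub_eq_zero.1 ha, sub_eq_zero.1 hb, sub_eq_zero.1 hc]
  have hcard : Nat.card (ZMod p × ZMod p × ZMod p) = Nat.card V := by
    rw [D.card_V, hd, Nat.card_prod, Nat.card_prod, Nat.card_zmod]
    ring
  intro v
  obtain ⟨⟨a, b, c⟩, h⟩ := ((Nat.bijective_iff_injective_and_card f).2 ⟨hinj, hcard⟩).2 v
  exact ⟨a, b, c, h.symm⟩

/-- Dimension three leads to a contradiction. -/
theorem threeStmt : ThreeStmt.{u, v} := by
  intro p hp X _ _ V _ _ _hp5 D hd
  obtain ⟨K, hKtop, hPK, hKC, hKM⟩ := exists_local D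
  obtain ⟨v0, hli, hco⟩ := exists_coords D hd
  set e1 := D.N v0 with he1
  set e2 := D.N e1 with he2
  have hN2 : D.N e2 = 0 := by
    have h := D.nil
    rw [hd] at h
    exact congrArg (fun f : Module.End (ZMod p) V => f v0) h
  have he20 : e2 ≠ 0 := fun h => one_ne_zero ((hli 0 0 1 (by simp [h])).2.2)
  have hext : ∀ A B : Module.End (ZMod p) V, A v0 = B v0 → A e1 = B e1 → A e2 = B e2 → A = B := by
    intro A B h0 h1 h2
    refine LinearMap.ext fun v => ?_
    obtain ⟨a, b, c, rfl⟩ := hco v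
    simp [map_add, map_smul, h0, h1, h2]
  have hN3 : D.N * (D.N * D.N) = 0 := hext _ _ (by simp [← he1, ← he2, hN2])
    (by simp [← he2, hN2]) (by simp [hN2])
  -- the matrices of the elements of `P`
  have hshape : ∀ g ∈ (D.P : Subgroup X), ∃ a b c : ZMod p,
      D.rho g v0 = v0 + a • e1 + c • e2 ∧ D.rho g e1 = e1 + b • e2 ∧ D.rho g e2 = e2 := by
    intro g hg
    obtain ⟨w, hw⟩ := D.flag g hg 0 v0
    obtain ⟨w', hw'⟩ := D.flag g hg 1 v0
    obtain ⟨w'', hw''⟩ := D.flag g hg 2 v0
    obtain ⟨a, b, c, rfl⟩ := hco w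
    obtain ⟨a', b', c', rfl⟩ := hco w'
    obtain ⟨a'', b'', c'', rfl⟩ := hco w''
    rw [show D.rho D.s - 1 = D.N from rfl] at hw hw' hw''
    simp only [pow_zero, pow_one, pow_succ, Nat.reduceAdd, Module.End.one_apply,
      Module.End.mul_apply, one_mul, map_add, map_smul, ← he1, ← he2, hN2, smul_zero, map_zero,
      add_zero] at hw hw' hw''
    exact ⟨a, a', b, by rw [add_assoc, hw]; abel, by rw [hw']; abel, sub_eq_zero.1 hw''.symm⟩
  have hs : D.rho D.s = 1 + D.N := by
    show D.rho D.s = 1 + (D.rho D.s - 1)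
    abel
  -- a transvection in `P`
  obtain ⟨x, hxP, c, hc, hx⟩ :
      ∃ x ∈ (D.P : Subgroup X), ∃ c : ZMod p, c ≠ 0 ∧ D.rho x = 1 + c • (D.N * D.N) := by
    have hspow : ∀ n : ℕ, D.rho (D.s ^ n) v0 - v0 - (n : ZMod p) • e1 ∈
        Submodule.span (ZMod p) {e2} ∧ D.rho (D.s ^ n) e1 = e1 + (n : ZMod p) • e2 ∧
        D.rho (D.s ^ n) e2 = e2 := by
      intro n
      induction n with
      | zero => simp
      | succ n ih =>
        obtain ⟨h0, h1, h2⟩ := ih
        obtain ⟨t, ht⟩ := Submodule.mem_span_singleton.1 h0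
        have h0' : D.rho (D.s ^ n) v0 = v0 + (n : ZMod p) • e1 + t • e2 := by rw [ht]; abel
        refine ⟨Submodule.mem_span_singleton.2 ⟨t + n, ?_⟩, ?_, ?_⟩
        · rw [pow_succ', map_mul, Module.End.mul_apply, h0', hs]
          simp [← he1, ← he2, hN2]
          module
        · rw [pow_succ', map_mul, Module.End.mul_apply, h1, hs]
          simp [← he2, hN2]
          module
        · rw [pow_succ', map_mul, Module.End.mul_apply, h2, hs]
          simp [hN2]
    obtain ⟨g, hgP, hgs⟩ : ∃ g ∈ (D.P : Subgroup X), g ∉ Subgroup.zpowers D.s := by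
      by_contra! h
      have hle : Nat.card (D.P : Subgroup X) ≤ orderOf D.s := by
        rw [← Nat.card_zpowers]; exact Subgroup.card_le_of_le h
      have hsp : D.s ^ p = 1 := by
        refine D.faithful ?_
        have hc : Commute (1 : Module.End (ZMod p) V) D.N := Commute.one_left _
        obtain ⟨h0, h1, h2⟩ := hspow p
        obtain ⟨t, ht⟩ := Submodule.mem_span_singleton.1 h0
        rw [map_one, map_pow, hs, hc.add_pow]
        refine (Finset.sum_eq_single p ?_ ?_).trans (by simp)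
        · intro i hi hip
          rw [one_pow, one_mul]
          rcases Nat.lt_or_ge (p - i) 3 with hlt | hge
          · have hi' : i ≤ p := Nat.lt_succ_iff.1 (Finset.mem_range.1 hi)
            have hdvd : p ∣ p.choose i := hp.out.dvd_choose_self (by omega) (lt_of_le_of_ne hi' hip)
            rw [← nsmul_eq_mul', ← Nat.cast_smul_eq_nsmul (ZMod p),
              (ZMod.natCast_eq_zero_iff _ _).2 hdvd, zero_smul]
          · obtain ⟨k, hk⟩ := Nat.exists_eq_add_of_le hge
            rw [hk, pow_add, pow_succ, pow_two, mul_assoc D.N D.N D.N, hN3]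
            simp
        · simp
      have hle' := le_trans D.card_P (le_trans hle (Nat.le_of_dvd hp.out.pos (orderOf_dvd_of_pow_eq_one hsp)))
      nlinarith [hp.out.two_le]
    obtain ⟨a, b, t, h0, h1, h2⟩ := hshape g hgP
    obtain ⟨g', hg'⟩ : ∃ g', g' = D.s ^ (-a).val * g := ⟨_, rfl⟩
    have hg'P : g' ∈ (D.P : Subgroup X) :=
      hg' ▸ mul_mem (Subgroup.pow_mem _ D.s_mem _) hgP
    have hg'1 : g' ≠ 1 := fun h => hgs (by
      rw [hg', mul_eq_one_iff_inv_eq] at h
      exact h ▸ inv_mem (Subgroup.pow_mem _ (Subgroup.mem_zpowers _) _))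
    obtain ⟨k0, k1, k2⟩ := hspow (-a).val
    obtain ⟨r, hr⟩ := Submodule.mem_span_singleton.1 k0
    rw [ZMod.natCast_zmod_val] at hr k1
    have g0 : D.rho g' v0 = v0 + (r + t + -a * a) • e2 := by
      rw [hg', map_mul, Module.End.mul_apply, h0, map_add, map_add, map_smul, map_smul, k1, k2,
        show D.rho (D.s ^ (-a).val) v0 = v0 + -a • e1 + r • e2 by rw [hr]; abel]
      module
    have g1 : D.rho g' e1 = e1 + (-a + b) • e2 := by
      rw [hg', map_mul, Module.End.mul_apply, h1, map_add, map_smul, k1, k2]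
      module
    have g2 : D.rho g' e2 = e2 := by rw [hg', map_mul, Module.End.mul_apply, h2, k2]
    set β := -a + b
    set γ := r + t + -a * a
    by_cases hβ : β = 0
    · refine ⟨g', hg'P, γ, fun hγ => hg'1 (D.faithful ?_), ?_⟩
      · rw [map_one]
        exact hext _ _ (by simp [g0, hγ]) (by simp [g1, hβ]) (by simp [g2])
      · exact hext _ _ (by simp [g0, ← he1, ← he2]) (by simp [g1, hβ, ← he2, hN2])
          (by simp [g2, hN2])
    · refine ⟨g' * D.s * (D.s * g')⁻¹, mul_mem (mul_mem hg'P D.s_mem)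
        (inv_mem (mul_mem D.s_mem hg'P)), β, hβ, ?_⟩
      have hu : IsUnit (D.rho (D.s * g')) := (Group.isUnit _).map D.rho
      refine hu.mul_right_cancel ?_
      rw [← map_mul, inv_mul_cancel_right, map_mul, map_mul, hs]
      refine hext _ _ ?_ ?_ ?_
      · simp [g0, g1, g2, ← he1, ← he2, hN2]
        module
      · simp [g1, g2, ← he1, ← he2, hN2]
      · simp [g2, ← he1, ← he2, hN2]
  set A := c • (D.N * D.N) with hA
  have hA0 : A * A = 0 := by
    rw [hA, smul_mul_smul_comm, mul_assoc, hN3, mul_zero, smul_zero]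
  have hxK : x ∈ K := hPK hxP
  have hxp : x ^ p = 1 := pow_p_eq_one D hx hA0
  have hx1 : x ≠ 1 := by
    rintro rfl
    rw [map_one, left_eq_add, hA] at hx
    have := congrArg (fun f : Module.End (ZMod p) V => f v0) hx
    simp [← he1, ← he2, hc, he20] at this
  have hAv : ∀ v : V, ∃ l : ZMod p, D.N (D.N v) = l • e2 := by
    intro v
    obtain ⟨a, b, t, rfl⟩ := hco v
    exact ⟨a, by simp [← he1, ← he2, hN2]⟩
  -- a centre on the axis
  have key : ∀ k : X, D.N (D.N (D.rho k e2)) = 0 → k ∈ K := by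
    intro k hk
    set B := D.rho k * A * D.rho k⁻¹ with hB
    have hinv : D.rho k⁻¹ * D.rho k = 1 := by rw [← map_mul, inv_mul_cancel, map_one]
    have hy : D.rho (k * x * k⁻¹) = 1 + B := by
      rw [map_mul, map_mul, hx, hB, mul_add, add_mul, mul_one, ← map_mul D.rho k, mul_inv_cancel, map_one]
    have hB0 : B * B = 0 := by
      rw [hB, mul_assoc (D.rho k * A), ← mul_assoc (D.rho k⁻¹), ← mul_assoc (D.rho k⁻¹), hinv,
        one_mul, mul_assoc (D.rho k), ← mul_assoc A, hA0, zero_mul, mul_zero]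
    have hAB : A * B = 0 := by
      refine LinearMap.ext fun v => ?_
      obtain ⟨l, hl⟩ := hAv (D.rho k⁻¹ v)
      simp [hA, hB, hl, hk]
    suffices hyK : k * x * k⁻¹ ∈ K from hKM x hxK hx1 hxp k hyK
    generalize k * x * k⁻¹ = y at hy ⊢
    obtain ⟨e, he⟩ : ∃ e, e = y * x * (x * y)⁻¹ := ⟨_, rfl⟩
    have hρe : D.rho e = 1 + B * A := by
      have hu : IsUnit (D.rho (x * y)) := (Group.isUnit _).map D.rho
      refine hu.mul_right_cancel ?_
      rw [← map_mul, he, inv_mul_cancel_right, map_mul, map_mul, hx, hy]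
      simp only [mul_add, add_mul, one_mul, mul_one, hAB, add_zero, zero_add, mul_assoc, hA0,
        mul_zero]
      abel
    rcases eq_or_ne e 1 with h1 | h1
    · exact hKC x hxK hx1 hxp y (mul_inv_eq_one.1 (he ▸ h1))
    · have hBA : (B * A) * (B * A) = 0 := by
        rw [mul_assoc, ← mul_assoc A, hAB, zero_mul, mul_zero]
      have hex : e * x = x * e := D.faithful (by
        rw [map_mul, map_mul, hρe, hx]
        simp only [mul_add, add_mul, one_mul, mul_one, mul_assoc, hA0, mul_zero]
        rw [← mul_assoc A B, hAB, zero_mul]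
        abel)
      refine hKC e (hKC x hxK hx1 hxp e hex) h1 (pow_p_eq_one D hρe hBA) y (D.faithful ?_)
      rw [map_mul, map_mul, hρe, hy]
      simp only [mul_add, add_mul, one_mul, mul_one, mul_assoc, hAB, mul_zero]
      rw [← mul_assoc B B, hB0, zero_mul]
      abel
  -- the operators `1 + i N + t N ^ 2` in `P`
  have hops : ∀ i t : ZMod p, ∃ k ∈ (D.P : Subgroup X),
      D.rho k = 1 + i • D.N + t • (D.N * D.N) := by
    intro i t
    have hpow : ∀ n : ℕ, ∃ l : ZMod p,
        D.rho (D.s ^ n) = 1 + (n : ZMod p) • D.N + l • (D.N * D.N) := by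
      intro n
      induction n with
      | zero => exact ⟨0, by simp⟩
      | succ n ih =>
        obtain ⟨l, hl⟩ := ih
        refine ⟨l + n, ?_⟩
        rw [pow_succ', map_mul, hs, hl, add_mul, one_mul, mul_add, mul_add, mul_smul_comm,
          mul_smul_comm, hN3, mul_one, Nat.cast_succ]
        module
    obtain ⟨l, hl⟩ := hpow i.val
    refine ⟨D.s ^ i.val * x ^ ((t - l) * c⁻¹).val,
      mul_mem (Subgroup.pow_mem _ D.s_mem _) (Subgroup.pow_mem _ hxP _), ?_⟩
    rw [map_mul, hl, map_pow, hx, pow_one_add hA0, ← Nat.cast_smul_eq_nsmul (ZMod p),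
      ZMod.natCast_zmod_val, ZMod.natCast_zmod_val, hA, smul_smul, mul_assoc, inv_mul_cancel₀ hc,
      mul_one]
    simp only [mul_add, add_mul, one_mul, mul_one, smul_mul_smul_comm, mul_assoc, hN3, mul_zero,
      smul_zero, add_zero]
    module
  have hρinv : ∀ (g : X) (v : V), D.rho g⁻¹ (D.rho g v) = v := fun g v => by
    rw [← Module.End.mul_apply, ← map_mul, inv_mul_cancel, map_one, Module.End.one_apply]
  obtain ⟨g, hg⟩ : ∃ g, g ∉ K := by
    by_contra! h
    exact hKtop (eq_top_iff.2 fun y _ => h y)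
  obtain ⟨wa, wb, wc, hw⟩ := hco (D.rho g e2)
  have hwa : wa ≠ 0 := fun h => hg (key g (by simp [hw, h, ← he1, ← he2, hN2]))
  -- a point of the axis outside the plane of the flag, different from the centre
  obtain ⟨τ, hτ⟩ : ∃ τ : ZMod p, D.N (D.N (D.rho g (e1 + τ • e2))) ≠ 0 := by
    by_contra! h
    have h0 := h 0
    have h1 := h 1
    simp at h0
    simp [h0] at h1
    exact hg (key g h1)
  set f := e1 + τ • e2 with hf
  obtain ⟨va, vb, vc, hv⟩ := hco (D.rho g f)
  have hva : va ≠ 0 := fun h => hτ (by simp [hv, h, ← he1, ← he2, hN2])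
  obtain ⟨k, hkP, hk⟩ : ∃ k ∈ (D.P : Subgroup X),
      va • D.rho k (D.rho g e2) = wa • D.rho g f := by
    obtain ⟨k, hkP, hk⟩ := hops ((wa * vb - va * wb) / (va * wa))
      ((wa * vc - va * wc - va * ((wa * vb - va * wb) / (va * wa)) * wb) / (va * wa))
    refine ⟨k, hkP, ?_⟩
    rw [hw, hv, hk]
    simp [← he1, ← he2, hN2, smul_add, smul_smul]
    match_scalars
    · ring
    · field_simp
      ring
    · field_simp
      ring
  set h := g⁻¹ * (k * g) with hh
  have hhe : va • D.rho h e2 = wa • f := by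
    rw [hh, map_mul, map_mul, Module.End.mul_apply, Module.End.mul_apply, ← map_smul, hk,
      map_smul, hρinv]
  have hhK : h ∈ K := by
    refine key h ?_
    have h1 := congrArg (fun v => D.N (D.N v)) hhe
    simp [hf, ← he2, hN2, hva] at h1
    exact h1
  -- an axis through that centre
  obtain ⟨l1, hl1⟩ := hAv (D.rho g e1)
  have hwN : D.N (D.N (D.rho g e2)) = wa • e2 := by simp [hw, ← he1, ← he2, hN2]
  set z := wa • e1 - l1 • e2 with hz
  have hzN : D.N (D.N z) = 0 := by simp [hz, ← he2, hN2]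
  have hmN : D.N (D.N (D.rho g z)) = 0 := by
    simp [hz, hl1, hwN]
    module
  obtain ⟨ma, mb, mc, hm⟩ := hco (D.rho g z)
  have hma : ma = 0 := by
    rw [hm] at hmN
    simpa [← he1, ← he2, hN2, he20] using hmN
  have hmb : mb ≠ 0 := by
    intro hmb
    have hmc : mc ≠ 0 := by
      intro hmc
      have h0 : z = 0 := by
        rw [← hρinv g z, hm, hma, hmb, hmc]
        simp
      exact hwa (hli 0 wa (-l1) (by rw [← h0, hz]; simp [sub_eq_add_neg])).2.1
    refine hg (inv_mem_iff.1 (key g⁻¹ ?_))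
    have h1 : mc • D.rho g⁻¹ e2 = z := by
      have h2 := hρinv g z
      rw [hm, hma, hmb] at h2
      simpa using h2
    have h3 := congrArg (fun v => D.N (D.N v)) h1
    simpa [hzN, hmc] using h3
  obtain ⟨k', hk'P, hk'⟩ : ∃ k' ∈ (D.P : Subgroup X), D.rho k' (D.rho g z) = mb • f := by
    obtain ⟨k', hk'P, hk'⟩ := hops ((mb * τ - mc) / mb) 0
    refine ⟨k', hk'P, ?_⟩
    rw [hm, hma, hk', hf]
    simp [← he1, ← he2, hN2, smul_smul]
    match_scalars
    · ring
    · field_simp
      ring
  have h2K : (k' * g)⁻¹ * h ∈ K := by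
    refine key _ ?_
    have h1 : mb • D.rho (k' * g)⁻¹ f = z := by
      rw [← map_smul, ← hk', ← Module.End.mul_apply (D.rho k'), ← map_mul, hρinv]
    have h3 := congrArg (fun v => D.N (D.N (D.rho (k' * g)⁻¹ v))) hhe
    have h4 : D.N (D.N (D.rho (k' * g)⁻¹ f)) = 0 := by
      refine (smul_eq_zero.1 ?_).resolve_left hmb
      rw [← map_smul, ← map_smul, h1, hzN]
    simp only [map_smul, h4, smul_zero, smul_eq_zero, hva, false_or] at h3
    rw [map_mul, Module.End.mul_apply]
    exact h3
  refine hg ?_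
  have h5 : k' * g ∈ K := by
    have := K.mul_mem hhK (K.inv_mem h2K)
    simpa [mul_assoc] using this
  simpa using K.mul_mem (K.inv_mem (hPK hk'P)) h5

end Cfsg.Agent.Lib.MaxClassEss85.Three

namespace Cfsg.Agent.Lib.MaxClassEss85

universe u v

/-- Dimension three leads to a contradiction. -/
theorem threeStmt : ThreeStmt.{u, v} := Three.threeStmt

end Cfsg.Agent.Lib.MaxClassEss85
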