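import Cfsg.Agent.Lib.MaxClassEss85.Maximal
import Cfsg.Agent.Lib.MaxClassEss85.Setting
import Cfsg.Agent.Lib.MaxClassEss85.Pure
import Cfsg.Agent.Lib.MaxClassEss85.Three

/-!
A normal essential subgroup of a `p`-group of maximal class, given the two statements about
groups with a strongly `p`-embedded subgroup.
-/

set_option autoImplicit false

namespace Cfsg.Agent.Lib.MaxClassEss85

open Cfsg Cfsg.FusionSystem Cfsg.Agent.Lib.Fusion Cfsg.Agent.Lib.Fusion87
  Cfsg.Agent.Lib.H66.MaxClass Cfsg.Agent.Lib.FusionOrderFive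
open scoped commutatorElement

universe u

theorem main_of (hQ : QuadStmt.{u, u}) (hAb : AbelStmt.{u, u}) {Ω : Type u} [Group Ω] {S : Subgroup Ω}
    [Finite S] (p : ℕ) [Fact p.Prime] (hS : IsPGroup p ↥S) (n : ℕ) (hn : Nat.card S = p ^ n)
    (h4 : 4 ≤ n) (hmax : Subgroup.lowerCentralSeries S (n - 2) ≠ ⊥) (F : Cfsg.FusionSystem S)
    (hF : F.IsSaturated p) (hp : 5 ≤ p) (Γ₁ : Subgroup Ω)
    (hΓ₁ : ∀ x : Ω, x ∈ Γ₁ ↔ x ∈ S ∧ ∀ y ∈ Subgroup.lowerCentralSeries S 1,
      x * y * x⁻¹ * y⁻¹ ∈ Subgroup.lowerCentralSeries S 3)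
    (E : Subgroup Ω) (hE : F.IsEssential p E) (hEn : (E.subgroupOf S).Normal) :
    (E.subgroupOf S).index = p ∧ (E = Γ₁ ∨
      E = (S ⊓ Subgroup.centralizer (((Subgroup.upperCentralSeries ↥S 2).map S.subtype) : Set Ω)) ∨
      (n = 4 ∧ Nat.card ↥E = p ^ 3 ∧ Cfsg.IsExtraspecial p ↥E ∧ Monoid.exponent ↥E = p)) := by
  have hp2 : p ≠ 2 := by omega
  haveI := hS.isNilpotent
  haveI := hEn
  have hM : IsMax p ↥S n := by
    refine ⟨hn, by omega, le_antisymm (Lib.PLemmas.nilpotencyClass_le hS hn (by omega)) ?_⟩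
    by_contra h
    refine hmax ?_
    have hbot : (⊤ : Subgroup ↥S).lowerCentralSeries (n - 2) = ⊥ :=
      Subgroup.lowerCentralSeries_eq_bot_iff_nilpotencyClass_le.mpr (by omega)
    have h2 := congrArg (Subgroup.map S.subtype) hbot
    rwa [Subgroup.map_lowerCentralSeries, ← MonoidHom.range_eq_map, Subgroup.range_subtype,
      Subgroup.map_bot] at h2
  have hES := hE.1.1
  set A := E.subgroupOf S with hA
  have hb : A ≠ ⊥ := by
    intro hb
    have hE1 : E = ⊥ := (Subgroup.subgroupOf_eq_bot.1 hb).eq_bot_of_le hES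
    have hsub : centralizerIn S E ≤ E :=
      hE.1.2 E (isConj_refl hES)
    have hcS : centralizerIn S E = S := by
      refine le_antisymm inf_le_left (le_inf le_rfl fun g _ => ?_)
      rw [Subgroup.mem_centralizer_iff, hE1]
      intro y hy
      rw [SetLike.mem_coe, Subgroup.mem_bot] at hy
      rw [hy, one_mul, mul_one]
    rw [hcS, hE1, le_bot_iff] at hsub
    have : Nat.card S = 1 := by rw [hsub, Subgroup.card_bot]
    rw [hn] at this
    exact absurd this (Nat.one_lt_pow (by omega) (by omega)).ne'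
  have hne : A ≠ ⊤ := fun h =>
    not_isEssential_self hS hF ((le_antisymm hES (Subgroup.subgroupOf_eq_top.1 h)) ▸ hE)
  have hidx : A.index = p := by
    by_contra hidx
    have hlt : p < A.index := by
      obtain ⟨i, hi⟩ := hS.index A
      rcases Nat.lt_or_ge i 2 with h2 | h2
      · interval_cases i
        · exact absurd (Subgroup.index_eq_one.1 hi) hne
        · exact absurd (hi.trans (pow_one p)) hidx
      · rw [hi]
        calc p < p ^ 2 := lt_self_pow₀ (by omega) (by omega)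
          _ ≤ p ^ i := Nat.pow_le_pow_right (by omega) h2
    obtain ⟨k, hk1, hkn, hk⟩ := exists_eq_L hM h4 A hlt hb
    obtain ⟨X, _, _, V, _, _, D, hab, hna⟩ := exists_datum hS hF hp2 hM h4 hE hk1 hkn hk
    exact false_of_datum hp hQ hAb threeStmt.{u, u} D hab fun h => by
      obtain ⟨y, hy, h1, h2⟩ := hna h
      exact ⟨y, hy, h1, h2⟩
  refine ⟨hidx, ?_⟩
  have hL : ∀ i, ∀ x : S, (x : Ω) ∈ Subgroup.lowerCentralSeries S i ↔ x ∈ L ↥S i := by
    intro i x
    have h1 := Subgroup.map_lowerCentralSeries (⊤ : Subgroup S) S.subtype i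
    rw [← MonoidHom.range_eq_map, Subgroup.range_subtype] at h1
    rw [← h1]
    exact Subgroup.mem_map_iff_mem S.subtype_injective
  have hLS : ∀ i, ∀ y ∈ Subgroup.lowerCentralSeries S i, y ∈ S := fun i y hy =>
    Subgroup.lowerCentralSeries_le_self S i hy
  by_cases h1 : A = C ↥S 1
  · refine Or.inl ?_
    have hm : ∀ x : S, x ∈ C ↥S 1 ↔ (x : Ω) ∈ Γ₁ := by
      intro x
      rw [hΓ₁]
      constructor
      · intro hx
        refine ⟨x.2, fun y hy => ?_⟩
        have h2 : ⁅x, (⟨y, hLS 1 y hy⟩ : S)⁆ ∈ L ↥S 3 := by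
          rw [← commutatorElement_inv]
          exact inv_mem (hx _ ((hL 1 ⟨y, hLS 1 y hy⟩).1 hy))
        have h3 := (hL 3 _).2 h2
        simpa [commutatorElement_def] using h3
      · rintro ⟨-, hx⟩ u hu
        rw [← commutatorElement_inv]
        refine inv_mem ((hL 3 _).1 ?_)
        simpa [commutatorElement_def] using hx u ((hL 1 u).2 hu)
    ext x
    constructor
    · intro hx
      have : (⟨x, hES hx⟩ : S) ∈ A := hx
      rw [h1, hm] at this
      exact this
    · intro hx
      have : (⟨x, ((hΓ₁ x).1 hx).1⟩ : S) ∈ C ↥S 1 := (hm _).2 hx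
      rw [← h1] at this
      exact this
  by_cases h3 : A = C ↥S (n - 3)
  · refine Or.inr (Or.inl ?_)
    have hm : ∀ x : S, x ∈ C ↥S (n - 3) ↔
        (x : Ω) ∈ Subgroup.centralizer (((Subgroup.upperCentralSeries ↥S 2).map S.subtype) : Set Ω) := by
      intro x
      rw [← centralizer_L_eq hM h4, upperCentralSeries_two hM h4, Subgroup.mem_centralizer_iff,
        Subgroup.mem_centralizer_iff]
      constructor
      · rintro hx _ ⟨y, hy, rfl⟩
        exact congrArg Subtype.val (hx y hy)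
      · intro hx y hy
        exact Subtype.ext (hx y ⟨y, hy, rfl⟩)
    ext x
    constructor
    · intro hx
      have : (⟨x, hES hx⟩ : S) ∈ A := hx
      rw [h3, hm] at this
      exact ⟨hES hx, this⟩
    · intro hx
      have : (⟨x, hx.1⟩ : S) ∈ C ↥S (n - 3) := (hm _).2 hx.2
      rw [← h3] at this
      exact this
  exact Or.inr (Or.inr (maximal_case hS hF hp2 hM h4 hE hidx h1 h3))

end Cfsg.Agent.Lib.MaxClassEss85
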